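import Groth.Agent.ProjCoh.TensorSections
import Groth.Agent.ProjTwist.QCoh
import Groth.Agent.QCohLib.FiniteType
import Groth.Agent.QCohLib.Coherent

/-!
# Tensor products with locally freely generated modules preserve coherence
-/

set_option autoImplicit false
universe u
open CategoryTheory AlgebraicGeometry Opposite TopologicalSpace

namespace Groth.Agent.ProjCoh

variable {X : Scheme.{u}} (M : X.Modules) {L : X.Modules}

/-- The identification of sections given by a generator. -/
noncomputable def genEquiv {U : X.Opens} {g : Γ(L, U)} (hg : IsFreeGen L g) {V : X.Opens} (hV : V ≤ U) :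
    Γ(M, V) ≃ₗ[Γ(X, V)] Γ(CohB1.tensorMod M L, V) :=
  LinearEquiv.ofBijective (R := Γ(X, V)) (M := Γ(M, V)) (M₂ := Γ(CohB1.tensorMod M L, V))
    { toFun := fun (m : Γ(M, V)) => SecTwist.tmul M L V m (L.presheaf.map (homOfLE hV).op g)
      map_add' := fun _ _ => tmul_add_left M L V _ _ _
      map_smul' := fun _ _ => tmul_smul_left M L V _ _ _ }
    (tmul_gen_bijective M hg hV)

lemma genEquiv_res {U : X.Opens} {g : Γ(L, U)} (hg : IsFreeGen L g) {V W : X.Opens} (hV : V ≤ U)
    (h : W ≤ V) (m : Γ(M, V)) :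
    (CohB1.tensorMod M L).presheaf.map (homOfLE h).op (genEquiv M hg hV m) =
      genEquiv M hg (h.trans hV) (M.presheaf.map (homOfLE h).op m) := by
  refine (map_tmul_gen M L h m _).trans ?_
  exact congrArg _ (ProjTwist.map_map L h hV g)

/-- Every point has an affine neighbourhood on which `L` has a free generator. -/
def LocFreeGen (L : X.Modules) : Prop :=
  ∀ x : X, ∃ (W : X.affineOpens) (g : Γ(L, W.1)), x ∈ W.1 ∧ IsFreeGen L g

theorem isQuasicoherent_tensor_of_gen [M.IsQuasicoherent] (hL : LocFreeGen L) :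
    (CohB1.tensorMod M L).IsQuasicoherent := by
  choose W g hxW hg using hL
  refine ProjTwist.isQuasicoherent_of_cover_sections _ W (fun x => ⟨x, hxW x⟩) (fun i f x hx => ?_)
    fun i f s => ?_
  · obtain ⟨m, rfl⟩ := (genEquiv M (hg i) le_rfl).surjective x
    rw [genEquiv_res, LinearEquiv.map_eq_zero_iff] at hx
    obtain ⟨k, hk⟩ := QCohLib.exists_pow_smul_eq_zero (W i).2 f _ (X.basicOpen_le f) rfl m hx
    exact ⟨k, by rw [← map_smul, hk, map_zero]⟩
  · obtain ⟨t, rfl⟩ := (genEquiv M (hg i) (X.basicOpen_le f)).surjective s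
    obtain ⟨k, m, hm⟩ := QCohLib.exists_res_eq_pow_smul (W i).2 f _ (X.basicOpen_le f) rfl t
    exact ⟨k, genEquiv M (hg i) le_rfl m, by rw [genEquiv_res, hm, map_smul]⟩

theorem isCoh_tensor_of_gen (hM : Coh.IsCoh M) (hL : LocFreeGen L) :
    Coh.IsCoh (CohB1.tensorMod M L) := by
  haveI := hM.1
  haveI := isQuasicoherent_tensor_of_gen M hL
  refine ⟨this, ?_⟩
  choose W g hxW hg using hL
  refine QCohLib.isFiniteType_of_affine_cover _ W (fun x => ⟨x, hxW x⟩) fun i => ?_
  haveI := QCohLib.finite_sections M hM.2 (W i).2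
  exact Module.Finite.equiv (genEquiv M (hg i) le_rfl)

end Groth.Agent.ProjCoh
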