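import Groth.Agent.ProjCoh.TwistSections
import Groth.Agent.ProjCoh.TensorCoh

/-!
# Coherence of `M(d)`; Serre's vanishing theorem on projective space
-/

universe u

open CategoryTheory AlgebraicGeometry TopologicalSpace Opposite
open scoped Groth.Agent.CohVanish

namespace Groth.Agent.ProjCoh

open Groth.Agent.CechCmp Groth.Agent.CohVanish

variable {n : ℕ} {R : Type u} [CommRing R]

local notation "𝒜" => CohB1.polyGrading n R

theorem locFreeGen_twist (d : ℤ) : LocFreeGen (X := Proj (CohB1.polyGrading n R)) (Twist.twist 𝒜 d) := by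
  intro x
  have hx : x ∈ ⨆ i, chartU (n := n) R i := by rw [iSup_chartU]; exact Opens.mem_top _
  obtain ⟨i, hi⟩ := Opens.mem_iSup.1 hx
  refine ⟨⟨chartMeet R {i}, isAffineOpen_chartMeet _ (Finset.singleton_nonempty i)⟩,
    gen (Finset.mem_singleton_self i) d, ?_, isFreeGen_gen _ d⟩
  change x ∈ ⨅ j ∈ ({i} : Finset (Ix.{u} n)), chartU R j
  rw [Finset.iInf_singleton]
  exact hi

/-- Twists of coherent modules are coherent. -/
theorem isCoh_twist (M : (CohB1.ProjSpace n R).Modules) (hM : Coh.IsCoh M) (d : ℤ) :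
    Coh.IsCoh (CohB1.tensorMod M (Twist.twistProjSpace n R d)) :=
  isCoh_tensor_of_gen (X := Proj 𝒜) M hM (locFreeGen_twist d)

theorem isQuasicoherent_twist (M : (CohB1.ProjSpace n R).Modules) (hM : M.IsQuasicoherent) (d : ℤ) :
    (CohB1.tensorMod M (Twist.twistProjSpace n R d)).IsQuasicoherent :=
  let M' : (Proj (CohB1.polyGrading n R)).Modules := M
  haveI : M'.IsQuasicoherent := hM
  isQuasicoherent_tensor_of_gen (X := Proj 𝒜) M' (locFreeGen_twist d)

/-- The cohomology of `M(d)` is the Čech cohomology of the twisted system. -/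
theorem nonempty_HH_twist_equiv (M : (Proj (CohB1.polyGrading n R)).Modules) [M.IsQuasicoherent] (d : ℤ) (p : ℕ) :
    Nonempty (Coh.HH (Proj (CohB1.polyGrading n R)) (CohB1.tensorMod M (Twist.twist 𝒜 d)) p ≃+ ((ofModule M).twSys d).H p) := by
  haveI := isQuasicoherent_tensor_of_gen M (locFreeGen_twist (n := n) (R := R) d)
  obtain ⟨e, -⟩ := exists_HH_equiv (Coh.toGlobal (tS n R)) (CohB1.tensorMod M (Twist.twist 𝒜 d))
    (chartU R) iSup_chartU (fun s hs => isAffineOpen_chartMeet s hs) p
  exact ⟨e.trans (LinearEquiv.ofBijective ((twModHom M d).mapH p)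
    (bijective_mapH _ (fun s hs => twModHom_bijective M d s hs) p)).symm.toAddEquiv⟩

/-- **Serre's vanishing theorem** on projective space. -/
theorem exists_vanishing [IsNoetherianRing R] (M : (CohB1.ProjSpace n R).Modules) (hM : Coh.IsCoh M) :
    ∃ d₀ : ℤ, ∀ d, d₀ ≤ d → ∀ p, 0 < p →
      Subsingleton (Coh.HH (CohB1.ProjSpace n R) (CohB1.tensorMod M (Twist.twistProjSpace n R d)) p) := by
  let M' : (Proj (CohB1.polyGrading n R)).Modules := M
  haveI : M'.IsQuasicoherent := hM.1
  obtain ⟨d₀, hd₀⟩ := (ofModule M').exists_vanishing (Fintype.card (Ix.{u} n)) (ofModule_fg M' hM.2)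
  refine ⟨d₀, fun d hd p hp => ?_⟩
  obtain ⟨q, rfl⟩ : ∃ q, p = q + 1 := ⟨p - 1, by omega⟩
  haveI := hd₀ d hd q (by omega)
  obtain ⟨e⟩ := nonempty_HH_twist_equiv M' d (q + 1)
  exact e.injective.subsingleton

/-- Cohomology vanishes above the number of variables less one. -/
theorem subsingleton_HH_of_gt (M : (CohB1.ProjSpace n R).Modules) (hM : M.IsQuasicoherent) {p : ℕ}
    (hp : n < p) : Subsingleton (Coh.HH (CohB1.ProjSpace n R) M p) := by
  let M' : (Proj (CohB1.polyGrading n R)).Modules := M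
  haveI : M'.IsQuasicoherent := hM
  haveI := (secSys M').subsingleton_H_of_fintype_card_le (p := p) (by simp; omega)
  exact subsingleton_HH (Coh.toGlobal (tS n R)) M' (chartU R) iSup_chartU
    (fun s hs => isAffineOpen_chartMeet s hs) p

end Groth.Agent.ProjCoh
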