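import Groth.Agent.ProjCoh.TwistDuality
import Groth.Agent.ProjCoh.Serre

/-!
# The cohomology of `O(d)` on projective space as modules of polynomials
-/

universe u

open CategoryTheory AlgebraicGeometry
open scoped Groth.Agent.CohVanish

namespace Groth.Agent.ProjCoh

open Groth.Agent.CechCmp Groth.Agent.CohVanish

variable {n : ℕ} {R : Type u} [CommRing R]

/-- The comparison for `O(d)`, with the Laurent system on the right. -/
theorem nonempty_HH_twist_laurent (d : ℤ) (p : ℕ) :
    Nonempty (Coh.HH (CohB1.ProjSpace n R) (Twist.twistProjSpace n R d) p ≃ₗ[R] (twist R (Ix.{u} n) d).H p) := by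
  have : (Twist.twistProjSpace n R d).IsQuasicoherent := isQuasicoherent_twist_self (R := R) (n := n) d
  obtain ⟨e⟩ := nonempty_HH_linearEquiv (A := R) (X := CohB1.ProjSpace n R) (Twist.twistProjSpace n R d)
    (chartU R) iSup_chartU (fun s hs => isAffineOpen_chartMeet s hs) p
  exact ⟨e.trans (oTwH d p).symm⟩

/-- Outside degrees `0` and `n` and in the remaining degrees with no monomials, the cohomology vanishes. -/
theorem subsingleton_twist_H (d : ℤ) (q : ℕ) (h₀ : ¬ (q = 0 ∧ 0 ≤ d)) (hn : ¬ (q = n ∧ d ≤ -((n : ℤ) + 1))) :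
    Subsingleton ((twist R (Ix.{u} n) d).H q) := by
  rcases lt_trichotomy q n with hq | hq | hq
  · rcases q.eq_zero_or_pos with h0 | h0
    · subst h0
      exact subsingleton_twist_H_zero (by omega) (by simp; omega)
    · obtain ⟨p, rfl⟩ : ∃ p, q = p + 1 := ⟨q - 1, by omega⟩
      exact subsingleton_twist_H_middle d p (by simp; omega)
  · subst hq
    refine subsingleton_of_forall_eq 0 fun x => topCoeff_ext (eIx.{u} q) x fun a ha => absurd ?_ hn
    refine ⟨rfl, ?_⟩
    rcases q.eq_zero_or_pos with hq0 | hq0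
    · subst hq0
      simp only [Nat.cast_zero, zero_add]
      omega
    · have h := topExp_neg (eIx.{u} q) hq0 ha
      have h1 : ∑ k, a k ≤ ∑ _k : Ix.{u} q, (-1 : ℤ) := Finset.sum_le_sum fun k _ => by have := h k; omega
      rw [ha.1] at h1
      simpa using h1
  · exact Sys.subsingleton_H_of_fintype_card_le _ (by simp; omega)

lemma toE_mem_cone {d : ℕ} {m : Fin (n + 1) →₀ ℕ} (hm : m.degree = d) (s : Finset (Ix.{u} n)) :
    toE m ∈ cone (d : ℤ) s :=
  ⟨by rw [sum_toE, hm], fun i hi => absurd hi (not_lt.2 (Int.natCast_nonneg _))⟩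

/-- A homogeneous polynomial as a global section. -/
noncomputable def polyZ (d : ℕ) :
    MvPolynomial.homogeneousSubmodule (Fin (n + 1)) R d →ₗ[R] (twist R (Ix.{u} n) (d : ℤ)).Z 0 :=
  LinearMap.codRestrict _
    (LinearMap.pi fun σ => LinearMap.codRestrict _
      ({ toFun := fun f => toL R f.1
         map_add' := fun f g => map_add (toL R) _ _
         map_smul' := fun r f => by
           rw [RingHom.id_apply, SetLike.val_smul, Algebra.smul_def, map_mul, Algebra.smul_def]
           congr 1
           rw [MvPolynomial.algebraMap_eq, algebraMap_laurent, ← MvPolynomial.monomial_zero',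
             toL_monomial]
           congr 1 } : MvPolynomial.homogeneousSubmodule (Fin (n + 1)) R d →ₗ[R] Laurent R (Ix.{u} n))
      fun f => by
        change toL R f.1 ∈ supp R (cone (d : ℤ) (img σ))
        rw [f.1.as_sum, map_sum]
        refine Submodule.sum_mem _ fun m hm => ?_
        rw [toL_monomial]
        refine single_mem_supp (toE_mem_cone ?_ _) _
        rw [Finsupp.degree_eq_weight_one]
        exact f.2 (MvPolynomial.mem_support_iff.1 hm))
    fun f => LinearMap.mem_ker.2 (funext fun σ => Subtype.ext (by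
      simp only [Sys.d_apply]
      simp
      exact add_neg_cancel (toL R f.1)))

theorem polyZ_bijective (d : ℕ) : Function.Bijective (polyZ (R := R) (n := n) d) := by
  let j : Ix.{u} n := ULift.up 0
  refine ⟨fun f g h => Subtype.ext (toL_injective (congrArg Subtype.val (congrFun (congrArg Subtype.val h) fun _ => j))),
    fun z => ?_⟩
  have hz := twist_Z0_mem (d : ℤ) z j
  set v : Laurent R (Ix.{u} n) := ((z : (twist R (Ix.{u} n) (d : ℤ)).C 1) (fun _ => j) : Laurent R (Ix.{u} n)) with hv
  have hex : ∀ a ∈ v.coeff.support, ∃ m : Fin (n + 1) →₀ ℕ, toE m = a ∧ m.degree = d := fun a ha => by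
    have hg := hz a (Finsupp.mem_support_iff.1 ha)
    have hnn : ∀ i, 0 ≤ a i := fun i => by
      by_contra hi
      push Not at hi
      rcases n.eq_zero_or_pos with hn | hn
      · have : Subsingleton (Ix.{u} n) := Fintype.card_le_one_iff_subsingleton.1 (by simp [hn])
        have h1 := hg.1
        rw [Fintype.sum_subsingleton a i] at h1
        omega
      · obtain ⟨k, hk⟩ := Fintype.exists_ne_of_one_lt_card (by simp; omega : 1 < Fintype.card (Ix.{u} n)) i
        exact hk (hg.2 k i hi).symm
    let m : Fin (n + 1) →₀ ℕ := Finsupp.equivFunOnFinite.symm fun k => (a (ULift.up k)).toNat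
    have e : toE m = a := funext fun i => by
      change (((a (ULift.up i.down)).toNat : ℕ) : ℤ) = a i
      exact Int.toNat_of_nonneg (hnn _)
    refine ⟨m, e, ?_⟩
    have h2 := hg.1
    rw [← e, sum_toE] at h2
    exact_mod_cast h2
  let P : MvPolynomial (Fin (n + 1)) R := ∑ a ∈ v.coeff.support.attach,
    MvPolynomial.monomial (hex a.1 a.2).choose (v.coeff a.1)
  have hP : P ∈ MvPolynomial.homogeneousSubmodule (Fin (n + 1)) R d := Submodule.sum_mem _ fun a _ =>
    MvPolynomial.isHomogeneous_monomial _ (hex a.1 a.2).choose_spec.2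
  have hPv : toL R P = v := by
    rw [map_sum]
    simp only [toL_monomial, fun a : {x // x ∈ v.coeff.support} => (hex a.1 a.2).choose_spec.1]
    rw [Finset.sum_attach _ (fun a => AddMonoidAlgebra.single a (v.coeff a))]
    exact AddMonoidAlgebra.sum_coeff_single v
  refine ⟨⟨P, hP⟩, Subtype.ext (funext fun σ => Subtype.ext ?_)⟩
  obtain ⟨k, rfl⟩ : ∃ k, σ = fun _ => k := ⟨σ 0, funext fun l => congrArg σ (Fin.ext (by omega))⟩
  refine hPv.trans ?_
  rw [hv, twist_Z0_apply (d : ℤ) z j k]

/-- `H^0(O(d))` is the module of homogeneous polynomials. -/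
theorem nonempty_twist_H_zero_equiv (d : ℕ) :
    Nonempty ((twist R (Ix.{u} n) (d : ℤ)).H 0 ≃ₗ[R] MvPolynomial.homogeneousSubmodule (Fin (n + 1)) R d) := by
  let e := LinearEquiv.ofBijective _ (polyZ_bijective (R := R) (n := n) d)
  refine ⟨(Submodule.quotEquivOfEqBot _ ?_).trans e.symm⟩
  rw [Submodule.eq_bot_iff]
  exact fun z hz => Subtype.ext (Sys.mem_B_zero.1 hz)

/-- `H^n(O(-n-1-k))` is the module of homogeneous polynomials of degree `k`. -/
theorem nonempty_twist_H_top_equiv (k : ℕ) :
    Nonempty ((twist R (Ix.{u} n) (-((n : ℤ) + 1 + k))).H n ≃ₗ[R]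
      MvPolynomial.homogeneousSubmodule (Fin (n + 1)) R k) := by
  classical
  let S := (Finset.univ : Finset (Fin (n + 1))).finsuppAntidiag k
  have hS : ∀ {m : Fin (n + 1) →₀ ℕ}, m ∈ S ↔ m.degree = k := fun {m} => by
    simp [S, Finset.mem_finsuppAntidiag, Finsupp.degree_eq_sum]
  have hmem : ∀ m ∈ S, negOne (Ix.{u} n) - toE m ∈ topExp (Ix.{u} n) (-((n : ℤ) + 1 + k)) := fun m hm => by
    refine ⟨?_, fun i l _ => ?_⟩
    · simp [negOne, Finset.sum_sub_distrib, sum_toE, hS.1 hm]
      ring
    · simp [negOne, toE]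
      omega
  let Φ : (twist R (Ix.{u} n) (-((n : ℤ) + 1 + k))).H n →ₗ[R] MvPolynomial (Fin (n + 1)) R :=
    ∑ m ∈ S.attach, (MvPolynomial.monomial m.1) ∘ₗ topCoeff (eIx.{u} n) _ _ (hmem m.1 m.2)
  have hΦ : ∀ x, Φ x ∈ MvPolynomial.homogeneousSubmodule (Fin (n + 1)) R k := fun x => by
    simp only [Φ, LinearMap.sum_apply, LinearMap.comp_apply]
    exact Submodule.sum_mem _ fun m _ => MvPolynomial.isHomogeneous_monomial _ (hS.1 m.2)
  have hc : ∀ x m (hm : m ∈ S), (Φ x).coeff m = topCoeff (eIx.{u} n) _ _ (hmem m hm) x := fun x m hm => by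
    simp only [Φ, LinearMap.sum_apply, LinearMap.comp_apply, MvPolynomial.coeff_sum, MvPolynomial.coeff_monomial]
    rw [Finset.sum_eq_single ⟨m, hm⟩]
    · rw [if_pos rfl]
    · intro m' _ hne
      rw [if_neg fun h => hne (Subtype.ext h)]
    · exact fun h => absurd (Finset.mem_attach _ _) h
  refine ⟨LinearEquiv.ofBijective (LinearMap.codRestrict _ Φ hΦ) ⟨(injective_iff_map_eq_zero _).2 fun x hx => ?_, fun f => ?_⟩⟩
  · refine topCoeff_ext (eIx.{u} n) x fun a ha => ?_
    have hnn : ∀ i, 0 ≤ (negOne (Ix.{u} n) - a) i := fun i => by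
      rcases n.eq_zero_or_pos with hn | hn
      · have : Subsingleton (Ix.{u} n) := Fintype.card_le_one_iff_subsingleton.1 (by simp [hn])
        have h1 := ha.1
        rw [Fintype.sum_subsingleton a i] at h1
        simp [negOne]
        omega
      · have := topExp_neg (eIx.{u} n) hn ha i
        simp [negOne]
        omega
    let m : Fin (n + 1) →₀ ℕ := Finsupp.equivFunOnFinite.symm fun l => ((negOne (Ix.{u} n) - a) (ULift.up l)).toNat
    have e : negOne (Ix.{u} n) - toE m = a := funext fun i => by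
      have := Int.toNat_of_nonneg (hnn i)
      change negOne (Ix.{u} n) i - ((((negOne (Ix.{u} n) - a) (ULift.up i.down)).toNat : ℕ) : ℤ) = a i
      rw [this, Pi.sub_apply, sub_sub_cancel]
    have hm : m ∈ S := hS.2 (by
      have h1 := ha.1
      rw [← e] at h1
      simp [negOne, Finset.sum_sub_distrib, sum_toE] at h1
      omega)
    have h0 := congrArg (fun f : MvPolynomial.homogeneousSubmodule (Fin (n + 1)) R k => f.1.coeff m) hx
    simp only [LinearMap.codRestrict_apply, ZeroMemClass.coe_zero, MvPolynomial.coeff_zero] at h0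
    rw [hc x m hm] at h0
    simpa only [e] using h0
  · choose cl hcl using fun m : {x // x ∈ S} => exists_topClass (R := R) (eIx.{u} n) (hmem m.1 m.2)
    refine ⟨∑ m ∈ S.attach, f.1.coeff m.1 • cl m, Subtype.ext (MvPolynomial.ext _ _ fun m' => ?_)⟩
    by_cases hm' : m' ∈ S
    · rw [LinearMap.codRestrict_apply, hc _ m' hm', map_sum, Finset.sum_eq_single ⟨m', hm'⟩]
      · rw [map_smul, hcl, if_pos rfl, smul_eq_mul, mul_one]
      · intro m _ hne
        rw [map_smul, hcl, if_neg, smul_zero]
        intro h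
        exact hne (Subtype.ext (toE_injective (sub_right_injective h).symm))
      · exact fun h => absurd (Finset.mem_attach _ _) h
    · have hd : m'.degree ≠ k := fun h => hm' (hS.2 h)
      rw [LinearMap.codRestrict_apply, MvPolynomial.IsHomogeneous.coeff_eq_zero (hΦ _) hd,
        MvPolynomial.IsHomogeneous.coeff_eq_zero f.2 hd]

end Groth.Agent.ProjCoh
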