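import Groth.Agent.SSExist.ModGlobal
import Groth.Agent.EtMV.ExtAdj
import Groth.Agent.ModGroth.FlatTrunc
import Groth.Agent.ModGroth.Basic
import Groth.Agent.ProjTwist.Tensor
import Groth.Agent.ProjTwist.Invertible
import Groth.Agent.ProjCoh.TwistTables
import Groth.Agent.CohVanish.Affine
import Groth.Prelude.Def_DCoh4

/-!
# `Ext` out of a twisting sheaf

Tensoring with a sheaf of modules having an inverse is an equivalence, hence the groups `Ext^i(B, M)`
are the cohomology of `M ⊗ A` when `A ⊗ B ≅ O`.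
-/

universe u

open CategoryTheory CategoryTheory.Limits AlgebraicGeometry Opposite

namespace Groth.Agent.ProjCoh

open Groth.Agent.ModGroth Groth.Agent.SSExist

section Site

variable {C : Type u} [SmallCategory C] {J : GrothendieckTopology C} {O : Sheaf J CommRingCat.{u}}

/-- Tensoring with an invertible sheaf of modules is an equivalence. -/
noncomputable def tensorEquivalence (A B : ModSite.Mod O)
    (eAB : ((ModSite.tensorBi O).obj A).obj B ≅ unitObj O) (eBA : ((ModSite.tensorBi O).obj B).obj A ≅ unitObj O) :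
    ModSite.Mod O ≌ ModSite.Mod O :=
  CategoryTheory.Equivalence.mk (tR B) (tR A)
    ((unitTR (O := O)).symm ≪≫ (ModSite.tensorBi O).flip.mapIso eBA.symm ≪≫ tensorAssoc B A)
    ((tensorAssoc A B).symm ≪≫ (ModSite.tensorBi O).flip.mapIso eAB ≪≫ unitTR (O := O))

/-- `Ext` out of an invertible module vanishes with the cohomology of the twist. -/
theorem subsingleton_ext_of_inverse [HasExt.{u} (ModSite.Mod O)] (A B : ModSite.Mod O)
    (eAB : ((ModSite.tensorBi O).obj A).obj B ≅ unitObj O) (eBA : ((ModSite.tensorBi O).obj B).obj A ≅ unitObj O)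
    (M : ModSite.Mod O) (i : ℕ)
    (h : Subsingleton (ModSite.HC O (((ModSite.tensorBi O).obj M).obj A) i)) :
    Subsingleton (Abelian.Ext.{u} B M i) := by
  haveI : IsGrothendieckAbelian.{u} (ModSite.Mod O) := sheaf_isGrothendieckAbelian (ModSite.ringSh O)
  let e := tensorEquivalence A B eAB eBA
  haveI : (tR B).IsEquivalence := e.isEquivalence_functor
  haveI : (tR A).IsEquivalence := e.isEquivalence_inverse
  haveI := tR_additive A
  have hbij := EtMV.Φ_bijective (L := tR B) (R := tR A) e.toAdjunction (ModSite.unit O) M i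
  obtain ⟨e₁⟩ := nonempty_ext_iso_rightDerived (gammaMod O) (ModSite.unit O) (unitConstIso O).symm ((tR A).obj M) i
  obtain ⟨e₂⟩ := nonempty_HC_iso ((tR A).obj M) i
  have : Subsingleton (ModSite.HC O ((tR A).obj M) i) := h
  have : Subsingleton (Abelian.Ext.{u} (ModSite.unit O) ((tR A).obj M) i) :=
    (e₁ ≪≫ e₂.symm).addCommGroupIsoToAddEquiv.injective.subsingleton
  have h3 : Subsingleton (Abelian.Ext.{u} ((tR B).obj (ModSite.unit O)) M i) := hbij.1.subsingleton
  refine subsingleton_of_forall_eq 0 fun x => ?_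
  have h4 : (Abelian.Ext.mk₀ (unitTensorIso O B).hom).comp x (zero_add i) = 0 := Subsingleton.elim _ _
  rw [← Abelian.Ext.mk₀_id_comp x, ← (unitTensorIso O B).inv_hom_id, ← Abelian.Ext.mk₀_comp_mk₀_assoc, h4,
    Abelian.Ext.comp_zero]

end Site

variable {n : ℕ} {R : Type u} [CommRing R]

open Groth.Agent.CechCmp Groth.Agent.CohVanish

lemma hasUnit_polyGrading (m : ℤ) : ProjTwist.HasUnit (CohB1.polyGrading n R) m := by
  have h : ∀ x : ProjectiveSpectrum (CohB1.polyGrading n R), ∃ f ∈ CohB1.polyGrading n R 1, f ∉ x.asHomogeneousIdeal := fun x => by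
    obtain ⟨j, hj⟩ := TopologicalSpace.Opens.mem_iSup.1
      (show x ∈ ⨆ j : Ix.{u} n, chartU R j by rw [iSup_chartU]; exact TopologicalSpace.Opens.mem_top x)
    exact ⟨MvPolynomial.X j.down, MvPolynomial.isHomogeneous_X R j.down, hj⟩
  simpa using ProjTwist.hasUnit_of_cover h m

/-- **`Ext^i(O(-q), O(a)) = H^i(O(a + q))`**, in the form of vanishing. -/
theorem subsingleton_ext_twist [HasExt.{u} (Proj (CohB1.polyGrading n R)).Modules] (q a : ℤ) (i : ℕ)
    (h₀ : ¬ (i = 0 ∧ 0 ≤ a + q)) (hn : ¬ (i = n ∧ a + q ≤ -((n : ℤ) + 1))) :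
    Subsingleton (Abelian.Ext.{u} (Twist.twist (CohB1.polyGrading n R) (-q))
      (Twist.twist (CohB1.polyGrading n R) a) i) := by
  let X : Scheme.{u} := Proj (CohB1.polyGrading n R)
  obtain ⟨eAB⟩ := ProjTwist.nonempty_tensor_twist_iso (CohB1.polyGrading n R)
    (show q + -q = 0 by ring) (hasUnit_polyGrading (-q))
  obtain ⟨eBA⟩ := ProjTwist.nonempty_tensor_twist_iso (CohB1.polyGrading n R)
    (show -q + q = 0 by ring) (hasUnit_polyGrading q)
  obtain ⟨eT⟩ := ProjTwist.nonempty_tensor_twist_iso (CohB1.polyGrading n R)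
    (show a + q = a + q from rfl) (hasUnit_polyGrading q)
  obtain ⟨e0⟩ := ProjTwist.nonempty_structureModule_iso_twist_zero (CohB1.polyGrading n R)
  let u0 : unitObj X.sheaf ≅ ModSite.unit X.sheaf :=
    haveI : IsIso (adjn X.sheaf).counit :=
      inferInstanceAs (IsIso (PresheafOfModules.sheafificationAdjunction (𝟙 (ModSite.ringSh X.sheaf).obj)).counit)
    (asIso (adjn X.sheaf).counit).app (ModSite.unit X.sheaf)
  haveI : HasExt.{u} (ModSite.Mod X.sheaf) := inferInstanceAs (HasExt.{u} X.Modules)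
  refine subsingleton_ext_of_inverse (O := X.sheaf) (Twist.twist (CohB1.polyGrading n R) q)
    (Twist.twist (CohB1.polyGrading n R) (-q)) (eAB ≪≫ e0.symm ≪≫ u0.symm) (eBA ≪≫ e0.symm ≪≫ u0.symm) _ i ?_
  obtain ⟨e⟩ := nonempty_HH_twist_laurent (n := n) (R := R) (a + q) i
  have : Subsingleton (Coh.HH (CohB1.ProjSpace n R) (Twist.twistProjSpace n R (a + q)) i) :=
    haveI := subsingleton_twist_H (n := n) (R := R) (a + q) i h₀ hn
    e.injective.subsingleton
  exact @CohVanish.subsingleton_HH_of_iso X _ _ eT.symm i this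

end Groth.Agent.ProjCoh
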