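import Groth.Prelude.Def_SecTwist
import Groth.Agent.ProjTwist.LiftHom
import Groth.Agent.ProjTwist.LocTriv

/-!
# Sections of `M ⊗ L` where `L` has a generating section
-/

set_option autoImplicit false
universe u
open CategoryTheory AlgebraicGeometry Opposite TopologicalSpace MonoidalCategory TensorProduct

namespace Groth.Agent.ProjCoh

variable {X : Scheme.{u}} (M L : X.Modules)

/-- Multiplication by `g` is bijective on every open inside `U`. -/
def IsFreeGen {U : X.Opens} (g : Γ(L, U)) : Prop :=
  ∀ (V : X.Opens) (h : V ≤ U), Function.Bijective fun r : Γ(X, V) => r • L.presheaf.map (homOfLE h).op g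

lemma toPresheaf_map_toTensor :
    (PresheafOfModules.toPresheaf _).map (SecTwist.toTensor M L) =
      toSheafify (Opens.grothendieckTopology X)
        (show X.PresheafOfModules from CohB1.tensorPre M L).presheaf := by
  refine (PresheafOfModules.toPresheaf_map_sheafificationHomEquiv_def (𝟙 X.ringCatSheaf.obj)
    (𝟙 (CohB1.tensorMod M L))).trans ?_
  exact Category.comp_id _

lemma toTensor_app_apply (V : X.Opens) (w : (CohB1.tensorPre M L).obj (op V)) :
    (SecTwist.toTensor M L).app (op V) w =
      (toSheafify (Opens.grothendieckTopology X)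
        (show X.PresheafOfModules from CohB1.tensorPre M L).presheaf).app (op V) w :=
  (congrArg (fun φ => (φ.app (op V)) w) (toPresheaf_map_toTensor M L) :)

/-- Local injectivity of `toTensor`. -/
lemma exists_res_eq_zero {V : X.Opens} (w : (CohB1.tensorPre M L).obj (op V))
    (hw : (SecTwist.toTensor M L).app (op V) w = 0) {x : X} (hx : x ∈ V) :
    ∃ (W : X.Opens) (h : W ≤ V), x ∈ W ∧ (CohB1.tensorPre M L).map (homOfLE h).op w = 0 := by
  let P := (show X.PresheafOfModules from CohB1.tensorPre M L)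
  have e : (toSheafify (Opens.grothendieckTopology X) P.presheaf).app (op V) w =
      (toSheafify (Opens.grothendieckTopology X) P.presheaf).app (op V)
        (0 : (CohB1.tensorPre M L).obj (op V)) := by
    refine (toTensor_app_apply M L V w).symm.trans (hw.trans ?_)
    exact (map_zero _).symm
  have := Presheaf.equalizerSieve_mem (Opens.grothendieckTopology X)
    (toSheafify (Opens.grothendieckTopology X) P.presheaf) _ _ e
  obtain ⟨W, f, hf, hxW⟩ := this x hx
  exact ⟨W, leOfHom f, hxW, hf.trans (map_zero _)⟩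

/-- Local surjectivity of `toTensor`. -/
lemma exists_res_eq {V : X.Opens} (t : Γ(CohB1.tensorMod M L, V)) {x : X} (hx : x ∈ V) :
    ∃ (W : X.Opens) (h : W ≤ V) (w : (CohB1.tensorPre M L).obj (op W)), x ∈ W ∧
      (SecTwist.toTensor M L).app (op W) w = (CohB1.tensorMod M L).presheaf.map (homOfLE h).op t := by
  let P := (show X.PresheafOfModules from CohB1.tensorPre M L)
  have := Presheaf.imageSieve_mem (Opens.grothendieckTopology X)
    (toSheafify (Opens.grothendieckTopology X) P.presheaf) (U := op V) t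
  obtain ⟨W, f, ⟨w, hw⟩, hxW⟩ := this x hx
  exact ⟨W, leOfHom f, w, hxW, (toTensor_app_apply M L W w).trans hw⟩

lemma eq_zero_of_tmul_eq_zero {A P N : Type*} [CommRing A] [AddCommGroup P] [Module A P] [AddCommGroup N]
    [Module A N] (p₀ : N) (h : Function.Bijective fun r : A => r • p₀) (q : P)
    (hz : q ⊗ₜ[A] p₀ = 0) : q = 0 := by
  let e := LinearEquiv.ofBijective (LinearMap.toSpanSingleton A N p₀) h
  have he : e.symm p₀ = 1 := e.injective ((e.apply_symm_apply p₀).trans (one_smul A p₀).symm)
  have := congrArg (fun w => TensorProduct.rid A P (LinearMap.lTensor P (e.symm : N →ₗ[A] A) w)) hz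
  simpa [he] using this

lemma tmul_zero_left (V : X.Opens) (n : Γ(L, V)) : SecTwist.tmul M L V 0 n = 0 :=
  (congrArg _ (TensorProduct.zero_tmul _ _)).trans (map_zero ((SecTwist.toTensor M L).app (op V)).hom)

lemma tmul_add_left (V : X.Opens) (m m' : Γ(M, V)) (n : Γ(L, V)) :
    SecTwist.tmul M L V (m + m') n =
      (SecTwist.tmul M L V m n + SecTwist.tmul M L V m' n : Γ(CohB1.tensorMod M L, V)) :=
  (congrArg _ (TensorProduct.add_tmul _ _ _)).trans (map_add ((SecTwist.toTensor M L).app (op V)).hom _ _)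

lemma tmul_smul_left (V : X.Opens) (r : Γ(X, V)) (m : Γ(M, V)) (n : Γ(L, V)) :
    SecTwist.tmul M L V (r • m) n =
      r • (show Γ(CohB1.tensorMod M L, V) from SecTwist.tmul M L V m n) :=
  (congrArg _ (TensorProduct.smul_tmul' (R := X.sheaf.obj.obj (op V))
    (show X.sheaf.obj.obj (op V) from r) (show (CohB1.toPMod M).obj (op V) from m)
    (show (CohB1.toPMod L).obj (op V) from n)).symm).trans
    (map_smul ((SecTwist.toTensor M L).app (op V)).hom _ _)

lemma tmul_smul_right (V : X.Opens) (r : Γ(X, V)) (m : Γ(M, V)) (n : Γ(L, V)) :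
    SecTwist.tmul M L V m (r • n) = SecTwist.tmul M L V (r • m) n :=
  congrArg _ (TensorProduct.smul_tmul (R := X.sheaf.obj.obj (op V)) (R' := X.sheaf.obj.obj (op V))
    (show X.sheaf.obj.obj (op V) from r) (show (CohB1.toPMod M).obj (op V) from m)
    (show (CohB1.toPMod L).obj (op V) from n)).symm

variable {L} {U : X.Opens} {g : Γ(L, U)}

lemma IsFreeGen.res (hg : IsFreeGen L g) {V : X.Opens} (h : V ≤ U) :
    IsFreeGen L (L.presheaf.map (homOfLE h).op g) := fun W hW => by
  have e : L.presheaf.map (homOfLE hW).op (L.presheaf.map (homOfLE h).op g) =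
      L.presheaf.map (homOfLE (hW.trans h)).op g := by
    rw [← ConcreteCategory.comp_apply, ← Functor.map_comp]
    rfl
  rw [e]
  exact hg W (hW.trans h)

variable (L) in
/-- Two-sided formula for a pure tensor with a generator. -/
lemma map_tmul_gen {V W : X.Opens} (h : W ≤ V) (m : Γ(M, V)) (n : Γ(L, V)) :
    (CohB1.tensorMod M L).presheaf.map (homOfLE h).op (SecTwist.tmul M L V m n) =
      SecTwist.tmul M L W (M.presheaf.map (homOfLE h).op m) (L.presheaf.map (homOfLE h).op n) :=
  SecTwist.map_tmul M L (homOfLE h) m n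

theorem tmul_gen_injective (hg : IsFreeGen L g) {V : X.Opens} (hV : V ≤ U) :
    Function.Injective fun m : Γ(M, V) => SecTwist.tmul M L V m (L.presheaf.map (homOfLE hV).op g) := by
  suffices h0 : ∀ m : Γ(M, V), SecTwist.tmul M L V m (L.presheaf.map (homOfLE hV).op g) = 0 → m = 0 by
    intro m m' h
    refine sub_eq_zero.1 (h0 _ ?_)
    have e := tmul_add_left M L V (m - m') m' (L.presheaf.map (homOfLE hV).op g)
    rw [sub_add_cancel] at e
    exact (add_eq_right.1 (e.symm.trans h))
  intro m hm
  choose W hW hxW hz using fun x : V => exists_res_eq_zero M L _ hm x.2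
  refine TopCat.Sheaf.eq_of_locally_eq' ⟨M.presheaf, M.isSheaf⟩ W V
    (fun x => homOfLE (hW x))
    (fun x hx => Opens.mem_iSup.2 ⟨⟨x, hx⟩, hxW _⟩) _ _ fun x => ?_
  refine Eq.trans ?_ (map_zero (M.presheaf.map (homOfLE (hW x)).op).hom).symm
  exact eq_zero_of_tmul_eq_zero (A := X.sheaf.obj.obj (op (W x))) (P := (CohB1.toPMod M).obj (op (W x)))
    (N := (CohB1.toPMod L).obj (op (W x))) _ (hg.res hV (W x) (hW x)) _ (hz x)

theorem tmul_gen_surjective (hg : IsFreeGen L g) {V : X.Opens} (hV : V ≤ U) :
    Function.Surjective fun m : Γ(M, V) => SecTwist.tmul M L V m (L.presheaf.map (homOfLE hV).op g) := by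
  intro (t : Γ(CohB1.tensorMod M L, V))
  choose W hW w hxW hw using fun x : V => exists_res_eq M L t x.2
  have hpure : ∀ x, ∃ m : Γ(M, W x),
      SecTwist.tmul M L (W x) m (L.presheaf.map (homOfLE ((hW x).trans hV)).op g) =
        (CohB1.tensorMod M L).presheaf.map (homOfLE (hW x)).op t := fun x => by
    obtain ⟨q, hq⟩ := ProjTwist.exists_eq_tmul (M := CohB1.toPMod M) (N := CohB1.toPMod L)
      (L.presheaf.map (homOfLE ((hW x).trans hV)).op g) (fun p => (hg (W x) ((hW x).trans hV)).2 p) (w x)
    exact ⟨q, (congrArg _ hq.symm).trans (hw x)⟩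
  choose m hm using hpure
  have hcompat : TopCat.Presheaf.IsCompatible M.presheaf W m := fun x y => by
    refine tmul_gen_injective M hg ((inf_le_left : W x ⊓ W y ≤ W x).trans ((hW x).trans hV)) ?_
    dsimp only
    have key : ∀ (z : V) (h : W x ⊓ W y ≤ W z),
        SecTwist.tmul M L (W x ⊓ W y) (M.presheaf.map (homOfLE h).op (m z))
          (L.presheaf.map (homOfLE (h.trans ((hW z).trans hV))).op g) =
        (CohB1.tensorMod M L).presheaf.map (homOfLE (h.trans (hW z))).op t := by
      intro z h
      have := congrArg ((CohB1.tensorMod M L).presheaf.map (homOfLE h).op) (hm z)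
      rw [map_tmul_gen] at this
      rw [← ProjTwist.map_map L h ((hW z).trans hV) g]
      exact this.trans (ProjTwist.map_map (CohB1.tensorMod M L) h (hW z) t)
    exact (key x inf_le_left).trans (key y inf_le_right).symm
  obtain ⟨m₀, hm₀, -⟩ := TopCat.Sheaf.existsUnique_gluing' ⟨M.presheaf, M.isSheaf⟩ W V
    (fun x => homOfLE (hW x)) (fun x hx => Opens.mem_iSup.2 ⟨⟨x, hx⟩, hxW _⟩) m hcompat
  refine ⟨m₀, TopCat.Sheaf.eq_of_locally_eq' ⟨(CohB1.tensorMod M L).presheaf, (CohB1.tensorMod M L).isSheaf⟩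
    W V (fun x => homOfLE (hW x)) (fun x hx => Opens.mem_iSup.2 ⟨⟨x, hx⟩, hxW _⟩) _ _ fun x => ?_⟩
  change (CohB1.tensorMod M L).presheaf.map (homOfLE (hW x)).op _ = _
  rw [map_tmul_gen]
  refine Eq.trans ?_ (hm x)
  have h1 : M.presheaf.map (homOfLE (hW x)).op m₀ = m x := hm₀ x
  rw [h1]
  exact congrArg _ (ProjTwist.map_map L (hW x) hV g)

/-- Tensoring with a generator identifies the sections. -/
theorem tmul_gen_bijective (hg : IsFreeGen L g) {V : X.Opens} (hV : V ≤ U) :
    Function.Bijective fun m : Γ(M, V) => SecTwist.tmul M L V m (L.presheaf.map (homOfLE hV).op g) :=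
  ⟨tmul_gen_injective M hg hV, tmul_gen_surjective M hg hV⟩

end Groth.Agent.ProjCoh
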