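import Groth.Agent.ProjCoh.TensorSections
import Groth.Agent.QCohLib.Basic

/-!
# Morphisms out of a module with local free generators

A morphism out of a module which is free of rank one on the members of a covering is the same as a compatible
choice of images of the generators.
-/

universe u

open CategoryTheory AlgebraicGeometry Opposite TopologicalSpace

namespace Groth.Agent.ProjCoh

open Groth.Agent.QCohLib

variable {X : Scheme.{u}} {L M : X.Modules} {κ : Type*} {U : κ → X.Opens}

/-- `y` is the image of `s` when the generators go to the `x j`. -/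
def IsImg (g : ∀ j, Γ(L, U j)) (x : ∀ j, Γ(M, U j)) (V : X.Opens) (s : Γ(L, V)) (y : Γ(M, V)) : Prop :=
  ∀ (j : κ) (W : X.Opens) (hW : W ≤ V) (hj : W ≤ U j) (r : Γ(X, W)),
    r • L.presheaf.map (homOfLE hj).op (g j) = L.presheaf.map (homOfLE hW).op s →
      r • M.presheaf.map (homOfLE hj).op (x j) = M.presheaf.map (homOfLE hW).op y

variable {g : ∀ j, Γ(L, U j)} {x : ∀ j, Γ(M, U j)} (hcov : ⨆ j, U j = ⊤) (hg : ∀ j, IsFreeGen L (g j))

include hcov in
/-- Sections agreeing on the members of the covering are equal. -/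
lemma eq_of_chartwise (N : X.Modules) {V : X.Opens} (y y' : Γ(N, V))
    (h : ∀ j, N.presheaf.map (homOfLE (inf_le_left : V ⊓ U j ≤ V)).op y =
      N.presheaf.map (homOfLE (inf_le_left : V ⊓ U j ≤ V)).op y') : y = y' := by
  refine TopCat.Sheaf.eq_of_locally_eq' ⟨N.presheaf, N.isSheaf⟩ (fun j => V ⊓ U j) V
    (fun j => homOfLE inf_le_left) (fun p hp => ?_) y y' h
  obtain ⟨j, hj⟩ := Opens.mem_iSup.1 (show p ∈ ⨆ j, U j from hcov ▸ trivial)
  exact Opens.mem_iSup.2 ⟨j, hp, hj⟩

include hcov hg in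
lemma isImg_unique {V : X.Opens} {s : Γ(L, V)} {y y' : Γ(M, V)} (h : IsImg g x V s y)
    (h' : IsImg g x V s y') : y = y' := eq_of_chartwise hcov M y y' fun j => by
  obtain ⟨r, hr⟩ := (hg j (V ⊓ U j) inf_le_right).2 (L.presheaf.map (homOfLE (inf_le_left : V ⊓ U j ≤ V)).op s)
  exact (h j _ _ _ r hr).symm.trans (h' j _ _ _ r hr)

include hcov hg in
lemma exists_isImg
    (hx : ∀ (i j : κ) (W : X.Opens) (hi : W ≤ U i) (hj : W ≤ U j) (r : Γ(X, W)),
      r • L.presheaf.map (homOfLE hj).op (g j) = L.presheaf.map (homOfLE hi).op (g i) →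
        r • M.presheaf.map (homOfLE hj).op (x j) = M.presheaf.map (homOfLE hi).op (x i))
    (V : X.Opens) (s : Γ(L, V)) : ∃ y, IsImg g x V s y := by
  choose r hr using fun j =>
    (hg j (V ⊓ U j) inf_le_right).2 (L.presheaf.map (homOfLE (inf_le_left : V ⊓ U j ≤ V)).op s)
  let sf : ∀ j, Γ(M, V ⊓ U j) := fun j => r j • M.presheaf.map (homOfLE inf_le_right).op (x j)
  have key : ∀ (j : κ) (W : X.Opens) (hW : W ≤ V) (hj : W ≤ U j) (r' : Γ(X, W)),
      r' • L.presheaf.map (homOfLE hj).op (g j) = L.presheaf.map (homOfLE hW).op s →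
        M.presheaf.map (homOfLE (le_inf hW hj)).op (sf j) = r' • M.presheaf.map (homOfLE hj).op (x j) := by
    intro j W hW hj r' hr'
    have e := congrArg (L.presheaf.map (homOfLE (le_inf hW hj)).op) (hr j)
    rw [Scheme.Modules.map_smul, map_map, map_map] at e
    have e2 : X.presheaf.map (homOfLE (le_inf hW hj)).op (r j) = r' :=
      (hg j W hj).1 (e.trans hr'.symm)
    change M.presheaf.map _ (r j • _) = _
    rw [Scheme.Modules.map_smul, map_map, e2]
  have hcompat : TopCat.Presheaf.IsCompatible M.presheaf (fun j => V ⊓ U j) sf := by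
    intro i j
    let W := (V ⊓ U i) ⊓ (V ⊓ U j)
    have hWV : W ≤ V := inf_le_left.trans inf_le_left
    have hWi : W ≤ U i := inf_le_left.trans inf_le_right
    have hWj : W ≤ U j := inf_le_right.trans inf_le_right
    obtain ⟨ai, hai⟩ := (hg i W hWi).2 (L.presheaf.map (homOfLE hWV).op s)
    obtain ⟨u, hu⟩ := (hg j W hWj).2 (L.presheaf.map (homOfLE hWi).op (g i))
    have haj : (ai * u) • L.presheaf.map (homOfLE hWj).op (g j) = L.presheaf.map (homOfLE hWV).op s := by
      rw [mul_smul]
      exact (congrArg (ai • ·) hu).trans hai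
    have h1 := key i W hWV hWi ai hai
    have h2 := key j W hWV hWj (ai * u) haj
    rw [mul_smul, hx i j W hWi hWj u hu] at h2
    exact h1.trans h2.symm
  obtain ⟨y, hy, -⟩ := TopCat.Sheaf.existsUnique_gluing' ⟨M.presheaf, M.isSheaf⟩ (fun j => V ⊓ U j) V
    (fun j => homOfLE inf_le_left) (fun p hp => by
      obtain ⟨j, hj⟩ := Opens.mem_iSup.1 (show p ∈ ⨆ j, U j from hcov ▸ trivial)
      exact Opens.mem_iSup.2 ⟨j, hp, hj⟩) sf hcompat
  refine ⟨y, fun j W hW hj r' hr' => ?_⟩
  refine ((key j W hW hj r' hr').symm.trans ?_)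
  rw [← hy j]
  exact map_map M _ _ y

include hcov hg in
/-- **Morphisms out of a module with local free generators.** -/
theorem exists_hom_of_gen
    (hx : ∀ (i j : κ) (W : X.Opens) (hi : W ≤ U i) (hj : W ≤ U j) (r : Γ(X, W)),
      r • L.presheaf.map (homOfLE hj).op (g j) = L.presheaf.map (homOfLE hi).op (g i) →
        r • M.presheaf.map (homOfLE hj).op (x j) = M.presheaf.map (homOfLE hi).op (x i)) :
    ∃ φ : L ⟶ M, ∀ j, φ.app (U j) (g j) = x j := by
  choose y hy using exists_isImg hcov hg hx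
  have hlin : ∀ (V : X.Opens), (∀ s t : Γ(L, V), y V (s + t) = y V s + y V t) ∧
      ∀ (c : Γ(X, V)) (s : Γ(L, V)), y V (c • s) = c • y V s := fun V => by
    refine ⟨fun s t => isImg_unique hcov hg (hy V (s + t)) fun j W hW hj r hr => ?_,
      fun c s => isImg_unique hcov hg (hy V (c • s)) fun j W hW hj r hr => ?_⟩
    · obtain ⟨a, ha⟩ := (hg j W hj).2 (L.presheaf.map (homOfLE hW).op s)
      obtain ⟨b, hb⟩ := (hg j W hj).2 (L.presheaf.map (homOfLE hW).op t)
      have e : r = a + b := (hg j W hj).1 (by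
        change r • _ = (a + b) • L.presheaf.map (homOfLE hj).op (g j)
        rw [hr, map_add, add_smul]
        exact congrArg₂ (· + ·) ha.symm hb.symm)
      rw [e, add_smul, hy V s j W hW hj a ha, hy V t j W hW hj b hb, map_add]
    · obtain ⟨a, ha⟩ := (hg j W hj).2 (L.presheaf.map (homOfLE hW).op s)
      have e : r = X.presheaf.map (homOfLE hW).op c * a := (hg j W hj).1 (by
        change r • _ = (_ * a) • L.presheaf.map (homOfLE hj).op (g j)
        rw [hr, Scheme.Modules.map_smul, mul_smul]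
        exact congrArg _ ha.symm)
      rw [e, mul_smul, hy V s j W hW hj a ha, Scheme.Modules.map_smul]
  have hnat : ∀ {V V' : X.Opens} (h : V' ≤ V) (s : Γ(L, V)),
      y V' (L.presheaf.map (homOfLE h).op s) = M.presheaf.map (homOfLE h).op (y V s) := fun {V V'} h s =>
    isImg_unique hcov hg (hy V' _) fun j W hW hj r hr => by
      rw [map_map]
      exact hy V s j W (hW.trans h) hj r (hr.trans (map_map L hW h s))
  let app : ∀ V : (Opens X)ᵒᵖ, L.val.obj V ⟶ M.val.obj V := fun V => ModuleCat.ofHom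
    { toFun := fun s => y V.unop s
      map_add' := (hlin V.unop).1
      map_smul' := (hlin V.unop).2 }
  refine ⟨⟨PresheafOfModules.Hom.mk app (fun {V V'} f => ?_)⟩, fun j => ?_⟩
  · exact ModuleCat.hom_ext (LinearMap.ext fun s => hnat (leOfHom f.unop) s)
  · change y (U j) (g j) = x j
    have := hy (U j) (g j) j (U j) le_rfl le_rfl 1 (by rw [one_smul])
    rw [one_smul, map_self] at this
    exact (this.trans (map_self M _ _)).symm

include hcov hg in
/-- A morphism is determined by the images of the generators. -/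
theorem hom_ext_of_gen (φ ψ : L ⟶ M) (h : ∀ j, φ.app (U j) (g j) = ψ.app (U j) (g j)) : φ = ψ := by
  refine Scheme.Modules.hom_ext _ _ fun V => ConcreteCategory.hom_ext _ _ fun s => eq_of_chartwise hcov M _ _ fun j => ?_
  obtain ⟨r, hr⟩ := (hg j (V ⊓ U j) inf_le_right).2 (L.presheaf.map (homOfLE (inf_le_left : V ⊓ U j ≤ V)).op s)
  rw [← app_map, ← app_map, ← hr, Scheme.Modules.Hom.app_smul, Scheme.Modules.Hom.app_smul, app_map, app_map, h j]

end Groth.Agent.ProjCoh
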