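import Groth.Agent.ProjCoh.TopInt

/-!
# The residue pairing on Laurent systems

The top cohomology of the twisted Laurent system of degree `b` has as coordinates the coefficients at the
exponents `a` whose entries are negative away from any given index; multiplication by the monomial with exponent
`-1 - a` followed by the coefficient at `(-1, …, -1)` reads off that coordinate.
-/

universe u

namespace Groth.Agent.ProjCoh

open Finset
open Groth.Agent.CechCmp

variable {R : Type u} [CommRing R] {ι : Type u} [Fintype ι] [DecidableEq ι] {n : ℕ} (e : Fin (n + 1) ≃ ι)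

/-- Exponents of degree `b` of the top cohomology. -/
def topExp (ι : Type u) [Fintype ι] (b : ℤ) : Set (Expo ι) :=
  {a | ∑ i, a i = b ∧ ∀ i j : ι, i ≠ j → a i < 0}

/-- The exponent `(-1, …, -1)`. -/
def negOne (ι : Type u) : Expo ι := fun _ => -1

include e in
omit [DecidableEq ι] in
lemma topExp_neg (hn : 1 ≤ n) {b : ℤ} {a : Expo ι} (ha : a ∈ topExp ι b) (i : ι) : a i < 0 := by
  have : 1 < Fintype.card ι := by rw [← Fintype.card_congr e, Fintype.card_fin]; omega
  obtain ⟨j, hj⟩ := Fintype.exists_ne_of_one_lt_card this i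
  exact ha.2 i j (Ne.symm hj)

include e in
omit [DecidableEq ι] in
lemma card_eq : Fintype.card ι = n + 1 := by rw [← Fintype.card_congr e, Fintype.card_fin]

include e in
omit [DecidableEq ι] in
lemma negOne_mem_topExp : negOne ι ∈ topExp ι (-((n : ℤ) + 1)) :=
  ⟨by simp [negOne, card_eq e], fun _ _ _ => by simp [negOne]⟩

include e in
lemma topExp_finite (b : ℤ) : (topExp ι b).Finite := by
  refine Set.Finite.subset (Set.Finite.pi fun _ : ι => Set.finite_Icc (-|b|) |b|) fun a ha => ?_
  rcases n.eq_zero_or_pos with hn | hn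
  · have hι : Subsingleton ι := Fintype.card_le_one_iff_subsingleton.1 (by rw [card_eq e, hn])
    have hval : ∀ i, a i = b := fun i => by
      rw [← ha.1]
      exact (Fintype.sum_subsingleton a i).symm
    exact fun i _ => ⟨by rw [hval i]; exact neg_abs_le b, by rw [hval i]; exact le_abs_self b⟩
  · have hneg := topExp_neg e hn ha
    refine fun i _ => ⟨?_, (hneg i).le.trans (abs_nonneg b)⟩
    have h1 : ∑ k ∈ (univ : Finset ι).erase i, a k ≤ 0 := Finset.sum_nonpos fun k _ => (hneg k).le
    have h2 := Finset.add_sum_erase univ a (mem_univ i)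
    have h3 := neg_abs_le b
    rw [ha.1] at h2
    omega

include e in
lemma coeff_eq_zero_of_mem_B {b : ℤ} {a : Expo ι} (ha : a ∈ topExp ι b)
    {c : (twist R ι b).C (n + 1)} (hc : c ∈ (twist R ι b).B n) :
    (c ⇑e : Laurent R ι).coeff a = 0 := by
  cases n with
  | zero => rw [Sys.mem_B_zero.1 hc]; simp
  | succ m =>
    obtain ⟨d, rfl⟩ := hc
    rw [Sys.d_apply]
    simp only [AddSubmonoidClass.coe_finsetSum, SetLike.val_smul, Submodule.coe_inclusion,
      AddMonoidAlgebra.coeff_sum, Finsupp.coe_finsetSum, Finset.sum_apply]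
    refine Finset.sum_eq_zero fun k _ => ?_
    have hz : (d (⇑e ∘ k.succAbove) : Laurent R ι).coeff a = 0 := by
      by_contra hne
      have := ((d (⇑e ∘ k.succAbove)).2 a hne).2 (e k) (topExp_neg e (Nat.succ_pos m) ha _)
      obtain ⟨l, -, hl⟩ := Finset.mem_image.1 this
      exact Fin.succAbove_ne k l (e.injective hl)
    simp [hz]

/-- The coordinate at `a` of a top class. -/
noncomputable def topCoeff (b : ℤ) (a : Expo ι) (ha : a ∈ topExp ι b) : (twist R ι b).H n →ₗ[R] R :=
  Submodule.liftQ _
    ({ toFun := fun z => (z.1 ⇑e : Laurent R ι).coeff a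
       map_add' := fun z w => by simp
       map_smul' := fun r z => by simp } : (twist R ι b).Z n →ₗ[R] R)
    fun _ hz => LinearMap.mem_ker.2 (coeff_eq_zero_of_mem_B e ha (Submodule.mem_comap.1 hz))

lemma topCoeff_cls (b : ℤ) (a : Expo ι) (ha : a ∈ topExp ι b) (z : (twist R ι b).Z n) :
    topCoeff e b a ha ((twist R ι b).cls n z) = (z.1 ⇑e : Laurent R ι).coeff a := rfl

include e in
lemma img_eq_univ {σ : Fin (0 + 1) → ι} (hn : n = 0) : img σ = univ := by
  have hι : Subsingleton ι := Fintype.card_le_one_iff_subsingleton.1 (by rw [card_eq e, hn])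
  exact Finset.eq_univ_iff_forall.2 fun i => Subsingleton.elim (σ 0) i ▸ mem_img σ 0

lemma keepE_coeff {b : ℤ} {a : Expo ι} (ha : ∀ i, a i < 0) (s : Finset ι) (f : supp R (cone b s)) :
    (keepE b s f : Laurent R ι).coeff a = (f : Laurent R ι).coeff a := by
  rw [coe_keepE, coeff_keep, if_pos]
  rcases ho : first a with _ | i
  · rfl
  · exact absurd (first_some ho) (not_le.2 (ha i))

lemma topNeg_cls (b : ℤ) (z : (twist R ι b).Z n) :
    (topNeg e b ((twist R ι b).cls n z) : Laurent R ι) = (keepE b (img ⇑e) (z.1 ⇑e) : Laurent R ι) := by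
  change (((cutTo (R := R) (allNeg R ι b) ((univ : Finset ι) ⊆ img ⇑e ∧ img ⇑e ⊆ univ))
    (keepE b (img ⇑e) (z.1 ⇑e))).1 : Laurent R ι) = _
  rw [coe_cutTo, if_pos ⟨fun i _ => Finset.mem_image.2 ⟨e.symm i, mem_univ _, e.apply_symm_apply i⟩,
    subset_univ _⟩]

include e in
/-- The coordinates determine a top class. -/
theorem topCoeff_ext {b : ℤ} (x : (twist R ι b).H n) (h : ∀ a ha, topCoeff e b a ha x = 0) : x = 0 := by
  obtain ⟨z, rfl⟩ := Submodule.mkQ_surjective _ x
  rcases n.eq_zero_or_pos with hn | hn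
  · subst hn
    rw [show z = 0 from ?_]
    · exact map_zero _
    refine Subtype.ext (funext fun σ => Subtype.ext ?_)
    have hι : Subsingleton ι := Fintype.card_le_one_iff_subsingleton.1 (by rw [card_eq e])
    obtain rfl : σ = ⇑e := funext fun k => Subsingleton.elim _ _
    ext a
    by_contra hne
    exact hne ((h a ⟨((z.1 ⇑e).2 a hne).1, fun i j hij => absurd (Subsingleton.elim i j) hij⟩).trans (by simp))
  · refine (topNeg_bijective e hn b).1 ((Subtype.ext ?_ :).trans (map_zero (topNeg (R := R) e b)).symm)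
    rw [topNeg_cls]
    ext a
    by_contra hne
    have ha : a ∈ {a : Expo ι | ∑ i, a i = b ∧ ∀ i, a i < 0} := (keepE b (img ⇑e) (z.1 ⇑e)).2 a (by simpa using hne)
    refine hne ?_
    rw [keepE_coeff ha.2]
    exact (h a ⟨ha.1, fun i _ _ => ha.2 i⟩).trans (by simp)

include e in
/-- There is a class for each coordinate. -/
theorem exists_topClass {b : ℤ} {a : Expo ι} (ha : a ∈ topExp ι b) :
    ∃ x : (twist R ι b).H n, ∀ a' ha', topCoeff e b a' ha' x = if a' = a then 1 else 0 := by
  rcases n.eq_zero_or_pos with hn | hn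
  · subst hn
    have hmem : ∀ σ : Fin (0 + 1) → ι, AddMonoidAlgebra.single a (1 : R) ∈ supp R (cone b (img σ)) := fun σ =>
      single_mem_supp (C := cone b (img σ)) ⟨ha.1, fun i _ => img_eq_univ e (σ := σ) rfl ▸ mem_univ i⟩ 1
    refine ⟨Submodule.Quotient.mk ⟨fun σ => ⟨_, hmem σ⟩, LinearMap.mem_ker.2 (funext fun σ => Subtype.ext ?_)⟩,
      fun a' ha' => ?_⟩
    · rw [Sys.d_apply, Fin.sum_univ_two]
      simp
      exact add_neg_cancel (AddMonoidAlgebra.single a (1 : R))
    · change (AddMonoidAlgebra.single a (1 : R)).coeff a' = _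
      rw [AddMonoidAlgebra.coeff_single, Finsupp.single_apply]
      exact if_congr eq_comm rfl rfl
  · have hneg := topExp_neg e hn ha
    obtain ⟨x, hx⟩ := (topNeg_bijective e hn b).2
      (⟨AddMonoidAlgebra.single a (1 : R), single_mem_supp (C := {a : Expo ι | ∑ i, a i = b ∧ ∀ i, a i < 0}) ⟨ha.1, hneg⟩ 1⟩ : allNeg R ι b)
    refine ⟨x, fun a' ha' => ?_⟩
    obtain ⟨z, rfl⟩ := Submodule.mkQ_surjective _ x
    rw [topCoeff_cls, ← keepE_coeff (topExp_neg e hn ha') (img ⇑e), ← topNeg_cls, hx]
    change (AddMonoidAlgebra.single a (1 : R)).coeff a' = _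
    rw [AddMonoidAlgebra.coeff_single, Finsupp.single_apply]
    exact if_congr eq_comm rfl rfl

omit [DecidableEq ι] in
/-- The residue of a product. -/
lemma coeff_mul_eq_sum (P f : Laurent R ι) (c : Expo ι) :
    (P * f).coeff c = P.coeff.sum fun x r => r * f.coeff (c - x) := by
  rw [AddMonoidAlgebra.coeff_mul]
  refine Finset.sum_congr rfl fun x _ => ?_
  dsimp only
  rw [Finsupp.sum]
  by_cases hx : c - x ∈ f.coeff.support
  · rw [Finset.sum_eq_single (c - x), if_pos (by abel)]
    · intro y _ hy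
      rw [if_neg]
      rintro rfl
      exact hy (by abel)
    · exact fun h => absurd hx h
  · rw [Finset.sum_eq_zero, Finsupp.notMem_support_iff.1 hx, mul_zero]
    intro y hy
    rw [if_neg]
    rintro rfl
    exact hx (by rwa [add_sub_cancel_left])

end Groth.Agent.ProjCoh
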