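import Groth.Agent.ProjCoh.TwistHom
import Groth.Agent.ProjCoh.TopCoeff

/-!
# Duality for the twisting sheaves of projective space

The trace on `H^n(P, O(-n-1))` is the residue; the pairing of `Hom(O(b), O(-n-1))` with `H^n(P, O(b))` is perfect.
-/

universe u

open CategoryTheory AlgebraicGeometry TopologicalSpace Opposite
open scoped Groth.Agent.CohVanish

namespace Groth.Agent.ProjCoh

open Groth.Agent.CechCmp Groth.Agent.CohVanish

variable {n : ℕ} {R : Type u} [CommRing R]

local notation "𝒜" => CohB1.polyGrading n R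

/-- The enumeration of the indices. -/
def eIx (n : ℕ) : Fin (n + 1) ≃ Ix.{u} n := Equiv.ulift.{u}.symm

/-- Laurent classes as classes of `O(a)`. -/
noncomputable def oTwH (a : ℤ) (p : ℕ) :
    (twist R (Ix.{u} n) a).H p ≃ₗ[R] (secSys (Twist.twist (CohB1.polyGrading n R) a)).H p :=
  LinearEquiv.ofBijective ((oTw a).mapH p) (bijective_mapH (oTw a) (oTw_bijective a) p)

/-- A coordinate of a class in `H^n(P, O(b))`. -/
noncomputable def coordH (b : ℤ) (a : Expo (Ix.{u} n)) (ha : a ∈ topExp (Ix.{u} n) b) :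
    (secSys (Twist.twist (CohB1.polyGrading n R) b)).H n →ₗ[R] R :=
  topCoeff (R := R) (eIx.{u} n) b a ha ∘ₗ (oTwH (R := R) (n := n) b n).symm.toLinearMap

/-- The trace. -/
noncomputable def trP (n : ℕ) (R : Type u) [CommRing R] :
    (secSys (Twist.twist (CohB1.polyGrading n R) (-((n : ℤ) + 1)))).H n →ₗ[R] R :=
  coordH (-((n : ℤ) + 1)) (negOne _) (negOne_mem_topExp (eIx n))

theorem coordH_ext {b : ℤ} (x : (secSys (Twist.twist (CohB1.polyGrading n R) b)).H n)
    (h : ∀ a ha, coordH b a ha x = 0) : x = 0 := by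
  have h' : ∀ a ha, topCoeff (R := R) (eIx.{u} n) b a ha ((oTwH (R := R) (n := n) b n).symm x) = 0 :=
    fun a ha => h a ha
  have h2 : (oTwH (R := R) (n := n) b n).symm x = 0 := topCoeff_ext (R := R) (eIx.{u} n) _ h'
  exact (LinearEquiv.map_eq_zero_iff _).1 h2

theorem exists_coordClass {b : ℤ} {a : Expo (Ix.{u} n)} (ha : a ∈ topExp (Ix.{u} n) b) :
    ∃ x : (secSys (Twist.twist (CohB1.polyGrading n R) b)).H n,
      ∀ a' ha', coordH b a' ha' x = if a' = a then 1 else 0 := by
  obtain ⟨y, hy⟩ := exists_topClass (R := R) (eIx n) ha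
  refine ⟨oTwH b n y, fun a' ha' => ?_⟩
  refine Eq.trans (congrArg (topCoeff (R := R) (eIx.{u} n) b a' ha') ?_) (hy a' ha')
  exact LinearEquiv.symm_apply_apply _ _

lemma negOne_sub_mem_glob {b c : ℤ} (hc : c = -((n : ℤ) + 1)) {a : Expo (Ix.{u} n)}
    (ha : a ∈ topExp (Ix.{u} n) b) (r : R) :
    AddMonoidAlgebra.single (negOne _ - a) r ∈ glob R n (c - b) := by
  refine (Submodule.mem_iInf _).2 fun j => single_mem_supp (C := cone (c - b) {j}) ⟨?_, fun i hi => ?_⟩ r
  · simp [negOne, Finset.sum_sub_distrib, ha.1, hc, card_eq (eIx.{u} n)]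
  · rw [Finset.mem_singleton]
    by_contra hij
    have := ha.2 i j hij
    simp [negOne] at hi
    omega

lemma negOne_sub_mem_topExp {b c : ℤ} (hc : c = -((n : ℤ) + 1)) {P : Laurent R (Ix.{u} n)}
    (hP : P ∈ glob R n (c - b)) {x : Expo (Ix.{u} n)} (hx : P.coeff x ≠ 0) :
    negOne _ - x ∈ topExp (Ix.{u} n) b := by
  refine ⟨?_, fun i j hij => ?_⟩
  · have := ((Submodule.mem_iInf _).1 hP (pickIx Finset.univ) x hx).1
    simp [negOne, Finset.sum_sub_distrib, this, hc, card_eq (eIx.{u} n)]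
  · have h2 := ((Submodule.mem_iInf _).1 hP j x hx).2 i
    have : 0 ≤ x i := le_of_not_gt fun h => hij (Finset.mem_singleton.1 (h2 h))
    simp [negOne]
    omega

open Classical in
/-- Coordinates indexed by all exponents. -/
noncomputable def coordAll (b : ℤ) (a : Expo (Ix.{u} n)) :
    (secSys (Twist.twist (CohB1.polyGrading n R) b)).H n →ₗ[R] R :=
  if ha : a ∈ topExp (Ix.{u} n) b then coordH b a ha else 0

/-- The trace of a multiple of a class. -/
theorem trP_map_mul {b : ℤ} {P : Laurent R (Ix.{u} n)} (hP : P ∈ glob R n (-((n : ℤ) + 1) - b))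
    (φ : Twist.twist (CohB1.polyGrading n R) b ⟶ Twist.twist (CohB1.polyGrading n R) (-((n : ℤ) + 1)))
    (hφ : ∀ (s : Finset (Ix.{u} n)) (hs : s.Nonempty) (f : supp R (cone (ι := Ix.{u} n) b s)),
        (secHomSys φ).app s ((oTw b).app s f) =
          (oTw (-((n : ℤ) + 1))).app s ⟨_, mul_glob_mem hP hs f.2⟩)
    (x : (secSys (Twist.twist (CohB1.polyGrading n R) b)).H n) :
    trP n R ((secHomSys φ).mapH n x) =
      P.coeff.sum fun a r => r * coordAll b (negOne _ - a) x := by
  obtain ⟨z, hz⟩ := Submodule.mkQ_surjective _ ((oTwH (R := R) (n := n) b n).symm x)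
  have hzero : ∀ σ : Fin (n + 1 + 1) → Ix.{u} n,
      ∑ k : Fin (n + 1 + 1), ((-1 : R) ^ (k : ℕ) • (P * ((z.1 (σ ∘ k.succAbove)).1 : Laurent R (Ix.{u} n)))) = 0 := fun σ => by
    have e := congrArg (fun v : supp R (cone (ι := Ix.{u} n) b (img σ)) => P * (v : Laurent R (Ix.{u} n)))
      (congrFun (LinearMap.mem_ker.1 z.2) σ : (twist R (Ix.{u} n) b).d (n + 1) z.1 σ = 0)
    simp only [Sys.d_apply, AddSubmonoidClass.coe_finsetSum, SetLike.val_smul, Submodule.coe_inclusion,
      Finset.mul_sum, mul_smul_comm] at e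
    exact e.trans (mul_zero P)
  let w : (twist R (Ix.{u} n) (-((n : ℤ) + 1))).Z n :=
    ⟨fun σ => ⟨_, mul_glob_mem hP ⟨_, mem_img σ 0⟩ (z.1 σ).2⟩, LinearMap.mem_ker.2 (funext fun σ => Subtype.ext (by
      simp only [Sys.d_apply, AddSubmonoidClass.coe_finsetSum, SetLike.val_smul, Submodule.coe_inclusion,
        Pi.zero_apply, ZeroMemClass.coe_zero]
      exact hzero σ))⟩
  have hmap : (oTwH (R := R) (n := n) (-((n : ℤ) + 1)) n).symm ((secHomSys φ).mapH n x) =
        (twist R (Ix.{u} n) (-((n : ℤ) + 1))).cls n w := by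
    rw [LinearEquiv.symm_apply_eq, ← (oTwH (R := R) (n := n) b n).apply_symm_apply x, ← hz]
    refine congrArg ((secSys _).cls n) (Subtype.ext (funext fun σ => ?_))
    exact hφ (img σ) ⟨_, mem_img σ 0⟩ (z.1 σ)
  change topCoeff (R := R) (eIx.{u} n) _ (negOne _) (negOne_mem_topExp (eIx.{u} n)) ((oTwH (R := R) (n := n) (-((n : ℤ) + 1)) n).symm ((secHomSys φ).mapH n x)) = _
  rw [hmap, topCoeff_cls]
  change (P * (z.1 ⇑(eIx n) : Laurent R (Ix.{u} n))).coeff (negOne _) = _
  rw [coeff_mul_eq_sum]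
  refine Finset.sum_congr rfl fun a ha => ?_
  have hT := negOne_sub_mem_topExp rfl hP (Finsupp.mem_support_iff.1 ha)
  dsimp only
  rw [coordAll, dif_pos hT]
  change _ = P.coeff a * topCoeff (R := R) (eIx.{u} n) b _ hT ((oTwH (R := R) (n := n) b n).symm x)
  rw [← hz, topCoeff_cls]

/-- **Duality for a twisting sheaf.** -/
theorem existsUnique_pairing_twist (b : ℤ)
    (ψ : (secSys (Twist.twist (CohB1.polyGrading n R) b)).H n →ₗ[R] R) :
    ∃! φ : Twist.twist (CohB1.polyGrading n R) b ⟶ Twist.twist (CohB1.polyGrading n R) (-((n : ℤ) + 1)),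
      ∀ x : (secSys (Twist.twist (CohB1.polyGrading n R) b)).H n,
        ψ x = trP n R ((secHomSys φ).mapH n x) := by
  classical
  refine existsUnique_of_exists_of_unique ?_ fun φ φ' hφ hφ' => ?_
  · choose cl hcl using fun a : topExp (Ix.{u} n) b => exists_coordClass (R := R) a.2
    let T := (topExp_finite (eIx.{u} n) b).toFinset
    let v : Expo (Ix.{u} n) → R := fun a => if ha : a ∈ topExp (Ix.{u} n) b then ψ (cl ⟨a, ha⟩) else 0
    let P : Laurent R (Ix.{u} n) := ∑ a ∈ T, AddMonoidAlgebra.single (negOne _ - a) (v a)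
    have hP : P ∈ glob R n (-((n : ℤ) + 1) - b) := Submodule.sum_mem _ fun a ha =>
      negOne_sub_mem_glob rfl ((topExp_finite (eIx.{u} n) b).mem_toFinset.1 ha) _
    obtain ⟨φ, hφ⟩ := exists_hom_mul hP
    refine ⟨φ, fun x => ((trP_map_mul hP φ hφ x).trans ?_).symm⟩
    have hsum : P.coeff.sum (fun a r => r * coordAll b (negOne _ - a) x) = ∑ a ∈ T, v a * coordAll b a x := by
      have e : P.coeff = ∑ a ∈ T, Finsupp.single (negOne (Ix.{u} n) - a) (v a) := by
        simp [P, AddMonoidAlgebra.coeff_sum, AddMonoidAlgebra.coeff_single]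
      rw [e, ← Finsupp.sum_finsetSum_index (fun _ => zero_mul _) fun _ _ _ => add_mul _ _ _]
      exact Finset.sum_congr rfl fun a _ => by
        rw [Finsupp.sum_single_index (zero_mul _), sub_sub_cancel]
    rw [hsum]
    let y := x - ∑ a ∈ T.attach, coordAll b a.1 x • cl ⟨a.1, (topExp_finite (eIx.{u} n) b).mem_toFinset.1 a.2⟩
    have hy : y = 0 := coordH_ext y fun a ha => by
      rw [map_sub, map_sum, Finset.sum_eq_single ⟨a, (topExp_finite (eIx.{u} n) b).mem_toFinset.2 ha⟩]
      · rw [map_smul, hcl, if_pos rfl, coordAll, dif_pos ha, smul_eq_mul, mul_one, sub_self]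
      · intro a' _ hne
        rw [map_smul, hcl, if_neg fun h => hne (Subtype.ext h.symm), smul_zero]
      · exact fun h => absurd (Finset.mem_attach _ _) h
    rw [eq_of_sub_eq_zero hy, map_sum, ← Finset.sum_attach T (fun a => v a * coordAll b a _)]
    refine Finset.sum_congr rfl fun a _ => ?_
    rw [← eq_of_sub_eq_zero hy, map_smul, smul_eq_mul, mul_comm]
    simp only [v, dif_pos ((topExp_finite (eIx.{u} n) b).mem_toFinset.1 a.2)]
  · obtain ⟨P, hP, hPφ⟩ := exists_mul_of_hom φ
    obtain ⟨P', hP', hPφ'⟩ := exists_mul_of_hom φ'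
    have hcoeff : ∀ {P : Laurent R (Ix.{u} n)} (hP : P ∈ glob R n (-((n : ℤ) + 1) - b)) φ₀,
        (∀ (s : Finset (Ix.{u} n)) (hs : s.Nonempty) (f : supp R (cone (ι := Ix.{u} n) b s)),
          (secHomSys φ₀).app s ((oTw b).app s f) = (oTw (-((n : ℤ) + 1))).app s ⟨_, mul_glob_mem hP hs f.2⟩) →
        (∀ x, ψ x = trP n R ((secHomSys φ₀).mapH n x)) →
        ∀ (x : Expo (Ix.{u} n)) (ha : negOne _ - x ∈ topExp (Ix.{u} n) b),
          P.coeff x = ψ (exists_coordClass (R := R) ha).choose := by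
      intro P hP φ₀ hm hp x ha
      rw [hp, trP_map_mul hP φ₀ hm, Finsupp.sum]
      have hsp := (exists_coordClass (R := R) ha).choose_spec
      rw [Finset.sum_eq_single x]
      · rw [coordAll, dif_pos ha, hsp, if_pos rfl, mul_one]
      · intro y _ hne
        rw [coordAll]
        split_ifs with hy
        · rw [hsp, if_neg fun h => hne (sub_right_injective h), mul_zero]
        · simp
      · intro h
        rw [Finsupp.notMem_support_iff.1 h, zero_mul]
    have hPP : P = P' := by
      ext x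
      by_cases ha : negOne _ - x ∈ topExp (Ix.{u} n) b
      · rw [hcoeff hP φ hPφ hφ x ha, hcoeff hP' φ' hPφ' hφ' x ha]
      · have h1 : P.coeff x = 0 := by_contra fun h => ha (negOne_sub_mem_topExp rfl hP h)
        have h2 : P'.coeff x = 0 := by_contra fun h => ha (negOne_sub_mem_topExp rfl hP' h)
        rw [h1, h2]
    subst hPP
    refine hom_twist_ext φ φ' fun j => ?_
    obtain ⟨f, hf⟩ := (oTw_bijective (R := R) b {j} (Finset.singleton_nonempty j)).2 (genAt b j)
    have e := (hPφ {j} (Finset.singleton_nonempty j) f).trans (hPφ' {j} (Finset.singleton_nonempty j) f).symm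
    rw [hf] at e
    exact e

/-- The trace is bijective. -/
theorem trP_bijective : Function.Bijective (trP n R) := by
  have huniq : ∀ a ∈ topExp (Ix.{u} n) (-((n : ℤ) + 1)), a = negOne _ := fun a ha => funext fun i => by
    rcases n.eq_zero_or_pos with hn | hn
    · have hι : Subsingleton (Ix.{u} n) := Fintype.card_le_one_iff_subsingleton.1 (by simp [hn])
      have := ha.1
      rw [Fintype.sum_subsingleton a i, hn] at this
      simpa [negOne] using this
    · have hneg := topExp_neg (eIx.{u} n) hn ha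
      have h1 : ∑ k ∈ (Finset.univ : Finset (Ix.{u} n)).erase i, a k ≤ ∑ k ∈ Finset.univ.erase i, (-1 : ℤ) :=
        Finset.sum_le_sum fun k _ => by have := hneg k; omega
      have h2 := Finset.add_sum_erase Finset.univ a (Finset.mem_univ i)
      have h3 := ha.1
      simp at h1
      have := hneg i
      simp only [negOne]
      omega
  refine ⟨(injective_iff_map_eq_zero _).2 fun x hx => coordH_ext x fun a ha => ?_, fun r => ?_⟩
  · obtain rfl := huniq a ha
    exact hx
  · obtain ⟨x, hx⟩ := exists_coordClass (R := R) (negOne_mem_topExp (eIx.{u} n))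
    exact ⟨r • x, by rw [map_smul]; exact (congrArg (r • ·) ((hx _ _).trans (if_pos rfl))).trans (mul_one r)⟩

end Groth.Agent.ProjCoh
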