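import Groth.Agent.ProjCoh.TwistEpi
import Groth.Agent.ProjCoh.TwistDuality
import Groth.Agent.CohFinite.DevissageGen
import Groth.Agent.QCohLib.FiniteType

/-!
# Duality in the top degree for coherent modules on projective space

The pairing is stated for the Čech cohomology on the standard charts.
-/

universe u

open CategoryTheory CategoryTheory.Limits AlgebraicGeometry TopologicalSpace Opposite
open scoped Groth.Agent.CohVanish

attribute [local instance] Abelian.hasFiniteBiproducts

namespace Groth.Agent.ProjCoh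

open Groth.Agent.CechCmp Groth.Agent.CohVanish

variable {n : ℕ} {R : Type u} [CommRing R]

local notation "𝒜" => CohB1.polyGrading n R

theorem isCoh_twist_self (a : ℤ) : Coh.IsCoh (Twist.twist (CohB1.polyGrading n R) a) := by
  refine ⟨inferInstance, QCohLib.isFiniteType_of_affine_cover _
    (fun j : Ix.{u} n => ⟨chartMeet R ({j} : Finset (Ix.{u} n)), isAffineOpen_chartMeet _ (Finset.singleton_nonempty j)⟩)
    (fun x => Opens.mem_iSup.1
      (show x ∈ ⨆ j : Ix.{u} n, chartMeet R ({j} : Finset (Ix.{u} n)) by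
        rw [iSup_chartMeet_singleton]; exact Opens.mem_top x))
    fun j => ⟨⟨{genAt a j}, ?_⟩⟩⟩
  rw [Submodule.eq_top_iff']
  intro y
  obtain ⟨r, hr⟩ := (isFreeGen_genAt (R := R) a j _ le_rfl).2 y
  simp only [QCohLib.map_self] at hr
  rw [← hr]
  exact Submodule.smul_mem _ _ (Submodule.subset_span (by simp))

/-- The cohomology of the sections on the chart intersections. -/
def HS (M : (Proj (CohB1.polyGrading n R)).Modules) (p : ℕ) : Type u := (secSys M).H p

noncomputable instance (M : (Proj (CohB1.polyGrading n R)).Modules) (p : ℕ) : AddCommGroup (HS M p) :=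
  inferInstanceAs (AddCommGroup ((secSys M).H p))

noncomputable instance (M : (Proj (CohB1.polyGrading n R)).Modules) (p : ℕ) : Module R (HS M p) :=
  inferInstanceAs (Module R ((secSys M).H p))

/-- The trace, on `HS`. -/
noncomputable def trS (n : ℕ) (R : Type u) [CommRing R] :
    HS (Twist.twist (CohB1.polyGrading n R) (-((n : ℤ) + 1))) n →ₗ[R] R := trP n R

/-- A morphism of modules on Čech cohomology. -/
noncomputable def mapS {M N : (Proj 𝒜).Modules} (φ : M ⟶ N) (p : ℕ) :
    HS M p →ₗ[R] HS N p := (secHomSys φ).mapH p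

lemma mapS_comp {M N K : (Proj 𝒜).Modules} (φ : M ⟶ N) (ψ : N ⟶ K) (p : ℕ) (x : HS M p) :
    mapS (φ ≫ ψ) p x = mapS ψ p (mapS φ p x) := by
  obtain ⟨z, rfl⟩ := Submodule.mkQ_surjective _ x
  rfl

lemma mapS_add {M N : (Proj 𝒜).Modules} (φ ψ : M ⟶ N) (p : ℕ) (x : HS M p) :
    mapS (φ + ψ) p x = mapS φ p x + mapS ψ p x := by
  obtain ⟨z, rfl⟩ := Submodule.mkQ_surjective _ x
  rfl

lemma mapS_id {M : (Proj 𝒜).Modules} (p : ℕ) (x : HS M p) : mapS (𝟙 M) p x = x := by
  obtain ⟨z, rfl⟩ := Submodule.mkQ_surjective _ x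
  rfl

lemma mapS_zero {M N : (Proj 𝒜).Modules} (p : ℕ) (x : HS M p) : mapS (0 : M ⟶ N) p x = 0 := by
  have := mapS_add (0 : M ⟶ N) 0 p x
  rw [add_zero] at this
  exact left_eq_add.1 this

lemma mapS_sum {M N : (Proj 𝒜).Modules} {κ : Type*} (s : Finset κ) (φ : κ → (M ⟶ N)) (p : ℕ)
    (x : HS M p) : mapS (∑ c ∈ s, φ c) p x = ∑ c ∈ s, mapS (φ c) p x := by
  classical
  induction s using Finset.induction with
  | empty => simpa using mapS_zero p x
  | insert c t hc ih => rw [Finset.sum_insert hc, Finset.sum_insert hc, mapS_add, ih]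

/-- The pairing with `ω` is perfect for `M`. -/
def HasDual (M : (Proj (CohB1.polyGrading n R)).Modules) : Prop :=
  ∀ ψ : HS M n →ₗ[R] R,
    ∃! φ : M ⟶ Twist.twist (CohB1.polyGrading n R) (-((n : ℤ) + 1)),
      ∀ x, ψ x = trS n R (mapS φ n x)

theorem hasDual_twist (b : ℤ) : HasDual (Twist.twist (CohB1.polyGrading n R) b) := fun ψ =>
  existsUnique_pairing_twist b ψ

/-- A class of a finite biproduct is the sum of its components. -/
lemma eq_sum_mapS {r : ℕ} (f : Fin r → (Proj (CohB1.polyGrading n R)).Modules) (p : ℕ) (x : HS (⨁ f) p) :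
    x = ∑ c, mapS (biproduct.ι f c) p (mapS (biproduct.π f c) p x) := by
  refine ((mapS_id p x).symm.trans ?_)
  rw [← biproduct.total (f := f), mapS_sum]
  exact Finset.sum_congr rfl fun c _ => mapS_comp _ _ p x

/-- The pairing is perfect for a finite biproduct of modules for which it is perfect. -/
theorem hasDual_biproduct {r : ℕ} (f : Fin r → (Proj (CohB1.polyGrading n R)).Modules)
    (hf : ∀ c, HasDual (f c)) : HasDual (⨁ f) := by
  intro ψ
  have hd : ∀ c, ∃! φ : f c ⟶ Twist.twist (CohB1.polyGrading n R) (-((n : ℤ) + 1)),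
      ∀ x, (ψ ∘ₗ mapS (biproduct.ι f c) n) x = trS n R (mapS φ n x) :=
    fun c => hf c (ψ ∘ₗ mapS (biproduct.ι f c) n)
  refine ⟨biproduct.desc fun c => (hd c).exists.choose, fun x => ?_, fun φ hφ => ?_⟩
  · have e : ∀ c y, ψ (mapS (biproduct.ι f c) n y) =
        trS n R (mapS (biproduct.desc fun c => (hd c).exists.choose) n (mapS (biproduct.ι f c) n y)) := fun c y => by
      rw [← mapS_comp, biproduct.ι_desc]
      exact (hd c).exists.choose_spec y
    rw [eq_sum_mapS f n x, map_sum, map_sum, map_sum]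
    exact Finset.sum_congr rfl fun c _ => e c _
  · refine biproduct.hom_ext' _ _ fun c => ?_
    rw [biproduct.ι_desc]
    exact (hd c).unique (fun x => (hφ _).trans (congrArg (trS n R) (mapS_comp _ _ n x).symm))
      (hd c).exists.choose_spec

/-- The pairing is perfect for a finite sum of one twist. -/
theorem hasDual_twist_biproduct (b : ℤ) (r : ℕ) :
    HasDual (⨁ fun _ : Fin r => Twist.twist (CohB1.polyGrading n R) b) :=
  hasDual_biproduct (fun _ : Fin r => Twist.twist (CohB1.polyGrading n R) b) fun _ => hasDual_twist b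

variable [IsNoetherianRing R]

/-- The top cohomology is right exact. -/
theorem surjective_mapS_top {M N : (Proj 𝒜).Modules} (φ : M ⟶ N) [Epi φ] (hM : Coh.IsCoh M)
    (hN : Coh.IsCoh N) : Function.Surjective (mapS φ n) := by
  have hS : (ShortComplex.mk (kernel.ι φ) φ (kernel.condition φ)).ShortExact :=
    { exact := ShortComplex.exact_of_f_is_kernel _ (kernelIsKernel φ) }
  have := hM.1
  have := hN.1
  have : (kernel φ).IsQuasicoherent := (QCohLib.isCoh_kernel φ hM hN.1).1
  have h0 := ses_twSecHom (S := ShortComplex.mk (kernel.ι φ) φ (kernel.condition φ)) hS 0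
  have hses : Sys.SES (secHomSys (kernel.ι φ)) (secHomSys φ) := ⟨h0.inj, h0.comp, h0.exact, h0.surj⟩
  have : Subsingleton ((secSys (kernel φ)).H (n + 1)) :=
    Sys.subsingleton_H_of_fintype_card_le _ (by simp)
  exact hses.surjective_mapH n

/-- **Duality in the top degree.** -/
theorem hasDual_of_isCoh (M : (Proj (CohB1.polyGrading n R)).Modules) (hM : Coh.IsCoh M) : HasDual M := by
  intro ψ
  have hsub : ∀ (N : (Proj (CohB1.polyGrading n R)).Modules), Coh.IsCoh N →
      ∀ φ : N ⟶ Twist.twist (CohB1.polyGrading n R) (-((n : ℤ) + 1)), (∀ x, trS n R (mapS φ n x) = 0) → φ = 0 := by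
    intro N hN φ hφ
    obtain ⟨q, r, g, hg⟩ := exists_epi_twist N hN
    rw [← cancel_epi (biproduct.desc g), comp_zero]
    let L := ⨁ fun _ : Fin r => Twist.twist (CohB1.polyGrading n R) (-(q : ℤ))
    obtain ⟨a, -, hu⟩ := hasDual_twist_biproduct (R := R) (n := n) (-(q : ℤ)) r (0 : HS L n →ₗ[R] R)
    have h1 : ∀ x : HS L n, (0 : HS L n →ₗ[R] R) x = trS n R (mapS (biproduct.desc g ≫ φ) n x) :=
      fun x => by rw [mapS_comp, hφ, LinearMap.zero_apply]
    have h2 : ∀ x : HS L n, (0 : HS L n →ₗ[R] R) x =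
        trS n R (mapS (0 : L ⟶ Twist.twist (CohB1.polyGrading n R) (-((n : ℤ) + 1))) n x) :=
      fun x => by rw [mapS_zero, map_zero, LinearMap.zero_apply]
    exact (hu _ h1).trans (hu _ h2).symm
  obtain ⟨q, r, g, hg⟩ := exists_epi_twist M hM
  let G := biproduct.desc g
  let L := ⨁ fun _ : Fin r => Twist.twist (CohB1.polyGrading n R) (-(q : ℤ))
  have hL : Coh.IsCoh L := CohFinite.isCoh_biproduct (isCoh_twist_self (-(q : ℤ))) r
  obtain ⟨φL, hφL, -⟩ := hasDual_twist_biproduct (-(q : ℤ)) r (ψ ∘ₗ mapS G n)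
  have hK : kernel.ι G ≫ φL = 0 := hsub _ (QCohLib.isCoh_kernel G hL hM.1) _ fun x => by
    rw [mapS_comp, ← hφL, LinearMap.comp_apply, ← mapS_comp, kernel.condition, mapS_zero, map_zero]
  have hex : (ShortComplex.mk (kernel.ι G) G (kernel.condition G)).Exact :=
    ShortComplex.exact_of_f_is_kernel _ (kernelIsKernel G)
  have : Epi (ShortComplex.mk (kernel.ι G) G (kernel.condition G)).g := hg
  refine ⟨hex.desc φL hK, fun x => ?_, fun φ hφ => ?_⟩
  · obtain ⟨y, rfl⟩ := surjective_mapS_top G hL hM x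
    refine (hφL y).trans ?_
    rw [← mapS_comp, hex.g_desc φL hK]
  · refine sub_eq_zero.1 (hsub M hM _ fun x => ?_)
    obtain ⟨y, rfl⟩ := surjective_mapS_top G hL hM x
    have e1 := hφ (mapS G n y)
    have e2 : trS n R (mapS (hex.desc φL hK) n (mapS G n y)) = ψ (mapS G n y) := by
      rw [← mapS_comp, hex.g_desc φL hK]; exact (hφL y).symm
    have e3 := mapS_add (φ - hex.desc φL hK) (hex.desc φL hK) n (mapS G n y)
    rw [sub_add_cancel] at e3
    rw [e3, map_add, e2] at e1
    exact right_eq_add.1 e1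

end Groth.Agent.ProjCoh
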