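import Groth.Agent.ProjCoh.LSys

/-!
# Finiteness of the Čech cohomology of coherent systems
-/

universe u

namespace Groth.Agent.ProjCoh

open Finset
open Groth.Agent.CechCmp

variable {R : Type u} [CommRing R] {ι : Type u} [Fintype ι] [DecidableEq ι]

lemma mul_mem_cone_supp {d : ℤ} {s : Finset ι} {f g : Laurent R ι} (hf : f ∈ reg R s)
    (hg : g ∈ supp R (cone d s)) : f * g ∈ supp R (cone d s) :=
  mul_mem_supp (fun a ha b hb => by simpa using add_mem_cone ha hb) hf hg

/-- The module structure of a twisted piece. -/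
noncomputable instance modTwist (d : ℤ) (s : Finset ι) : Module (reg R s) (supp R (cone (ι := ι) d s)) where
  smul f x := ⟨(f : Laurent R ι) * (x : Laurent R ι), mul_mem_cone_supp f.2 x.2⟩
  one_smul x := Subtype.ext (one_mul _)
  mul_smul f g x := Subtype.ext (mul_assoc _ _ _)
  smul_zero f := Subtype.ext (mul_zero _)
  smul_add f x y := Subtype.ext (mul_add _ _ _)
  add_smul f g x := Subtype.ext (add_mul _ _ _)
  zero_smul x := Subtype.ext (zero_mul _)

lemma coe_smul_twist {d : ℤ} {s : Finset ι} (f : reg R s) (x : supp R (cone (ι := ι) d s)) :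
    ((f • x : supp R (cone (ι := ι) d s)) : Laurent R ι) = (f : Laurent R ι) * (x : Laurent R ι) := rfl

instance towerTwist (d : ℤ) (s : Finset ι) :
    IsScalarTower R (reg R s) (supp R (cone (ι := ι) d s)) where
  smul_assoc r f x := Subtype.ext (by
    simp only [coe_smul_twist, SetLike.val_smul, Algebra.smul_mul_assoc])

variable {κ : Type} [Fintype κ]

variable (R ι) in
/-- A finite sum of twisted systems. -/
noncomputable abbrev freeSys (d : κ → ℤ) : Sys R ι where
  obj s := ModuleCat.of R (∀ c, supp R (cone (ι := ι) (d c) s))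
  res h := LinearMap.pi fun c => Submodule.inclusion (supp_mono (cone_mono (d c) h)) ∘ₗ LinearMap.proj c
  res_refl _ _ := rfl
  res_res _ _ _ := rfl

variable (R ι) in
/-- A finite sum of twisted systems, with its module structures. -/
noncomputable abbrev free (d : κ → ℤ) : LSys R ι where
  toSys := freeSys R ι d
  mod s := inferInstanceAs (Module (reg R s) (∀ c, supp R (cone (ι := ι) (d c) s)))
  tower s := inferInstanceAs (IsScalarTower R (reg R s) (∀ c, supp R (cone (ι := ι) (d c) s)))
  res_smul _ _ _ := rfl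
  loc_surj {s} {j} hj i y := by
    classical
    let k : ℕ := univ.sup fun c => ((y c : Laurent R ι).coeff.support.sup fun a => (-a i).toNat)
    have hk : ∀ c a, (y c : Laurent R ι).coeff a ≠ 0 → 0 ≤ a i + k := fun c a ha => by
      have h1 : (-a i).toNat ≤ (y c : Laurent R ι).coeff.support.sup fun a => (-a i).toNat :=
        Finset.le_sup (f := fun a => (-a i).toNat) (Finsupp.mem_support_iff.2 ha)
      have h2 : _ ≤ k := Finset.le_sup (f := fun c => ((y c : Laurent R ι).coeff.support.sup fun a => (-a i).toNat)) (mem_univ c)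
      have := Int.self_le_toNat (-a i)
      omega
    refine ⟨k, fun c => ⟨AddMonoidAlgebra.single ((k : ℤ) • ev i - (k : ℤ) • ev j) 1 * (y c : Laurent R ι), ?_⟩, rfl⟩
    let D : Set (Expo ι) := {a | a ∈ cone (d c) (insert i s) ∧ 0 ≤ a i + k}
    refine mul_mem_supp (C := {(k : ℤ) • ev i - (k : ℤ) • ev j}) (D := D) ?_
      (single_mem_supp (R := R) (C := {(k : ℤ) • ev i - (k : ℤ) • ev j}) (Set.mem_singleton _) 1) fun a ha => ⟨(y c).2 a ha, hk c a ha⟩
    rintro _ rfl a ⟨ha, hai⟩
    refine ⟨?_, fun l hl => ?_⟩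
    · simp only [Pi.add_apply, Finset.sum_add_distrib]
      rw [sum_smul_ev_sub, ha.1, zero_add]
    · by_contra hls
      have hlj : l ≠ j := fun e => hls (e ▸ hj)
      simp only [Pi.add_apply, Pi.sub_apply, Pi.smul_apply, smul_eq_mul, ev, Pi.single_apply,
        if_neg hlj] at hl
      by_cases hli : l = i
      · subst hli; simp at hl; omega
      · rw [if_neg hli] at hl
        exact hls ((Finset.mem_insert.1 (ha.2 l (by omega))).resolve_left hli)
  loc_ker {s} {j} hj i x hx := by
    refine ⟨0, ?_⟩
    have : x = 0 := funext fun c => Subtype.ext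
      (show ((x c : supp R (cone (d c) s)) : Laurent R ι) = 0 from
        congrArg (fun z : supp R (cone (d c) (insert i s)) => (z : Laurent R ι)) (congrFun hx c))
    rw [this]
    exact smul_zero _

/-- Morphisms into a system given by twisted sections. -/
structure Secs (N : LSys R ι) (κ : Type) where
  /-- The twists. -/
  k : κ → ℕ
  /-- The sections. -/
  m : ∀ c, N.TSec (k c)

namespace Secs

variable {N : LSys R ι} (S : Secs N κ)

lemma mul_pow_mem {s : Finset ι} {i : ι} {c : κ} {f : Laurent R ι}
    (hf : f ∈ supp R (cone (-(S.k c : ℤ)) s)) :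
    f * AddMonoidAlgebra.single ((S.k c : ℤ) • ev i) 1 ∈ reg R s := by
  refine mul_mem_supp ?_ hf (single_mem_supp (C := cone (S.k c : ℤ) s) ⟨?_, fun l hl => ?_⟩ 1)
  · intro a ha b hb
    simpa using add_mem_cone ha hb
  · simp [← Finset.mul_sum, sum_ev]
  · simp only [Pi.smul_apply, smul_eq_mul, ev, Pi.single_apply] at hl
    split_ifs at hl <;> omega

/-- The coefficient by which a twisted monomial acts on a chart. -/
noncomputable def cf (s : Finset ι) (i : ι) (c : κ) :
    supp R (cone (ι := ι) (-(S.k c : ℤ)) s) →ₗ[reg R s] reg R s where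
  toFun f := ⟨(f : Laurent R ι) * AddMonoidAlgebra.single ((S.k c : ℤ) • ev i) 1, mul_pow_mem S f.2⟩
  map_add' f g := Subtype.ext (add_mul _ _ _)
  map_smul' a f := Subtype.ext (mul_assoc _ _ _)

/-- The map of one chart. -/
noncomputable def chart (s : Finset ι) {i : ι} (hi : {i} ⊆ s) :
    (∀ c, supp R (cone (ι := ι) (-(S.k c : ℤ)) s)) →ₗ[reg R s] N.toSys.obj s :=
  ∑ c, (LinearMap.toSpanSingleton (reg R s) _ (N.toSys.res hi ((S.m c).val i))) ∘ₗ S.cf s i c ∘ₗ
    LinearMap.proj c

lemma chart_apply (s : Finset ι) {i : ι} (hi : {i} ⊆ s) (f) :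
    S.chart s hi f = ∑ c, S.cf s i c (f c) • N.toSys.res hi ((S.m c).val i) := by
  simp [chart, LinearMap.sum_apply]

lemma chart_eq (s : Finset ι) {i l : ι} (hi : {i} ⊆ s) (hl : {l} ⊆ s) :
    S.chart s hi = S.chart s hl := by
  refine LinearMap.ext fun f => ?_
  rw [chart_apply, chart_apply]
  refine Finset.sum_congr rfl fun c _ => ?_
  rw [← (S.m c).compat hi hl, smul_smul]
  congr 1
  refine Subtype.ext ?_
  simp only [cf, LinearMap.coe_mk, AddHom.coe_mk, Subalgebra.coe_mul, coe_rat, mul_assoc,
    AddMonoidAlgebra.single_mul_single, one_mul]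
  congr 2
  abel

lemma chart_res {s t : Finset ι} (h : s ⊆ t) {i : ι} (hi : {i} ⊆ s) (f) :
    N.toSys.res h (S.chart s hi f) =
      S.chart t (hi.trans h) ((free R ι fun c => -(S.k c : ℤ)).toSys.res h f) := by
  rw [chart_apply, chart_apply, map_sum]
  refine Finset.sum_congr rfl fun c _ => ?_
  rw [N.res_smul, N.toSys.res_res]
  rfl

/-- The elements killed by the morphism, as a system. -/
noncomputable def kerSet (s : Finset ι) :
    Submodule (reg R s) (∀ c, supp R (cone (ι := ι) (-(S.k c : ℤ)) s)) where
  carrier := {f | ∀ (t : Finset ι) (h : s ⊆ t) (i : ι) (hi : {i} ⊆ t),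
    S.chart t hi ((free R ι fun c => -(S.k c : ℤ)).toSys.res h f) = 0}
  zero_mem' := fun t h i hi => by rw [map_zero, map_zero]
  add_mem' := fun {f g} hf hg t h i hi => by rw [map_add, map_add, hf t h i hi, hg t h i hi, add_zero]
  smul_mem' := fun a f hf t h i hi => by
    rw [(free R ι fun c => -(S.k c : ℤ)).res_smul, map_smul, hf t h i hi, smul_zero]

lemma mem_kerSet {s : Finset ι} {i : ι} (hi : {i} ⊆ s) {f} :
    f ∈ S.kerSet s ↔ S.chart s hi f = 0 := by
  refine ⟨fun h => (by have := h s subset_rfl i hi; exact this), fun h t hst l hl => ?_⟩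
  rw [S.chart_eq t hl (hi.trans hst), ← S.chart_res hst hi, h, map_zero]

lemma res_mem_kerSet {s t : Finset ι} (h : s ⊆ t) {f} (hf : f ∈ S.kerSet s) :
    (free R ι fun c => -(S.k c : ℤ)).toSys.res h f ∈ S.kerSet t := fun v hv i hi => by
  rw [(free R ι fun c => -(S.k c : ℤ)).toSys.res_res]
  exact hf v (h.trans hv) i hi

/-- The kernel system. -/
noncomputable abbrev kerSys : Sys R ι where
  obj s := ModuleCat.of R (S.kerSet s)
  res {s t} h :=
    { toFun := fun f => ⟨(free R ι fun c => -(S.k c : ℤ)).toSys.res h f.1, S.res_mem_kerSet h f.2⟩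
      map_add' := fun _ _ => rfl
      map_smul' := fun _ _ => rfl }
  res_refl _ _ := rfl
  res_res _ _ _ := rfl

/-- The kernel, with its module structures. -/
noncomputable abbrev ker : LSys R ι where
  toSys := S.kerSys
  mod s := inferInstanceAs (Module (reg R s) (S.kerSet s))
  tower s := inferInstanceAs (IsScalarTower R (reg R s) (S.kerSet s))
  res_smul _ _ _ := rfl
  loc_surj {s} {j} hj i y := by
    obtain ⟨k, x, hx⟩ := (free R ι fun c => -(S.k c : ℤ)).loc_surj hj i y.1
    have hjs : {j} ⊆ s := singleton_subset_iff.2 hj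
    have h0 : N.toSys.res (subset_insert i s) (S.chart s hjs x) = 0 := by
      rw [chart_res, ← hx, map_smul, (S.mem_kerSet _).1 y.2, smul_zero]
    obtain ⟨b, hb⟩ := N.loc_ker hj i _ h0
    refine ⟨b + k, ⟨rat hj b i • x, (S.mem_kerSet hjs).2 (by rw [map_smul, hb])⟩, Subtype.ext ?_⟩
    change rat (mem_insert_of_mem hj) (b + k) i • y.1 =
      (free R ι fun c => -(S.k c : ℤ)).toSys.res (subset_insert i s) (rat hj b i • x)
    rw [(free R ι fun c => -(S.k c : ℤ)).res_smul, ← hx, smul_smul, incl_rat, rat_add]
  loc_ker {s} {j} hj i x hx := by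
    obtain ⟨k, hk⟩ := (free R ι fun c => -(S.k c : ℤ)).loc_ker hj i x.1 (congrArg Subtype.val hx)
    exact ⟨k, Subtype.ext hk⟩

end Secs

/-- Degree zero Laurent polynomials of one chart form a Noetherian ring. -/
theorem isNoetherianRing_reg_singleton [IsNoetherianRing R] (j : ι) :
    IsNoetherianRing (reg R ({j} : Finset ι)) := by
  classical
  let φ : MvPolynomial ι R →ₐ[R] reg R ({j} : Finset ι) :=
    MvPolynomial.aeval fun i => rat (mem_singleton_self j) 1 i
  suffices h : Function.Surjective φ from isNoetherianRing_of_surjective _ _ φ.toRingHom h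
  have hmon : ∀ a ∈ cone 0 ({j} : Finset ι), ∃ q, (φ q : Laurent R ι) = AddMonoidAlgebra.single a 1 := by
    intro a ha
    refine ⟨∏ i ∈ univ.erase j, MvPolynomial.X i ^ (a i).toNat, ?_⟩
    rw [map_prod, SubmonoidClass.coe_finsetProd]
    simp only [map_pow, φ, MvPolynomial.aeval_X, SubmonoidClass.coe_pow, coe_rat,
      AddMonoidAlgebra.single_pow, one_pow]
    rw [AddMonoidAlgebra.prod_single, Finset.prod_const_one]
    congr 1
    funext l
    simp only [Finset.sum_apply, Pi.smul_apply, Pi.sub_apply, ev, Pi.single_apply, smul_eq_mul,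
      nsmul_eq_mul, Nat.cast_one, one_mul, Pi.mul_apply, Pi.natCast_apply]
    have hnn : ∀ i, i ≠ j → ((a i).toNat : ℤ) = a i := fun i hi =>
      Int.toNat_of_nonneg (le_of_not_gt fun h => hi (Finset.mem_singleton.1 (ha.2 i h)))
    rw [Finset.sum_congr rfl fun i hi => by rw [hnn i (Finset.ne_of_mem_erase hi)]]
    simp only [mul_sub, mul_ite, mul_one, mul_zero, Finset.sum_sub_distrib, Finset.sum_ite_eq,
      Finset.mem_erase, mem_univ, and_true]
    by_cases hl : l = j
    · subst hl
      simp only [ne_eq, not_true, if_false, if_true, zero_sub]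
      have := Finset.add_sum_erase univ a (mem_univ l)
      rw [ha.1] at this
      omega
    · simp [hl]
  intro f
  choose q hq using hmon
  let g : Expo ι → MvPolynomial ι R := fun a =>
    if h : a ∈ cone 0 ({j} : Finset ι) then MvPolynomial.C ((f : Laurent R ι).coeff a) * q a h else 0
  refine ⟨∑ a ∈ (f : Laurent R ι).coeff.support, g a, Subtype.ext ?_⟩
  rw [map_sum, AddSubmonoidClass.coe_finsetSum]
  conv_rhs => rw [← AddMonoidAlgebra.sum_single (f : Laurent R ι)]
  refine Finset.sum_congr rfl fun a ha => ?_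
  simp only [g, dif_pos (f.2 a (Finsupp.mem_support_iff.1 ha)), map_mul, Subalgebra.coe_mul, hq]
  simp [φ, AddMonoidAlgebra.coe_algebraMap, AddMonoidAlgebra.single_mul_single]

lemma free_fg (d : κ → ℤ) : (free R ι d).FG := fun j => by
  let g : ∀ c, reg R ({j} : Finset ι) →ₗ[reg R ({j} : Finset ι)] supp R (cone (ι := ι) (d c) {j}) := fun c =>
    LinearMap.toSpanSingleton _ _ ⟨AddMonoidAlgebra.single (d c • ev j) 1, single_mem_supp (R := R) (C := cone (d c) {j})
      ⟨by simp [← Finset.mul_sum, sum_ev], fun l hl => by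
        simp only [Pi.smul_apply, smul_eq_mul, ev, Pi.single_apply] at hl
        split_ifs at hl with h
        · exact Finset.mem_singleton.2 h
        · omega⟩ 1⟩
  refine Module.Finite.of_surjective (LinearMap.pi fun c => g c ∘ₗ LinearMap.proj c) fun y => ?_
  refine ⟨fun c => ⟨(y c : Laurent R ι) * AddMonoidAlgebra.single (-d c • ev j) 1, ?_⟩, funext fun c => Subtype.ext ?_⟩
  · refine mul_mem_supp ?_ (y c).2 (single_mem_supp (C := {-d c • ev j}) rfl 1)
    rintro a ha _ rfl
    refine ⟨by simp [Finset.sum_add_distrib, ← Finset.mul_sum, sum_ev, ha.1], fun l hl => ?_⟩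
    by_contra h
    have : l ≠ j := fun e => h (Finset.mem_singleton.2 e)
    simp only [Pi.add_apply, Pi.smul_apply, smul_eq_mul, ev, Pi.single_apply, if_neg this, mul_zero,
      add_zero] at hl
    exact h (ha.2 l hl)
  · simp only [LinearMap.pi_apply, LinearMap.comp_apply, LinearMap.proj_apply, g,
      LinearMap.toSpanSingleton_apply, coe_smul_twist, mul_assoc, AddMonoidAlgebra.single_mul_single,
      one_mul, neg_smul, neg_add_cancel]
    rw [← AddMonoidAlgebra.one_def, mul_one]

theorem finite_free_H [IsNoetherianRing R] [Nonempty ι] (d : κ → ℤ) (p : ℕ) :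
    Module.Finite R ((freeSys R ι d).H p) := by
  let pr : ∀ c, Sys.Hom (freeSys R ι d) (twist R ι (d c)) := fun c =>
    { app := fun s => LinearMap.proj c, nat := fun _ _ _ => rfl }
  letI : ∀ c, AddCommGroup ((twist R ι (d c)).H p) := fun c => Submodule.Quotient.addCommGroup _
  letI : ∀ c, Module R ((twist R ι (d c)).H p) := fun c => Submodule.Quotient.module _
  let Φ : (freeSys R ι d).H p →ₗ[R] (∀ c, (twist R ι (d c)).H p) :=
    LinearMap.pi fun c => (pr c).mapH p
  haveI : ∀ c, IsNoetherian R ((twist R ι (d c)).H p) := fun c => by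
    haveI := finite_twist_H (R := R) (ι := ι) (d c) p
    exact isNoetherian_of_isNoetherianRing_of_finite R _
  refine Module.Finite.of_injective Φ ((injective_iff_map_eq_zero Φ).2 fun x hx => ?_)
  obtain ⟨z, rfl⟩ := Submodule.mkQ_surjective _ x
  refine ((freeSys R ι d).cls_eq_zero_iff z).2 ?_
  have hc : ∀ c, (pr c).mapC (p + 1) (z : (freeSys R ι d).C (p + 1)) ∈ (twist R ι (d c)).B p := fun c =>
    ((twist R ι (d c)).cls_eq_zero_iff _).1 (congrFun hx c)
  cases p with
  | zero =>
    change (z : (freeSys R ι d).C 1) ∈ (⊥ : Submodule R _)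
    rw [Submodule.mem_bot]
    refine funext fun σ => funext fun c => ?_
    exact congrFun ((Submodule.mem_bot R).1 (hc c)) σ
  | succ q =>
    choose b hb using hc
    refine ⟨fun σ c => b c σ, funext fun σ => funext fun c => ?_⟩
    refine Eq.trans ?_ (congrFun (hb c) σ)
    exact congrFun ((pr c).mapC_d q (fun σ c => b c σ)) σ

namespace Secs

variable {N : LSys R ι} (S : Secs N κ)

/-- A chosen element of a nonempty set. -/
noncomputable def pick [Nonempty ι] (s : Finset ι) : ι :=
  if h : s.Nonempty then h.choose else Classical.arbitrary ι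

lemma pick_subset [Nonempty ι] {s : Finset ι} (hs : s.Nonempty) : {pick s} ⊆ s := by
  simp only [pick, dif_pos hs, singleton_subset_iff]; exact hs.choose_spec

/-- The inclusion of the kernel system. -/
noncomputable def kerHom : Sys.Hom S.ker.toSys (free R ι fun c => -(S.k c : ℤ)).toSys :=
  { app := fun s => (S.kerSet s).subtype.restrictScalars R, nat := fun _ _ _ => rfl }

/-- The morphism given by the sections. -/
noncomputable def secsHom [Nonempty ι] : Sys.Hom (free R ι fun c => -(S.k c : ℤ)).toSys N.toSys :=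
  { app := fun s => if h : {pick s} ⊆ s then (S.chart s h).restrictScalars R else 0
    nat := fun {s t} h x hs => by
      simp only [dif_pos (pick_subset hs), dif_pos (pick_subset (hs.mono h)), LinearMap.coe_restrictScalars]
      rw [S.chart_res, S.chart_eq t ((pick_subset hs).trans h) (pick_subset (hs.mono h))] }

lemma secsHom_apply [Nonempty ι] {s : Finset ι} {i : ι} (hi : {i} ⊆ s) (f) :
    S.secsHom.app s f = S.chart s hi f := by
  have hs : s.Nonempty := ⟨i, singleton_subset_iff.1 hi⟩
  simp only [secsHom, dif_pos (pick_subset hs), LinearMap.coe_restrictScalars]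
  rw [S.chart_eq s hi (pick_subset hs)]

theorem ses [Nonempty ι]
    (hsurj : ∀ (s : Finset ι) (i : ι) (hi : {i} ⊆ s), Function.Surjective (S.chart s hi)) :
    Sys.SES S.kerHom S.secsHom :=
  { inj := fun s _ a b e => Subtype.ext e
    comp := fun s hs x => by
      rw [S.secsHom_apply (pick_subset hs)]
      exact (S.mem_kerSet (pick_subset hs)).1 x.2
    exact := fun s hs y hy => by
      rw [S.secsHom_apply (pick_subset hs)] at hy
      exact ⟨⟨y, (S.mem_kerSet (pick_subset hs)).2 hy⟩, rfl⟩
    surj := fun s hs y => by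
      obtain ⟨x, hx⟩ := hsurj s (pick s) (pick_subset hs) y
      exact ⟨x, (S.secsHom_apply (pick_subset hs) x).trans hx⟩ }

end Secs

/-- A coherent system is covered by a sum of twisted systems, with coherent kernel. -/
theorem LSys.exists_presentation [IsNoetherianRing R] (N : LSys R ι) (hN : N.FG) :
    ∃ (r : ℕ) (S : Secs N (Fin r)), S.ker.FG ∧
      ∀ (s : Finset ι) (i : ι) (hi : {i} ⊆ s), Function.Surjective (S.chart s hi) := by
  have hgen : ∀ j : ι, ∃ (r : ℕ) (g : Fin r → N.toSys.obj {j}),
      Submodule.span (reg R ({j} : Finset ι)) (Set.range g) = ⊤ := fun j => by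
    haveI := hN j
    exact Submodule.fg_iff_exists_fin_generating_family.1 Module.Finite.fg_top
  choose r g hg using hgen
  let e := Fintype.equivFin (Σ j : ι, Fin (r j))
  have hex : ∀ c : Fin (Fintype.card (Σ j : ι, Fin (r j))), ∃ k, ∃ m : N.TSec k,
      m.val (e.symm c).1 = g (e.symm c).1 (e.symm c).2 := fun c => N.exists_tsec _ _
  choose k sec hsec using hex
  let S : Secs N (Fin (Fintype.card (Σ j : ι, Fin (r j)))) := ⟨k, sec⟩
  haveI : ∀ j : ι, IsNoetherianRing (reg R ({j} : Finset ι)) := isNoetherianRing_reg_singleton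
  refine ⟨_, S, fun j => ?_, fun s i hi y => ?_⟩
  · haveI := free_fg (R := R) (ι := ι) (fun c => -(S.k c : ℤ)) j
    haveI : IsNoetherian (reg R ({j} : Finset ι))
        (∀ c, supp R (cone (ι := ι) (-(S.k c : ℤ)) {j})) :=
      isNoetherian_of_isNoetherianRing_of_finite _ _
    exact (inferInstance : Module.Finite (reg R ({j} : Finset ι)) (S.kerSet {j}))
  · have htop : LinearMap.range (S.chart s hi) = ⊤ := by
      rw [eq_top_iff, ← N.span_res_eq_top hi, Submodule.span_le]
      rintro _ ⟨z, rfl⟩
      have hz : z ∈ Submodule.span (reg R ({i} : Finset ι)) (Set.range (g i)) := by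
        rw [hg]; exact Submodule.mem_top
      refine Submodule.span_induction (p := fun z _ => N.toSys.res hi z ∈
        LinearMap.range (S.chart s hi)) ?_ ?_ ?_ ?_ hz
      · rintro _ ⟨l, rfl⟩
        let c := e ⟨i, l⟩
        refine ⟨Pi.single c ⟨AddMonoidAlgebra.single (-(S.k c : ℤ) • ev i) 1,
          single_mem_supp (R := R) (C := cone (-(S.k c : ℤ)) s) ⟨by simp [← Finset.mul_sum, sum_ev], fun v hv => ?_⟩ 1⟩, ?_⟩
        · simp only [Pi.smul_apply, smul_eq_mul, ev, Pi.single_apply] at hv
          split_ifs at hv with h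
          · exact h ▸ singleton_subset_iff.1 hi
          · omega
        · rw [S.chart_apply, Finset.sum_eq_single c]
          · have hv : (S.m c).val i = g i l := by
              have := hsec c
              simp only [c] at this ⊢
              rw [Equiv.symm_apply_apply] at this
              exact this
            rw [hv, Pi.single_eq_same]
            convert one_smul (reg R s) _
            refine Subtype.ext ?_
            simp [Secs.cf, AddMonoidAlgebra.single_mul_single, AddMonoidAlgebra.one_def]
          · intro c' _ hc'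
            rw [Pi.single_eq_of_ne hc', map_zero, zero_smul]
          · simp
      · rw [map_zero]; exact zero_mem _
      · intro a b _ _ ha hb; rw [map_add]; exact add_mem ha hb
      · intro a z _ hz; rw [N.res_smul]; exact Submodule.smul_mem _ _ hz
    exact (htop ▸ Submodule.mem_top : y ∈ LinearMap.range (S.chart s hi))

/-- **Finiteness of the cohomology of coherent systems.** -/
theorem LSys.finite_H [IsNoetherianRing R] [Nonempty ι] :
    ∀ (m : ℕ) (N : LSys R ι), N.FG → ∀ p, Fintype.card ι ≤ p + m → Module.Finite R (N.toSys.H p) := by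
  intro m
  induction m with
  | zero =>
    intro N _ p hp
    haveI := N.toSys.subsingleton_H_of_fintype_card_le (p := p) hp
    infer_instance
  | succ m ih =>
    intro N hN p hp
    obtain ⟨r, S, hK, hsurj⟩ := N.exists_presentation hN
    haveI := ih S.ker hK (p + 1) (by omega)
    haveI := finite_free_H (R := R) (ι := ι) (fun c => -(S.k c : ℤ)) p
    exact (S.ses hsurj).finite_right p

theorem LSys.finite [IsNoetherianRing R] [Nonempty ι] (N : LSys R ι) (hN : N.FG) (p : ℕ) :
    Module.Finite R (N.toSys.H p) :=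
  LSys.finite_H (Fintype.card ι) N hN p (Nat.le_add_left _ _)

end Groth.Agent.ProjCoh
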