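import Groth.Agent.ProjCoh.Regular
import Groth.Agent.ProjTwist.Generated
import Groth.Prelude.Def_Curv2

/-!
# Global sections of regular modules: multiplication by linear forms and global generation
-/

universe u

open CategoryTheory CategoryTheory.Limits AlgebraicGeometry TopologicalSpace Opposite
open scoped Groth.Agent.CohVanish

namespace Groth.Agent.CechCmp.Sys

open Finset

variable {R : Type u} [CommRing R] {ι : Type u} [DecidableEq ι] (S : Sys R ι)

/-- The values of a cocycle of degree zero agree on common supersets. -/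
lemma res_Z0 {z : S.C 1} (hz : z ∈ S.Z 0) (σ τ : Fin 1 → ι) {t : Finset ι}
    (hσ : img σ ⊆ t) (hτ : img τ ⊆ t) : S.res hσ (z σ) = S.res hτ (z τ) := by
  let ρ : Fin 2 → ι := ![σ 0, τ 0]
  have hρ : img ρ ⊆ t := by
    intro x hx
    obtain ⟨k, -, rfl⟩ := Finset.mem_image.1 hx
    fin_cases k
    · exact hσ (mem_img σ 0)
    · exact hτ (mem_img τ 0)
  have h := congrArg (S.res hρ) (congrFun (LinearMap.mem_ker.1 hz) ρ)
  rw [d_apply, Fin.sum_univ_two, Pi.zero_apply, map_zero, map_add] at h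
  simp only [Fin.val_zero, Fin.val_one, pow_zero, pow_one, one_smul, neg_smul, map_neg, S.res_res] at h
  have e0 : ρ ∘ Fin.succAbove 0 = τ := by funext k; fin_cases k; rfl
  have e1 : ρ ∘ Fin.succAbove 1 = σ := by funext k; fin_cases k; rfl
  rw [S.res_congr z e0 _ hτ, S.res_congr z e1 _ hσ] at h
  exact (eq_of_add_neg_eq_zero h).symm

end Groth.Agent.CechCmp.Sys

namespace Groth.Agent.ProjCoh

open Groth.Agent.CechCmp Groth.Agent.CohVanish

variable {n : ℕ} {R : Type u} [CommRing R]

local notation "𝒜" => CohB1.polyGrading n R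

lemma exists_mem_chartMeet (x : ProjectiveSpectrum (CohB1.polyGrading n R)) :
    ∃ σ : Fin 1 → Ix.{u} n, x ∈ chartMeet R (img σ) := by
  have hx : (x : Proj (CohB1.polyGrading n R)) ∈ ⨆ i, chartU (n := n) R i := by
    rw [iSup_chartU]; exact Opens.mem_top _
  obtain ⟨i, hi⟩ := Opens.mem_iSup.1 hx
  refine ⟨fun _ => i, ?_⟩
  have e : img (fun _ : Fin 1 => i) = {i} := by
    ext j; simp [eq_comm]
  change x ∈ ⨅ j ∈ img (fun _ : Fin 1 => i), chartU R j
  rw [e, Finset.iInf_singleton]
  exact hi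

/-- The global section `x_i` of `O(1)`. -/
noncomputable def gx (i : Ix.{u} n) : Γ(Twist.twist (CohB1.polyGrading n R) (1 : ℤ), ⊤) :=
  ProjTwist.fracSect ⊤ (i := 1) (j := 0) ⟨(MvPolynomial.X i.down) ^ 1, X_pow_mem i 1⟩
    ⟨1, SetLike.GradedOne.one_mem⟩ (fun x => ProjTwist.notMem_one _ x.1) (by norm_num)

lemma theta_xi_smul_gen {s : Finset (Ix.{u} n)} (hs : s.Nonempty) (i : Ix.{u} n) :
    theta R s (xi s i) • gen (R := R) (pickIx_mem hs) 1 =
      (Twist.twist (CohB1.polyGrading n R) (1 : ℤ)).presheaf.map (homOfLE (le_top (a := chartMeet R s))).op (gx i) := by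
  refine ProjTwist.sectN_ext fun y => ?_
  refine (ProjTwist.smulT_val (U := chartMeet R s) (theta R s (xi s i)) (gen (pickIx_mem hs) 1) y).trans ?_
  change valAt (theta R s (xi s i)) y.1 y.2 * Localization.mk _ _ = Localization.mk _ _
  rw [xi, dif_pos hs]
  erw [valAt_rat (pickIx_mem hs) 1 y.1 y.2]
  rw [Localization.mk_mul, Localization.mk_eq_mk_iff, Localization.r_iff_exists]
  exact ⟨1, by simp; ring⟩

variable (M : (Proj (CohB1.polyGrading n R)).Modules)

/-- Cocycles of degree zero glue to global sections. -/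
theorem exists_glue (z : (secSys M).C 1) (hz : z ∈ (secSys M).Z 0) :
    ∃ g : Γ(M, ⊤), ∀ σ, M.presheaf.map (homOfLE (le_top (a := chartMeet R (img σ)))).op g =
      asSec M (img σ) (z σ) := by
  classical
  have hle : ∀ σ τ : Fin 1 → Ix.{u} n,
      chartMeet R (img σ) ⊓ chartMeet R (img τ) ≤ chartMeet R (img σ ∪ img τ) := fun σ τ => by
    change _ ≤ ⨅ j ∈ img σ ∪ img τ, chartU R j
    rw [Finset.iInf_union]
  have hcompat : TopCat.Presheaf.IsCompatible M.presheaf (fun σ : Fin 1 → Ix.{u} n => chartMeet R (img σ))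
      (fun σ => asSec M (img σ) (z σ)) := by
    intro σ τ
    have h := (secSys M).res_Z0 hz σ τ Finset.subset_union_left Finset.subset_union_right
    have h' := congrArg (M.presheaf.map (homOfLE (hle σ τ)).op) h
    refine Eq.trans ?_ (h'.trans ?_)
    · exact (ProjTwist.map_map M (hle σ τ) (RSh.meetOpen_anti (chartU R) Finset.subset_union_left) (asSec M _ (z σ))).symm
    · exact ProjTwist.map_map M (hle σ τ) (RSh.meetOpen_anti (chartU R) Finset.subset_union_right) (asSec M _ (z τ))
  obtain ⟨g, hg, -⟩ := TopCat.Sheaf.existsUnique_gluing' ⟨M.presheaf, M.isSheaf⟩ _ ⊤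
    (fun σ => homOfLE le_top) (fun x _ => Opens.mem_iSup.2 (exists_mem_chartMeet x)) _ hcompat
  exact ⟨g, hg⟩

/-- Restrictions of a global section to the charts. -/
noncomputable def resC (g : Γ(M, ⊤)) : (secSys M).C 1 := fun σ =>
  M.presheaf.map (homOfLE (le_top (a := chartMeet R (img σ)))).op g

/-- Restrictions of a global section form a cocycle. -/
lemma resC_mem_Z0 (g : Γ(M, ⊤)) : resC M g ∈ (secSys M).Z 0 := by
  refine LinearMap.mem_ker.2 (funext fun ρ => ?_)
  rw [Sys.d_apply, Fin.sum_univ_two]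
  simp only [Fin.val_zero, Fin.val_one, pow_zero, pow_one, one_smul, neg_smul, Pi.zero_apply]
  refine add_neg_eq_zero.2 ?_
  exact (ProjTwist.map_map M _ _ g).trans (ProjTwist.map_map M _ _ g).symm

lemma eq_of_res_chartMeet (g g' : Γ(M, ⊤))
    (h : ∀ σ : Fin 1 → Ix.{u} n, M.presheaf.map (homOfLE (le_top (a := chartMeet R (img σ)))).op g =
      M.presheaf.map (homOfLE (le_top (a := chartMeet R (img σ)))).op g') : g = g' :=
  TopCat.Sheaf.eq_of_locally_eq' ⟨M.presheaf, M.isSheaf⟩ _ ⊤ (fun _ => homOfLE le_top)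
    (fun x _ => Opens.mem_iSup.2 (exists_mem_chartMeet x)) g g' h

variable [M.IsQuasicoherent]

lemma cmpU_zero {s t : Finset (Ix.{u} n)} (h : s ⊆ t) (hs : s.Nonempty) :
    cmpU (R := R) 0 h = 1 := by
  rw [cmpU_of_nonempty _ h hs]
  exact Subtype.ext (by simp [coe_uz, AddMonoidAlgebra.one_def])

/-- The zeroth twist is the system itself. -/
noncomputable def twZeroHom : Sys.Hom ((ofModule M).twSys 0) (secSys M) where
  app s := LinearMap.id
  nat {s t} h x hs := by
    change cmpU (R := R) 0 h • (ofModule M).toSys.res h x = (ofModule M).toSys.res h x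
    rw [cmpU_zero h hs, one_smul]

/-- Cocycles of the zeroth twist glue. -/
theorem exists_glue_tw0 (z : ((ofModule M).twSys 0).Z 0) :
    ∃ g : Γ(M, ⊤), ∀ σ, M.presheaf.map (homOfLE (le_top (a := chartMeet R (img σ)))).op g =
      asSec M (img σ) (z.1 σ) :=
  exists_glue M _ ((twZeroHom M).mapZ 0 z).2

/-- A cocycle of a twist is a combination of the previous twist's cocycles with the variables. -/
theorem exists_sum_xi (r : ℤ)
    (h : ∀ j : ℕ, 2 ≤ j → Subsingleton (((ofModule M).twSys (r - j)).H (j - 1)))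
    (z : ((ofModule M).twSys r).Z 0) :
    ∃ w : Ix.{u} n → ((ofModule M).twSys (r - 1)).Z 0, ∀ σ, asSec M (img σ) (z.1 σ) =
      ∑ i, theta R (img σ) (xi (img σ) i) • asSec M (img σ) ((w i).1 σ) := by
  let N := ofModule M
  let e : Sys.Hom (N.twSys r) (N.kSys r 0) :=
    { app := fun s => LinearMap.pi fun _ => LinearMap.id
      nat := fun {s t} hst x _ => funext fun _ => by
        change _ = (N.twSys (r - (0 : ℕ))).res hst x
        rw [Nat.cast_zero, sub_zero]
        rfl }
  obtain ⟨x, hx⟩ := N.surjective_kHom_mapH r h ((N.kSys r 0).cls 0 (e.mapZ 0 z))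
  obtain ⟨y, rfl⟩ := Submodule.mkQ_surjective _ x
  have hy : (N.kHom r 0).mapC 1 y.1 = e.mapC 1 z.1 := by
    have h2 := sub_eq_zero.2 hx
    rw [(N.kHom r 0).mapH_cls] at h2
    rw [← map_sub, Sys.cls_eq_zero_iff] at h2
    exact sub_eq_zero.1 (Sys.mem_B_zero.1 h2)
  let pr : ∀ i : Ix.{u} n, Sys.Hom (N.kSys r 1) (N.twSys (r - 1)) := fun i =>
    { app := fun s => LinearMap.proj (fun _ => i)
      nat := fun {s t} hst v _ => by
        change (N.twSys (r - (1 : ℕ))).res hst (v fun _ => i) = _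
        rw [Nat.cast_one]
        rfl }
  refine ⟨fun i => (pr i).mapZ 0 y, fun σ => ?_⟩
  have h3 : kd (P := N.toSys.obj (img σ)) (xi (R := R) (img σ)) 0 (y.1 σ) Fin.elim0 = z.1 σ :=
    congrFun (congrFun hy σ) Fin.elim0
  rw [kd_zero] at h3
  refine h3.symm.trans (Finset.sum_congr rfl fun i _ => ?_)
  change theta R (img σ) (xi (img σ) i) • asSec M (img σ) (y.1 σ (Fin.cons i Fin.elim0)) = _
  congr 1
  change _ = y.1 σ fun _ => i
  refine congrArg (y.1 σ) (funext fun k => ?_)
  fin_cases k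
  rfl

/-- The vanishing that makes `M` zero-regular in every direction to the right. -/
def ZeroRegular : Prop :=
  ∀ (i : ℕ) (e : ℤ), 1 ≤ i → -(i : ℤ) ≤ e → Subsingleton (((ofModule M).twSys e).H i)

/-- Global sections of a zero-regular module span on each chart. -/
theorem mem_span_global (hM : ZeroRegular M) :
    ∀ (k : ℕ) (z : ((ofModule M).twSys (k : ℤ)).Z 0) (σ : Fin 1 → Ix.{u} n),
      asSec M (img σ) (z.1 σ) ∈ Submodule.span Γ(Proj (CohB1.polyGrading n R), chartMeet R (img σ))
        (Set.range fun g : Γ(M, ⊤) => M.presheaf.map (homOfLE (le_top (a := chartMeet R (img σ)))).op g) := by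
  intro k
  induction k with
  | zero =>
    intro z σ
    obtain ⟨g, hg⟩ := exists_glue_tw0 M z
    exact Submodule.subset_span ⟨g, hg σ⟩
  | succ k ih =>
    intro z σ
    have h : ∀ j : ℕ, 2 ≤ j → Subsingleton (((ofModule M).twSys (((k + 1 : ℕ) : ℤ) - j)).H (j - 1)) :=
      fun j hj => hM (j - 1) _ (by omega) (by omega)
    obtain ⟨w, hw⟩ := exists_sum_xi M _ h z
    rw [hw σ]
    refine Submodule.sum_mem _ fun i _ => Submodule.smul_mem _ _ ?_
    have hk : (((k + 1 : ℕ) : ℤ)) - 1 = (k : ℤ) := by push_cast; ring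
    revert w
    rw [hk]
    intro w _
    exact ih (w i) σ

/-- Sections over a chart are spanned by global sections. -/
theorem span_global_eq_top (hM : ZeroRegular M) (j : Ix.{u} n) :
    Submodule.span Γ(Proj (CohB1.polyGrading n R), chartMeet R (img fun _ : Fin 1 => j))
      (Set.range fun g : Γ(M, ⊤) =>
        M.presheaf.map (homOfLE (le_top (a := chartMeet R (img fun _ : Fin 1 => j)))).op g) = ⊤ := by
  rw [Submodule.eq_top_iff']
  intro s₀
  let σ₀ : Fin 1 → Ix.{u} n := fun _ => j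
  have hσ₀ : img σ₀ = {j} := by ext i; simp [σ₀, eq_comm]
  let N := ofModule M
  let s₁ : N.toSys.obj {j} := N.toSys.res hσ₀.le s₀
  obtain ⟨k, m, hm⟩ := N.exists_tsec j s₁
  have hne : ∀ σ : Fin 1 → Ix.{u} n, (img σ).Nonempty := fun σ => ⟨σ 0, mem_img σ 0⟩
  let z : (N.twSys (k : ℤ)).C 1 := fun σ =>
    N.toSys.res (Finset.singleton_subset_iff.2 (pickIx_mem (hne σ))) (m.val (pickIx (img σ)))
  have hz : z ∈ (N.twSys (k : ℤ)).Z 0 := by
    refine LinearMap.mem_ker.2 (funext fun ρ => ?_)
    rw [Sys.d_apply, Fin.sum_univ_two]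
    simp only [Fin.val_zero, Fin.val_one, pow_zero, pow_one, one_smul, neg_smul, Pi.zero_apply]
    refine add_neg_eq_zero.2 ?_
    have key : ∀ (τ : Fin 1 → Ix.{u} n) (h : img τ ⊆ img ρ), (N.twSys (k : ℤ)).res h (z τ) =
        N.toSys.res (Finset.singleton_subset_iff.2 (pickIx_mem ⟨ρ 0, mem_img ρ 0⟩)) (m.val (pickIx (img ρ))) := by
      intro τ h
      change cmpU (R := R) (k : ℤ) h • N.toSys.res h (N.toSys.res _ (m.val (pickIx (img τ)))) = _
      rw [N.toSys.res_res, cmpU_of_nonempty _ h (hne τ),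
        ← m.compat (Finset.singleton_subset_iff.2 (h (pickIx_mem (hne τ))))
          (Finset.singleton_subset_iff.2 (pickIx_mem ((hne τ).mono h)))]
      exact congrArg (fun a : reg R (img ρ) => a • _) (Subtype.ext rfl)
    exact (key _ _).trans (key _ _).symm
  have h := mem_span_global M hM k ⟨z, hz⟩ σ₀
  have hp : pickIx (img σ₀) = j := by
    have := pickIx_mem (hne σ₀)
    rw [hσ₀] at this ⊢
    exact Finset.mem_singleton.1 this
  have he : z σ₀ = s₀ := by
    change N.toSys.res _ (m.val (pickIx (img σ₀))) = s₀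
    have hgen : ∀ (p : Ix.{u} n) (hp' : ({p} : Finset (Ix.{u} n)) ⊆ img σ₀), p = j →
        N.toSys.res hp' (m.val p) = s₀ := by
      rintro p hp' rfl
      rw [hm]
      exact (N.toSys.res_res _ _ _).trans (N.toSys.res_refl _ _)
    exact hgen _ _ hp
  rwa [show asSec M (img σ₀) (z σ₀) = s₀ from he] at h

omit [M.IsQuasicoherent] in
/-- Locally spanning sections give an epimorphism from a free module. -/
theorem isGloballyGenerated_of_locSpan {X : Scheme.{u}} (L : X.Modules)
    (h : ProjTwist.LocSpan L (fun g : Γ(L, ⊤) => g)) : Curv2.IsGloballyGenerated L := by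
  let J : Type u := Γ(L, ⊤)
  let p : (∐ fun _ : J => Coh.structureModule X) ⟶ L :=
    Sigma.desc fun g : J => ProjTwist.globalHom L g
  suffices hp : Epi p from ⟨J, p, hp⟩
  refine ⟨fun {T} a b hab => ?_⟩
  have hi : ∀ g : J, ProjTwist.globalHom L g ≫ a = ProjTwist.globalHom L g ≫ b := fun g => by
    simpa [p] using congrArg (fun q => Sigma.ι (fun _ : J => Coh.structureModule X) g ≫ q) hab
  apply Scheme.Modules.hom_ext
  intro U
  ext t
  refine TopCat.Presheaf.section_ext (⟨T.presheaf, Scheme.Modules.isSheaf T⟩ : TopCat.Sheaf Ab X) U _ _ ?_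
  intro x hx
  obtain ⟨V, hVU, hxV, hmem⟩ := h U t x hx
  have key : ∀ w ∈ Submodule.span Γ(X, V)
      (Set.range fun g : Γ(L, ⊤) => L.presheaf.map (homOfLE (le_top : V ≤ ⊤)).op g),
      a.app V w = b.app V w := by
    intro w hw
    induction hw using Submodule.span_induction with
    | mem w hw =>
      obtain ⟨g, rfl⟩ := hw
      have e := congrArg (fun q : Coh.structureModule X ⟶ T => q.app V (1 : Γ(X, V))) (hi g)
      change a.app V ((ProjTwist.globalHom L g).app V (1 : Γ(X, V))) =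
        b.app V ((ProjTwist.globalHom L g).app V (1 : Γ(X, V))) at e
      rwa [ProjTwist.globalHom_app, one_smul] at e
    | zero => rw [map_zero, map_zero]
    | add u v _ _ hu hv => rw [map_add, map_add, hu, hv]
    | smul c u _ hu => rw [Scheme.Modules.Hom.app_smul, Scheme.Modules.Hom.app_smul, hu]
  have e1 := ConcreteCategory.congr_hom (a.mapPresheaf.naturality (homOfLE hVU).op) t
  have e2 := ConcreteCategory.congr_hom (b.mapPresheaf.naturality (homOfLE hVU).op) t
  change (T.presheaf.germ U x hx).hom (a.app U t) = (T.presheaf.germ U x hx).hom (b.app U t)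
  exact ((TopCat.Presheaf.germ_res_apply T.presheaf (homOfLE hVU) x hxV (a.app U t)).symm.trans
    (congrArg _ ((e1.symm.trans (key _ hmem)).trans e2))).trans
    (TopCat.Presheaf.germ_res_apply T.presheaf (homOfLE hVU) x hxV (b.app U t))

/-- **Mumford**: a zero-regular module is globally generated. -/
theorem isGloballyGenerated_of_zeroRegular (hM : ZeroRegular M) : Curv2.IsGloballyGenerated M := by
  refine isGloballyGenerated_of_locSpan M fun U t x hx => ?_
  obtain ⟨σ, hσ⟩ := exists_mem_chartMeet (n := n) (R := R) x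
  obtain ⟨j, rfl⟩ : ∃ j, σ = fun _ => j := ⟨σ 0, funext fun k => congrArg σ (Fin.ext (by omega))⟩
  have hne : (img fun _ : Fin 1 => j).Nonempty := ⟨j, mem_img (fun _ : Fin 1 => j) 0⟩
  let W := chartMeet R (img fun _ : Fin 1 => j)
  have hW : IsAffineOpen W := isAffineOpen_chartMeet _ hne
  obtain ⟨f, hfU, hxf⟩ := hW.exists_basicOpen_le ⟨x, hx⟩ hσ
  obtain ⟨k, s, hs⟩ := QCohLib.exists_res_eq_pow_smul hW f _ ((Proj (CohB1.polyGrading n R)).basicOpen_le f) rfl
    (M.presheaf.map (homOfLE hfU).op t)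
  refine ⟨_, hfU, hxf, ?_⟩
  have hu : IsUnit ((Proj (CohB1.polyGrading n R)).presheaf.map
      (homOfLE ((Proj (CohB1.polyGrading n R)).basicOpen_le f)).op f) :=
    (Proj (CohB1.polyGrading n R)).toRingedSpace.isUnit_res_basicOpen f
  rw [← Submodule.smul_mem_iff_of_isUnit _ (hu.pow k), ← hs]
  have key : ∀ a ∈ Submodule.span Γ(Proj (CohB1.polyGrading n R), W)
        (Set.range fun g : Γ(M, ⊤) => M.presheaf.map (homOfLE (le_top (a := W))).op g),
      M.presheaf.map (homOfLE ((Proj (CohB1.polyGrading n R)).basicOpen_le f)).op a ∈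
        Submodule.span Γ(Proj (CohB1.polyGrading n R), (Proj (CohB1.polyGrading n R)).basicOpen f)
          (Set.range fun g : Γ(M, ⊤) => M.presheaf.map
            (homOfLE (le_top (a := (Proj (CohB1.polyGrading n R)).basicOpen f))).op g) := by
    intro a ha
    induction ha using Submodule.span_induction with
    | mem w hw =>
      obtain ⟨g, rfl⟩ := hw
      exact Submodule.subset_span ⟨g, (ProjTwist.map_map M _ _ g).symm⟩
    | zero => rw [map_zero]; exact Submodule.zero_mem _
    | add a b _ _ ha hb => rw [map_add]; exact Submodule.add_mem _ ha hb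
    | smul c a _ ha => rw [Scheme.Modules.map_smul]; exact Submodule.smul_mem _ _ ha
  exact key s ((span_global_eq_top M hM j).symm ▸ Submodule.mem_top)

/-- A section of `M(1)` is, on each chart, a combination of global sections of `M` and variables. -/
theorem exists_sum_global (hM : ZeroRegular M)
    (t : Γ(CohB1.tensorMod M (Twist.twist (CohB1.polyGrading n R) (1 : ℤ)), ⊤)) :
    ∃ g : Ix.{u} n → Γ(M, ⊤), ∀ σ : Fin 1 → Ix.{u} n,
      (CohB1.tensorMod M (Twist.twist (CohB1.polyGrading n R) (1 : ℤ))).presheaf.map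
          (homOfLE (le_top (a := chartMeet R (img σ)))).op t =
        genEquiv M (isFreeGen_gen (pickIx_mem (show (img σ).Nonempty from ⟨σ 0, mem_img σ 0⟩)) 1) le_rfl
          (∑ i, theta R (img σ) (xi (img σ) i) •
            M.presheaf.map (homOfLE (le_top (a := chartMeet R (img σ)))).op (g i)) := by
  let φ := twModHom M 1
  have hne : ∀ σ : Fin 1 → Ix.{u} n, (img σ).Nonempty := fun σ => ⟨σ 0, mem_img σ 0⟩
  choose z hz using fun σ : Fin 1 → Ix.{u} n => (twModHom_bijective M 1 (img σ) (hne σ)).2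
    (resC (CohB1.tensorMod M (Twist.twist (CohB1.polyGrading n R) (1 : ℤ))) t σ)
  have hzZ : (z : ((ofModule M).twSys 1).C 1) ∈ ((ofModule M).twSys 1).Z 0 := by
    refine LinearMap.mem_ker.2 (funext fun ρ => (twModHom_bijective M 1 (img ρ) ⟨ρ 0, mem_img ρ 0⟩).1 ?_)
    have h1 := congrFun (φ.mapC_d 0 z) ρ
    have h2 : φ.mapC 1 z = resC _ t := funext hz
    rw [h2] at h1
    refine h1.trans ((congrFun (LinearMap.mem_ker.1 (resC_mem_Z0 _ t)) ρ).trans ?_)
    exact (map_zero _).symm
  obtain ⟨w, hw⟩ := exists_sum_xi M 1 (fun j hj => hM (j - 1) _ (by omega) (by omega)) ⟨z, hzZ⟩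
  revert w
  rw [show (1 : ℤ) - 1 = 0 from rfl]
  intro w hw
  choose g hg using fun i => exists_glue_tw0 M (w i)
  refine ⟨g, fun σ => ((hz σ).symm.trans (twAppAll_apply M 1 (hne σ) _)).trans ?_⟩
  have e : asSec M (img σ) (z σ) = ∑ i, theta R (img σ) (xi (img σ) i) •
      M.presheaf.map (homOfLE (le_top (a := chartMeet R (img σ)))).op (g i) :=
    (hw σ).trans (Finset.sum_congr rfl fun i _ => by rw [hg i σ])
  rw [← e]
  rfl

/-- A section of `M(1)` comes from the sectionwise tensor product. -/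
theorem exists_toTensor_eq (hM : ZeroRegular M)
    (t : Γ(CohB1.tensorMod M (Twist.twist (CohB1.polyGrading n R) (1 : ℤ)), ⊤)) :
    ∃ w : (CohB1.tensorPre M (Twist.twist (CohB1.polyGrading n R) (1 : ℤ))).obj (op ⊤),
      (SecTwist.toTensor M (Twist.twist (CohB1.polyGrading n R) (1 : ℤ))).app (op ⊤) w = t := by
  obtain ⟨g, hg⟩ := exists_sum_global M hM t
  let L := Twist.twist (CohB1.polyGrading n R) (1 : ℤ)
  refine ⟨∑ i, (show (CohB1.toPMod M).obj (op ⊤) from g i) ⊗ₜ[(Proj (CohB1.polyGrading n R)).sheaf.obj.obj (op ⊤)]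
    (show (CohB1.toPMod L).obj (op ⊤) from gx i), ?_⟩
  refine eq_of_res_chartMeet (CohB1.tensorMod M L) _ _ fun σ => ?_
  rw [hg σ]
  refine Eq.trans ?_ (map_sum (genEquiv M (isFreeGen_gen (pickIx_mem (show (img σ).Nonempty from ⟨σ 0, mem_img σ 0⟩)) 1) le_rfl) _ _).symm
  refine (congrArg _ (map_sum ((SecTwist.toTensor M L).app (op ⊤)).hom _ _)).trans ?_
  refine (map_sum ((CohB1.tensorMod M L).presheaf.map (homOfLE (le_top (a := chartMeet R (img σ)))).op).hom _ _).trans ?_
  refine Finset.sum_congr rfl fun i _ => ?_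
  refine (map_tmul_gen M L le_top (g i) (gx i)).trans ?_
  rw [← theta_xi_smul_gen ⟨σ 0, mem_img σ 0⟩ i]
  exact tmul_smul_right M L _ _ _ _

end Groth.Agent.ProjCoh
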