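import Groth.Agent.ProjCoh.TwistHom
import Groth.Agent.ProjCoh.GlobalSections
import Groth.Agent.ProjCoh.Finite
import Groth.Agent.QCohLib.Coherent
import Groth.Agent.QCohLib.Biprod
import Groth.Agent.S2357
import Mathlib.CategoryTheory.Preadditive.Biproducts

/-!
# Coherent modules on projective space as quotients of sums of one negative twist
-/

universe u

open CategoryTheory CategoryTheory.Limits AlgebraicGeometry TopologicalSpace Opposite
open scoped Groth.Agent.CohVanish

namespace Groth.Agent.ProjCoh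

open Groth.Agent.CechCmp Groth.Agent.CohVanish

attribute [local instance] Abelian.hasFiniteBiproducts

variable {n : ℕ} {R : Type u} [CommRing R]

local notation "𝒜" => CohB1.polyGrading n R

instance isLocallyNoetherian_proj [IsNoetherianRing R] : IsLocallyNoetherian (Proj (CohB1.polyGrading n R)) :=
  have := S2357.result (CohB1.polyGrading n R)
  inferInstance

/-- Raising the twist of a twisted section, keeping the value on the chart `j`. -/
theorem exists_tsec_raise {N : LSys R (Ix.{u} n)} {k : ℕ} (m : N.TSec k) (j : Ix.{u} n) (e : ℕ) :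
    ∃ m' : N.TSec (k + e), m'.val j = m.val j := by
  refine ⟨⟨fun i => rat (R := R) (Finset.mem_singleton_self i) e j • m.val i, fun {s i l} hi hl => ?_⟩, ?_⟩
  · rw [N.res_smul, N.res_smul, incl_rat, incl_rat, ← m.compat hi hl, smul_smul, smul_smul]
    congr 1
    rw [← rat_add (R := R) (Finset.singleton_subset_iff.1 hl) k e i, mul_assoc, rat_mul_rat, mul_comm]
  · change rat (R := R) (Finset.mem_singleton_self j) e j • m.val j = m.val j
    rw [rat_self, one_smul]

theorem exists_tsec_raise_cast {N : LSys R (Ix.{u} n)} {k q : ℕ} (m : N.TSec k) (j : Ix.{u} n) {e : ℕ}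
    (h : k + e = q) : ∃ m' : N.TSec q, m'.val j = m.val j := by
  subst h
  exact exists_tsec_raise m j e

/-- A twisted section gives a morphism from a negative twist. -/
theorem exists_hom_of_tsec (M : (Proj 𝒜).Modules) [M.IsQuasicoherent] {k : ℕ} (m : (ofModule M).TSec k) :
    ∃ φ : Twist.twist (CohB1.polyGrading n R) (-(k : ℤ)) ⟶ M,
      ∀ j, φ.app _ (genAt (-(k : ℤ)) j) = asSec M {j} (m.val j) := by
  refine exists_hom_twist (-(k : ℤ)) (fun j => m.val j) fun i j => ?_
  have hi : ({i} : Finset (Ix.{u} n)) ⊆ {i, j} := by simp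
  have hj : ({j} : Finset (Ix.{u} n)) ⊆ {i, j} := by simp
  have h := m.compat hj hi
  have e : uz (R := R) (show i ∈ ({i, j} : Finset (Ix.{u} n)) by simp)
      (show j ∈ ({i, j} : Finset (Ix.{u} n)) by simp) (-(k : ℤ)) =
        rat (R := R) (Finset.singleton_subset_iff.1 hi) k j := by
    refine Subtype.ext ?_
    rw [coe_uz, coe_rat]
    congr 1
    module
  rw [e]
  exact h.symm

/-- A quasi-coherent module has no nonzero morphism vanishing on all chart sections. -/
theorem hom_eq_zero_of_chart {M T : (Proj 𝒜).Modules} [M.IsQuasicoherent] (φ : M ⟶ T)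
    (h : ∀ (j : Ix.{u} n) (x : Γ(M, chartMeet R ({j} : Finset (Ix.{u} n)))), φ.app _ x = 0) : φ = 0 := by
  refine Scheme.Modules.hom_ext _ _ fun U => ConcreteCategory.hom_ext _ _ fun t => ?_
  refine QCohLib.section_ext _ _ fun x hx => ?_
  obtain ⟨j, hj⟩ := Opens.mem_iSup.1
    (show x ∈ ⨆ j : Ix.{u} n, chartMeet R ({j} : Finset (Ix.{u} n)) by
      rw [iSup_chartMeet_singleton]; exact Opens.mem_top x)
  have hW : IsAffineOpen (chartMeet R ({j} : Finset (Ix.{u} n))) :=
    isAffineOpen_chartMeet _ (Finset.singleton_nonempty j)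
  obtain ⟨f, hfU, hxf⟩ := hW.exists_basicOpen_le ⟨x, hx⟩ hj
  obtain ⟨k, s, hs⟩ := QCohLib.exists_res_eq_pow_smul hW f _ ((Proj 𝒜).basicOpen_le f) rfl
    (M.presheaf.map (homOfLE hfU).op t)
  have hu : IsUnit ((Proj 𝒜).presheaf.map (homOfLE ((Proj 𝒜).basicOpen_le f)).op f) :=
    (Proj 𝒜).toRingedSpace.isUnit_res_basicOpen f
  have h1 : φ.app _ (M.presheaf.map (homOfLE hfU).op t) = 0 := by
    refine (hu.pow k).smul_left_cancel.1 ?_
    rw [← Scheme.Modules.Hom.app_smul, ← hs, QCohLib.app_map, h j s, map_zero, smul_zero]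
  rw [QCohLib.app_map] at h1
  have h2 := congrArg (T.presheaf.germ ((Proj 𝒜).basicOpen f) x hxf) h1
  rw [map_zero] at h2
  change T.presheaf.germ U x hx (φ.app U t) = T.presheaf.germ U x hx 0
  rw [map_zero]
  exact (TopCat.Presheaf.germ_res_apply T.presheaf (homOfLE hfU) x hxf (φ.app U t)).symm.trans h2

/-- **A coherent module is a quotient of a finite sum of one negative twist, as negative as wanted.** -/
theorem exists_epi_twist_ge [IsNoetherianRing R] (M : (Proj 𝒜).Modules) (hM : Coh.IsCoh M) (q₀ : ℕ) :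
    ∃ (q r : ℕ) (g : Fin r → (Twist.twist (CohB1.polyGrading n R) (-(q : ℤ)) ⟶ M)),
      q₀ ≤ q ∧ Epi (biproduct.desc g) := by
  have := hM.1
  obtain ⟨r, S, -, hsurj⟩ := (ofModule M).exists_presentation (ofModule_fg M hM.2)
  let q := max q₀ (Finset.univ.sup S.k)
  have hraise : ∀ (c : Fin r) (j : Ix.{u} n), ∃ m : (ofModule M).TSec q, m.val j = (S.m c).val j := fun c j => by
    have e : S.k c + (q - S.k c) = q := Nat.add_sub_cancel' ((Finset.le_sup (f := S.k) (Finset.mem_univ c)).trans (le_max_right q₀ _))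
    exact exists_tsec_raise_cast (S.m c) j e
  choose m hm using hraise
  choose g hg using fun p : Fin r × Ix.{u} n => exists_hom_of_tsec M (m p.1 p.2)
  let e := Fintype.equivFin (Fin r × Ix.{u} n)
  refine ⟨q, _, fun c => g (e.symm c), le_max_left _ _, Preadditive.epi_of_cancel_zero _ fun {T} φ hφ => ?_⟩
  have hzero : ∀ p, g p ≫ φ = 0 := fun p => by
    have := congrArg (fun ψ => biproduct.ι (fun _ => Twist.twist (CohB1.polyGrading n R) (-(q : ℤ))) (e p) ≫ ψ) hφ
    simpa using this
  refine hom_eq_zero_of_chart φ fun j x => ?_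
  obtain ⟨v, hv⟩ := hsurj {j} j subset_rfl (show (ofModule M).toSys.obj {j} from x)
  rw [Secs.chart_apply] at hv
  change φ.app _ (asSec M {j} x) = 0
  rw [← hv]
  refine (map_sum (φ.app (chartMeet R ({j} : Finset (Ix.{u} n)))).hom _ _).trans (Finset.sum_eq_zero fun c _ => ?_)
  change φ.app _ (theta R {j} (S.cf {j} j c (v c)) • asSec M {j} ((secSys M).res subset_rfl ((S.m c).val j))) = 0
  rw [Scheme.Modules.Hom.app_smul, show (secSys M).res (subset_refl ({j} : Finset (Ix.{u} n))) ((S.m c).val j) = (S.m c).val j from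
    (secSys M).res_refl _ _, ← hm c j]
  rw [← hg (c, j) j]
  have h0 := congrArg (fun ψ : _ ⟶ T => ψ.app (chartMeet R ({j} : Finset (Ix.{u} n))) (genAt (-(q : ℤ)) j)) (hzero (c, j))
  change φ.app _ ((g (c, j)).app _ (genAt (-(q : ℤ)) j)) = 0 at h0
  rw [h0, smul_zero]

/-- **A coherent module is a quotient of a finite sum of one negative twist.** -/
theorem exists_epi_twist [IsNoetherianRing R] (M : (Proj 𝒜).Modules) (hM : Coh.IsCoh M) :
    ∃ (q r : ℕ) (g : Fin r → (Twist.twist (CohB1.polyGrading n R) (-(q : ℤ)) ⟶ M)),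
      Epi (biproduct.desc g) := by
  obtain ⟨q, r, g, -, hg⟩ := exists_epi_twist_ge M hM 0
  exact ⟨q, r, g, hg⟩

end Groth.Agent.ProjCoh
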