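import Groth.Agent.ProjCoh.CoherentDuality
import Groth.Agent.CechCmp.Natural

/-!
# The trace on `H^n(P, ω)` and duality for `Sheaf.H`
-/

universe u

open CategoryTheory AlgebraicGeometry TopologicalSpace Opposite
open scoped Groth.Agent.CohVanish

namespace Groth.Agent.ProjCoh

open Groth.Agent.CechCmp Groth.Agent.CohVanish

variable {n : ℕ} {R : Type u} [CommRing R]

/-- The structure map of projective space, on `Proj`. -/
noncomputable local instance overProj (n : ℕ) (R : Type u) [CommRing R] :
    (Proj (CohB1.polyGrading n R)).Over (Spec (CommRingCat.of R)) := ⟨CohB1.ProjSpace.toSpec n R⟩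

/-- **The trace and the pairing on projective space.** -/
theorem exists_trace (n : ℕ) (R : Type u) [CommRing R] :
    ∃ t : Coh.HH (Proj (CohB1.polyGrading n R)) (Twist.twist (CohB1.polyGrading n R) (-((n : ℤ) + 1))) n →ₗ[R] R,
      Function.Bijective t ∧
      ∀ F : (Proj (CohB1.polyGrading n R)).Modules, F.IsQuasicoherent → HasDual  F →
        ∀ ψ : Coh.HH (Proj (CohB1.polyGrading n R)) F n →ₗ[R] R,
          ∃! φ : F ⟶ (Twist.twist (CohB1.polyGrading n R) (-((n : ℤ) + 1))), ∀ x : Coh.HH (Proj (CohB1.polyGrading n R)) F n,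
            ψ x = t (Sheaf.H.map ((SheafOfModules.toSheaf (Proj (CohB1.polyGrading n R)).ringCatSheaf).map φ) n x) := by
  let c := fun (M : (Proj (CohB1.polyGrading n R)).Modules) (hM : M.IsQuasicoherent) =>
    haveI := hM
    (AddEquiv.toLinearEquiv
      (hhCmp (Coh.toGlobal (tS n R)) (chartU R) iSup_chartU (fun s hs => isAffineOpen_chartMeet s hs) M n)
      (fun a x => hhCmp_smul (Coh.toGlobal (tS n R)) (chartU R) iSup_chartU
        (fun s hs => isAffineOpen_chartMeet s hs) M n a x) :
      Coh.HH (Proj (CohB1.polyGrading n R)) M n ≃ₗ[R] HS M n)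
  have hω : (Twist.twist (CohB1.polyGrading n R) (-((n : ℤ) + 1))).IsQuasicoherent :=
    isQuasicoherent_twist_self (R := R) (n := n) _
  refine ⟨trS n R ∘ₗ (c _ hω).toLinearMap, ?_, fun F hF hdual ψ => ?_⟩
  · exact (trP_bijective (R := R) (n := n)).comp (c _ hω).bijective
  · have nat : ∀ (φ : F ⟶ Twist.twist (CohB1.polyGrading n R) (-((n : ℤ) + 1))) x,
        c _ hω (Sheaf.H.map ((SheafOfModules.toSheaf (Proj (CohB1.polyGrading n R)).ringCatSheaf).map φ) n x) =
          mapS φ n (c F hF x) := fun φ x =>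
      hhCmp_natural (Coh.toGlobal (tS n R)) (chartU R) iSup_chartU
        (fun s hs => isAffineOpen_chartMeet s hs) φ n x
    obtain ⟨φ, hφ, hu⟩ := hdual (ψ ∘ₗ (c F hF).symm.toLinearMap)
    refine ⟨φ, fun x => ?_, fun φ' hφ' => hu φ' fun y => ?_⟩
    · change ψ x = trS n R (c _ hω _)
      rw [nat, ← hφ, LinearMap.comp_apply, LinearEquiv.coe_coe, LinearEquiv.symm_apply_apply]
    · change ψ ((c F hF).symm y) = _
      refine (hφ' _).trans ?_
      change trS n R (c _ hω _) = _
      rw [nat, LinearEquiv.apply_symm_apply]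

end Groth.Agent.ProjCoh
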