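import Groth.Agent.ProjCoh.Horrocks

/-!
# Long exact sequence lemmas; global sections of twists as morphisms out of twisting sheaves
-/

universe u

open CategoryTheory CategoryTheory.Limits AlgebraicGeometry TopologicalSpace Opposite
open scoped Groth.Agent.CohVanish

namespace Groth.Agent.CechCmp.Sys

open Finset

variable {R : Type u} [CommRing R] {ι : Type u} [DecidableEq ι] {S G Q : Sys R ι}
  {f : Hom S G} {g : Hom G Q}

/-- Vanishing on the left when the previous map is surjective. -/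
theorem SES.subsingleton_left_of_surjective (h : SES f g) (p : ℕ) (hs : Function.Surjective (g.mapH p))
    [Subsingleton (G.H (p + 1))] : Subsingleton (S.H (p + 1)) := by
  refine subsingleton_of_forall_eq 0 fun x => ?_
  obtain ⟨a, rfl⟩ := Submodule.mkQ_surjective _ x
  obtain ⟨b, hb⟩ := (G.cls_eq_zero_iff (f.mapZ (p + 1) a)).1 (Subsingleton.elim _ 0)
  change G.d (p + 1) b = f.mapC (p + 2) a at hb
  have hgb : g.mapC (p + 1) b ∈ Q.Z p := LinearMap.mem_ker.2 (by rw [← g.mapC_d, hb, h.mapC_comp])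
  obtain ⟨y, hy⟩ := hs (Q.cls p ⟨_, hgb⟩)
  obtain ⟨c, rfl⟩ := Submodule.mkQ_surjective _ y
  have e : Q.cls p (g.mapZ p c - ⟨_, hgb⟩) = 0 := by
    rw [map_sub, sub_eq_zero]
    exact hy
  have hB := (Q.cls_eq_zero_iff _).1 e
  change g.mapC (p + 1) (c : G.C (p + 1)) - g.mapC (p + 1) b ∈ Q.B p at hB
  rw [← map_sub] at hB
  refine (S.cls_eq_zero_iff a).2 ?_
  obtain ⟨d, hd⟩ : ∃ d : G.C (p + 1), g.mapC (p + 1) d = g.mapC (p + 1) (b - c) ∧ G.d (p + 1) d = 0 := by
    have hB' : g.mapC (p + 1) (b - (c : G.C (p + 1))) ∈ Q.B p := by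
      rw [← neg_sub, map_neg]
      exact Submodule.neg_mem _ hB
    cases p with
    | zero => exact ⟨0, by rw [map_zero]; exact ((Submodule.mem_bot R).1 hB').symm, map_zero _⟩
    | succ q =>
      obtain ⟨w, hw⟩ := hB'
      obtain ⟨w', rfl⟩ := h.surjective_mapC q w
      exact ⟨G.d (q + 1) w', by rw [g.mapC_d, hw], d_d _ G _⟩
  obtain ⟨c', hc'⟩ := h.exact_mapC p (b - c - d) (by rw [map_sub (g.mapC (p + 1)), hd.1, sub_self])
  refine ⟨c', h.injective_mapC (p + 1) ?_⟩
  rw [f.mapC_d, hc', map_sub, map_sub, hd.2, sub_zero, LinearMap.mem_ker.1 c.2, sub_zero, hb]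

/-- Injectivity in degree zero. -/
theorem SES.injective_mapH_zero (h : SES f g) : Function.Injective (f.mapH 0) := by
  refine (injective_iff_map_eq_zero _).2 fun x hx => ?_
  obtain ⟨z, rfl⟩ := Submodule.mkQ_surjective _ x
  have h1 := (Submodule.mem_bot R).1 ((G.cls_eq_zero_iff (f.mapZ 0 z)).1 hx)
  refine (S.cls_eq_zero_iff z).2 ((Submodule.mem_bot R).2 (h.injective_mapC 0 ?_))
  rw [map_zero]
  exact h1

end Groth.Agent.CechCmp.Sys

namespace Groth.Agent.ProjCoh

open Groth.Agent.CechCmp Groth.Agent.CohVanish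

variable {n : ℕ} {K : Type u} [Field K]

local notation "𝒜" => CohB1.polyGrading n K

lemma img_const_le (j : Ix.{u} n) : img (fun _ : Fin 1 => j) ⊆ ({j} : Finset (Ix.{u} n)) := by
  intro i hi
  obtain ⟨k, -, rfl⟩ := Finset.mem_image.1 hi
  exact Finset.mem_singleton_self j

/-- Degree zero cocycles of a twist of a system on the pairs of indices. -/
theorem LSys.cocycle_compat {R : Type u} [CommRing R] {ι : Type u} [Fintype ι] [DecidableEq ι] [Nonempty ι]
    (N : LSys R ι) (m : ℤ) (z : (N.twSys m).Z 0) (hle : ∀ j : ι, img (fun _ : Fin 1 => j) ⊆ ({j} : Finset ι))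
    (i j : ι) {t : Finset ι} (hi : {i} ⊆ t) (hj : {j} ⊆ t) :
    N.toSys.res hi (N.toSys.res (hle i) ((z : (N.twSys m).C 1) fun _ => i)) =
      uz (R := R) (hi (Finset.mem_singleton_self i)) (hj (Finset.mem_singleton_self j)) (-m) •
        N.toSys.res hj (N.toSys.res (hle j) ((z : (N.twSys m).C 1) fun _ => j)) := by
  have h := (N.twSys m).res_Z0 z.2 (fun _ => i) (fun _ => j) ((hle i).trans hi) ((hle j).trans hj)
  change cmpU (R := R) m ((hle i).trans hi) • N.toSys.res ((hle i).trans hi) _ =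
    cmpU (R := R) m ((hle j).trans hj) • N.toSys.res ((hle j).trans hj) _ at h
  have hni : (img fun _ : Fin 1 => i).Nonempty := ⟨i, mem_img (fun _ : Fin 1 => i) 0⟩
  have hnj : (img fun _ : Fin 1 => j).Nonempty := ⟨j, mem_img (fun _ : Fin 1 => j) 0⟩
  rw [N.toSys.res_res, N.toSys.res_res]
  rw [cmpU_of_nonempty m _ hni, cmpU_of_nonempty m _ hnj] at h
  have hu := isUnit_cmpU (R := R) m ((hle i).trans hi) hni
  rw [cmpU_of_nonempty m _ hni] at hu
  refine hu.smul_left_cancel.1 ?_
  rw [h, smul_smul]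
  congr 1
  refine Subtype.ext ?_
  simp only [Subalgebra.coe_mul, coe_uz, AddMonoidAlgebra.single_mul_single, one_mul,
    Finset.mem_singleton.1 (hle i (pickIx_mem hni)), Finset.mem_singleton.1 (hle j (pickIx_mem hnj))]
  congr 1
  module

/-- The morphism given by a cocycle of a twist. -/
theorem exists_hom_of_cocycle (E : (Proj 𝒜).Modules) [E.IsQuasicoherent] (m : ℤ) (z : ((ofModule E).twSys m).Z 0) :
    ∃ φ : Twist.twist (CohB1.polyGrading n K) (-m) ⟶ E, ∀ j, φ.app _ (genAt (-m) j) =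
      asSec E {j} ((ofModule E).toSys.res (img_const_le j) ((z : ((ofModule E).twSys m).C 1) fun _ => j)) := by
  refine exists_hom_twist (-m)
    (fun j => (ofModule E).toSys.res (img_const_le j) ((z : ((ofModule E).twSys m).C 1) fun _ => j)) fun i j => ?_
  exact LSys.cocycle_compat (ofModule E) m z img_const_le i j (t := {i, j}) (by simp) (by simp)

/-- The tautological class of `O(-m)(m)`. -/
theorem exists_taut (m : ℤ) :
    ∃ c : ((ofModule (Twist.twist (CohB1.polyGrading n K) (-m))).twSys m).Z 0, ∀ (σ : Fin 1 → Ix.{u} n),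
      asSec _ (img σ) ((c : ((ofModule (Twist.twist (CohB1.polyGrading n K) (-m))).twSys m).C 1) σ) =
        gen (R := K) (pickIx_mem (⟨σ 0, mem_img σ 0⟩ : (img σ).Nonempty)) (-m) := by
  let T := Twist.twist (CohB1.polyGrading n K) (-m)
  have hne : ∀ σ : Fin 1 → Ix.{u} n, (img σ).Nonempty := fun σ => ⟨σ 0, mem_img σ 0⟩
  let c : ((ofModule T).twSys m).C 1 := fun σ => gen (R := K) (pickIx_mem (hne σ)) (-m)
  have hc : c ∈ ((ofModule T).twSys m).Z 0 := by
    refine LinearMap.mem_ker.2 (funext fun ρ => ?_)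
    rw [Sys.d_apply, Fin.sum_univ_two]
    simp only [Fin.val_zero, Fin.val_one, pow_zero, pow_one, one_smul, neg_smul, Pi.zero_apply]
    refine add_neg_eq_zero.2 ?_
    have key' : ∀ (τ : Fin 1 → Ix.{u} n) (h : img τ ⊆ img ρ), ((ofModule T).twSys m).res h (c τ) =
        gen (R := K) (pickIx_mem (⟨ρ 0, mem_img ρ 0⟩ : (img ρ).Nonempty)) (-m) := by
      intro τ h
      change theta K (img ρ) (cmpU (R := K) m h) •
        T.presheaf.map (homOfLE (RSh.meetOpen_anti (chartU K) h)).op (gen (R := K) (pickIx_mem (hne τ)) (-m)) = _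
      rw [gen_res h (pickIx_mem (hne τ)) (-m), cmpU_of_nonempty m h (hne τ),
        ← theta_uz_smul_gen (R := K) (h (pickIx_mem (hne τ))) (pickIx_mem ((hne τ).mono h)) (-m), smul_smul, ← map_mul]
      have e : uz (R := K) (h (pickIx_mem (hne τ))) (pickIx_mem ((hne τ).mono h)) m *
          uz (h (pickIx_mem (hne τ))) (pickIx_mem ((hne τ).mono h)) (-m) = 1 := by
        refine Subtype.ext ?_
        simp only [Subalgebra.coe_mul, coe_uz, AddMonoidAlgebra.single_mul_single, one_mul, OneMemClass.coe_one,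
          AddMonoidAlgebra.one_def]
        congr 1
        module
      rw [e, map_one, one_smul]
    exact (key' _ _).trans (key' _ _).symm
  exact ⟨⟨c, hc⟩, fun σ => rfl⟩

/-- A global class of `E(m)` comes from a morphism `O(-m) → E`. -/
theorem exists_hom_of_class (E : (Proj 𝒜).Modules) [E.IsQuasicoherent] (m : ℤ) (x : TH E m 0) :
    ∃ (φ : Twist.twist (CohB1.polyGrading n K) (-m) ⟶ E) (e : TH (Twist.twist (CohB1.polyGrading n K) (-m)) m 0),
      mapT φ m 0 e = x := by
  obtain ⟨z, rfl⟩ := Submodule.mkQ_surjective _ x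
  obtain ⟨φ, hφ⟩ := exists_hom_of_cocycle E m z
  obtain ⟨c, hc⟩ := exists_taut (n := n) (K := K) m
  let T := Twist.twist (CohB1.polyGrading n K) (-m)
  let N := ofModule E
  refine ⟨φ, ((ofModule T).twSys m).cls 0 c, ?_⟩
  change ((ofModule E).twSys m).cls 0 ((twSecHom φ m).mapZ 0 c) = ((ofModule E).twSys m).cls 0 z
  congr 1
  refine Subtype.ext (funext fun σ => ?_)
  change φ.app (chartMeet K (img σ)) (asSec T (img σ) ((c : ((ofModule T).twSys m).C 1) σ)) = (z : (N.twSys m).C 1) σ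
  rw [hc σ]
  obtain ⟨j, rfl⟩ : ∃ j, σ = fun _ => j := ⟨σ 0, funext fun k => congrArg σ (Subsingleton.elim (α := Fin 1) k 0)⟩
  have hsub : ({j} : Finset (Ix.{u} n)) ⊆ img fun _ : Fin 1 => j :=
    Finset.singleton_subset_iff.2 (mem_img (fun _ : Fin 1 => j) 0)
  have hp : pickIx (img fun _ : Fin 1 => j) = j := Finset.mem_singleton.1 (img_const_le j (pickIx_mem (⟨j, mem_img (fun _ : Fin 1 => j) 0⟩ : (img fun _ : Fin 1 => j).Nonempty)))
  have hgen : ∀ (p : Ix.{u} n) (hp : p ∈ img fun _ : Fin 1 => j), p = j →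
      gen (R := K) hp (-m) = T.presheaf.map (homOfLE (RSh.meetOpen_anti (chartU K) hsub)).op (genAt (R := K) (-m) j) := by
    rintro p hp' rfl
    exact (gen_res hsub (Finset.mem_singleton_self p) (-m)).symm
  rw [hgen _ _ hp, QCohLib.app_map, hφ j]
  change N.toSys.res hsub (N.toSys.res (img_const_le j) _) = _
  rw [N.toSys.res_res]
  exact N.toSys.res_refl _ _

end Groth.Agent.ProjCoh
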