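import Groth.Agent.CechCmp.SysHom

/-!
# The connecting map of a short exact sequence of systems
-/

universe u

namespace Groth.Agent.CechCmp.Sys

variable {R : Type u} [CommRing R] {ι : Type u} [DecidableEq ι] {S G Q : Sys R ι}
  {f : Hom S G} {g : Hom G Q}

/-- The relation defining the connecting map. -/
def SES.Lift (f : Hom S G) (g : Hom G Q) (p : ℕ) (z : Q.Z p) (a : S.Z (p + 1)) : Prop :=
  ∃ b : G.C (p + 1), g.mapC (p + 1) b = z ∧ f.mapC (p + 2) a = G.d (p + 1) b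

lemma SES.exists_lift (h : SES f g) (p : ℕ) (z : Q.Z p) : ∃ a, SES.Lift f g p z a := by
  obtain ⟨b, hb⟩ := h.surjective_mapC p (z : Q.C (p + 1))
  obtain ⟨a, ha⟩ := h.exact_mapC (p + 1) (G.d (p + 1) b) (by
    rw [g.mapC_d, hb]; exact LinearMap.mem_ker.1 z.2)
  refine ⟨⟨a, LinearMap.mem_ker.2 (h.injective_mapC (p + 2) ?_)⟩, b, hb, ha⟩
  rw [f.mapC_d, ha, d_d, map_zero]

lemma SES.lift_unique (h : SES f g) (p : ℕ) {z : Q.Z p} {a a' : S.Z (p + 1)}
    (ha : SES.Lift f g p z a) (ha' : SES.Lift f g p z a') : S.cls (p + 1) a = S.cls (p + 1) a' := by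
  obtain ⟨b, hb, ha⟩ := ha
  obtain ⟨b', hb', ha'⟩ := ha'
  rw [← sub_eq_zero, ← map_sub, cls_eq_zero_iff]
  obtain ⟨c, hc⟩ := h.exact_mapC p (b - b') (by rw [map_sub, hb, hb', sub_self])
  refine ⟨c, h.injective_mapC (p + 1) ?_⟩
  rw [f.mapC_d, hc, map_sub, ← ha, ← ha', ← map_sub]
  rfl

/-- **The connecting map**, with exactness on both sides. -/
theorem SES.exists_delta (h : SES f g) (p : ℕ) :
    ∃ δ : Q.H p →ₗ[R] S.H (p + 1), (∀ y, δ y = 0 ↔ ∃ x, g.mapH p x = y) ∧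
      ∀ w, f.mapH (p + 1) w = 0 ↔ ∃ y, δ y = w := by
  choose da hda using h.exists_lift p
  let δ₀ : Q.Z p →ₗ[R] S.H (p + 1) :=
    { toFun := fun z => S.cls (p + 1) (da z)
      map_add' := fun z z' => by
        rw [← map_add]
        obtain ⟨b, hb, ha⟩ := hda z
        obtain ⟨b', hb', ha'⟩ := hda z'
        refine h.lift_unique p (hda _) ⟨b + b', ?_, ?_⟩
        · rw [map_add, hb, hb']; rfl
        · rw [map_add (G.d (p + 1)), ← ha, ← ha', ← map_add]; rfl
      map_smul' := fun r z => by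
        rw [RingHom.id_apply, ← map_smul]
        obtain ⟨b, hb, ha⟩ := hda z
        refine h.lift_unique p (hda _) ⟨r • b, ?_, ?_⟩
        · rw [map_smul, hb]; rfl
        · rw [map_smul (G.d (p + 1)), ← ha, ← map_smul]; rfl }
  have hle : (Q.B p).comap (Q.Z p).subtype ≤ LinearMap.ker δ₀ := fun z hz => by
    refine LinearMap.mem_ker.2 ?_
    change (z : Q.C (p + 1)) ∈ Q.B p at hz
    change S.cls (p + 1) (da z) = 0
    obtain ⟨e, he, hd⟩ : ∃ e : G.C (p + 1), g.mapC (p + 1) e = z ∧ G.d (p + 1) e = 0 := by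
      cases p with
      | zero => exact ⟨0, by rw [map_zero]; exact ((Submodule.mem_bot R).1 hz).symm, map_zero _⟩
      | succ q =>
        obtain ⟨w, hw⟩ := hz
        obtain ⟨w', rfl⟩ := h.surjective_mapC q w
        exact ⟨G.d (q + 1) w', by rw [g.mapC_d, hw], d_d _ G _⟩
    rw [← map_zero (S.cls (p + 1))]
    exact h.lift_unique p (hda z) ⟨e, he, by rw [hd]; exact map_zero _⟩
  refine ⟨Submodule.liftQ _ δ₀ hle, fun y => ?_, fun w => ?_⟩
  · obtain ⟨z, rfl⟩ := Submodule.mkQ_surjective _ y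
    change S.cls (p + 1) (da z) = 0 ↔ ∃ x, g.mapH p x = Q.cls p z
    obtain ⟨b, hb, ha⟩ := hda z
    constructor
    · intro h0
      obtain ⟨c, hc⟩ := (S.cls_eq_zero_iff _).1 h0
      change S.d (p + 1) c = _ at hc
      have hcyc : b - f.mapC (p + 1) c ∈ G.Z p := LinearMap.mem_ker.2 (by
        rw [map_sub, ← f.mapC_d, hc, ha, sub_self])
      refine ⟨G.cls p ⟨_, hcyc⟩, ?_⟩
      rw [g.mapH_cls]
      congr 1
      refine Subtype.ext ?_
      change g.mapC (p + 1) (b - f.mapC (p + 1) c) = z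
      rw [map_sub, h.mapC_comp, hb, sub_zero]
    · rintro ⟨x, hx⟩
      obtain ⟨u, rfl⟩ := Submodule.mkQ_surjective _ x
      have hB : z - g.mapZ p u ∈ (Q.B p).comap (Q.Z p).subtype :=
        (Submodule.Quotient.eq _).1 hx.symm
      have h2 := LinearMap.mem_ker.1 (hle hB)
      rw [map_sub] at h2
      have h3 : δ₀ (g.mapZ p u) = 0 := by
        change S.cls (p + 1) (da _) = 0
        rw [← map_zero (S.cls (p + 1))]
        exact h.lift_unique p (hda _) ⟨(u : G.C (p + 1)), rfl, by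
          rw [LinearMap.mem_ker.1 u.2]; exact map_zero _⟩
      rw [h3, sub_zero] at h2
      exact h2
  · obtain ⟨a, rfl⟩ := Submodule.mkQ_surjective _ w
    constructor
    · intro h0
      obtain ⟨b, hb⟩ := (G.cls_eq_zero_iff (f.mapZ (p + 1) a)).1 h0
      change G.d (p + 1) b = f.mapC (p + 2) a at hb
      have hgb : g.mapC (p + 1) b ∈ Q.Z p := LinearMap.mem_ker.2 (by rw [← g.mapC_d, hb, h.mapC_comp])
      exact ⟨Q.cls p ⟨_, hgb⟩, h.lift_unique p (hda _) ⟨b, rfl, hb.symm⟩⟩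
    · rintro ⟨y, hy⟩
      obtain ⟨z, rfl⟩ := Submodule.mkQ_surjective _ y
      change S.cls (p + 1) (da z) = S.cls (p + 1) a at hy
      change f.mapH (p + 1) (S.cls (p + 1) a) = 0
      rw [← hy, f.mapH_cls, cls_eq_zero_iff]
      obtain ⟨b, hb, ha⟩ := hda z
      exact ⟨b, ha.symm⟩

end Groth.Agent.CechCmp.Sys
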