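import Groth.Agent.ProjCoh.ExtTwist
import Groth.Agent.ProjCoh.CoherentDuality
import Groth.Agent.ProjCoh.ProjDuality
import Groth.Agent.ProjCoh.SysDelta
import Groth.Agent.ProjCoh.SesLemmas
import Groth.Prelude.Def_KLin
import Mathlib.Algebra.Homology.DerivedCategory.Ext.Linear

/-!
# Serre duality on projective space, in all degrees
-/

universe u

open CategoryTheory CategoryTheory.Limits AlgebraicGeometry TopologicalSpace Opposite
open scoped Groth.Agent.CohVanish

attribute [local instance] Abelian.hasFiniteBiproducts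

namespace Groth.Agent.ProjCoh

open Groth.Agent.CechCmp Groth.Agent.CohVanish CategoryTheory.Abelian

section Lin

variable {K : Type*} [Field K]

/-- Isomorphisms pass to the targets of surjections. -/
theorem nonempty_equiv_of_coker {A B C A' B' C' : Type*} [AddCommGroup A] [Module K A] [AddCommGroup B]
    [Module K B] [AddCommGroup C] [Module K C] [AddCommGroup A'] [Module K A'] [AddCommGroup B']
    [Module K B'] [AddCommGroup C'] [Module K C'] (f : A →ₗ[K] B) (g : B →ₗ[K] C) (f' : A' →ₗ[K] B')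
    (g' : B' →ₗ[K] C') (eA : A ≃ₗ[K] A') (eB : B ≃ₗ[K] B') (hc : ∀ a, eB (f a) = f' (eA a))
    (hg : Function.Surjective g) (hg' : Function.Surjective g')
    (he : LinearMap.ker g = LinearMap.range f) (he' : LinearMap.ker g' = LinearMap.range f') :
    Nonempty (C ≃ₗ[K] C') := by
  have h : (LinearMap.ker g).map eB.toLinearMap = LinearMap.ker g' := by
    rw [he, he']
    ext y
    constructor
    · rintro ⟨_, ⟨a, rfl⟩, rfl⟩
      exact ⟨eA a, (hc a).symm⟩
    · rintro ⟨a, rfl⟩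
      exact ⟨f (eA.symm a), ⟨_, rfl⟩, by rw [LinearEquiv.coe_coe, hc, LinearEquiv.apply_symm_apply]⟩
  exact ⟨((g.quotKerEquivOfSurjective hg).symm.trans (Submodule.Quotient.equiv _ _ eB h)).trans
    (g'.quotKerEquivOfSurjective hg')⟩

/-- The dual of an exact sequence. -/
theorem dualMap_ker_eq_range {V W U : Type*} [AddCommGroup V] [Module K V] [AddCommGroup W] [Module K W]
    [AddCommGroup U] [Module K U] (δ : V →ₗ[K] W) (f : W →ₗ[K] U)
    (h : ∀ w, f w = 0 ↔ ∃ v, δ v = w) :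
    LinearMap.ker δ.dualMap = LinearMap.range f.dualMap := by
  rw [LinearMap.ker_dualMap_eq_dualAnnihilator_range, LinearMap.range_dualMap_eq_dualAnnihilator_ker]
  congr 1
  ext w
  exact (h w).symm

end Lin

section ExtLin

variable {A : Type*} [Category A] [Abelian A] [HasExt.{u} A] {K : Type*} [Field K] [Linear K A]

/-- The precomposition with a class, as a linear map. -/
noncomputable def preL {X Y : A} {a : ℕ} (α : Ext.{u} X Y a) (Z : A) {b c : ℕ} (h : a + b = c) :
    Ext.{u} Y Z b →ₗ[K] Ext.{u} X Z c where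
  toFun β := α.comp β h
  map_add' _ _ := Ext.comp_add _ _ _ _
  map_smul' r β := Ext.comp_smul α β h r

variable {S : ShortComplex A} (hS : S.ShortExact) (Z : A)

include hS in
theorem range_preL_f (b : ℕ) :
    LinearMap.ker (preL (K := K) hS.extClass Z (add_comm 1 b) : Ext.{u} S.X₁ Z b →ₗ[K] _) =
      LinearMap.range (preL (K := K) (Ext.mk₀ S.f) Z (zero_add b)) := by
  ext x
  constructor
  · intro hx
    exact Ext.contravariant_sequence_exact₁ hS Z x (add_comm 1 b) hx
  · rintro ⟨y, rfl⟩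
    change hS.extClass.comp ((Ext.mk₀ S.f).comp y (zero_add b)) (add_comm 1 b) = 0
    rw [← Ext.comp_assoc hS.extClass (Ext.mk₀ S.f) y (add_zero 1) (zero_add b) (by omega),
      ShortComplex.ShortExact.extClass_comp, Ext.zero_comp]

include hS in
theorem surjective_preL (b : ℕ) [Subsingleton (Ext.{u} S.X₂ Z (b + 1))] :
    Function.Surjective (preL (K := K) hS.extClass Z (add_comm 1 b) : Ext.{u} S.X₁ Z b →ₗ[K] _) :=
  fun x => Ext.contravariant_sequence_exact₃ hS Z x (Subsingleton.elim _ _) (add_comm 1 b)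

include hS in
theorem bijective_preL (b : ℕ) [Subsingleton (Ext.{u} S.X₂ Z b)] [Subsingleton (Ext.{u} S.X₂ Z (b + 1))] :
    Function.Bijective (preL (K := K) hS.extClass Z (add_comm 1 b) : Ext.{u} S.X₁ Z b →ₗ[K] _) := by
  refine ⟨LinearMap.ker_eq_bot.1 ?_, surjective_preL hS Z b⟩
  rw [range_preL_f hS Z b, LinearMap.range_eq_bot]
  ext y
  rw [Subsingleton.elim y 0, map_zero, map_zero]

/-- `Ext^1` as a cokernel. -/
theorem nonempty_ext_one_equiv {X₁ X₂ X₃ : A} (f : X₁ ⟶ X₂) (g : X₂ ⟶ X₃) (w : f ≫ g = 0)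
    (hS : (ShortComplex.mk f g w).ShortExact) (hE : Subsingleton (Ext.{u} X₂ Z 1))
    {V W U : Type u} [AddCommGroup V] [Module K V] [AddCommGroup W] [Module K W] [AddCommGroup U] [Module K U]
    (m : W →ₗ[K] V) (δ : U →ₗ[K] W) (eL : Ext.{u} X₂ Z 0 ≃ₗ[K] Module.Dual K V)
    (eK : Ext.{u} X₁ Z 0 ≃ₗ[K] Module.Dual K W)
    (hnat : ∀ a, eK ((Ext.mk₀ f).comp a (zero_add 0)) = m.dualMap (eL a)) (hinj : Function.Injective δ)
    (hex : ∀ v, m v = 0 ↔ ∃ x, δ x = v) : Nonempty (Ext.{u} X₃ Z 1 ≃ₗ[K] Module.Dual K U) :=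
  have : Subsingleton (Ext.{u} (ShortComplex.mk f g w).X₂ Z (0 + 1)) := hE
  nonempty_equiv_of_coker _ _ m.dualMap δ.dualMap eL eK hnat (surjective_preL hS Z 0)
    (LinearMap.dualMap_surjective_of_injective hinj) (range_preL_f hS Z 0) (dualMap_ker_eq_range _ _ hex)

/-- `Ext` out of a finite biproduct vanishes with the summands. -/
theorem subsingleton_ext_biproduct [HasFiniteBiproducts A] {r : ℕ} (f : Fin r → A) (i : ℕ)
    (h : ∀ c, Subsingleton (Ext.{u} (f c) Z i)) : Subsingleton (Ext.{u} (⨁ f) Z i) := by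
  refine subsingleton_of_forall_eq 0 fun x => ?_
  have e : Ext.mk₀ (𝟙 (⨁ f)) = ∑ c, Ext.mk₀ (biproduct.π f c ≫ biproduct.ι f c) := by
    rw [← biproduct.total (f := f)]
    exact map_sum (Ext.addEquiv₀ (C := A)).symm _ _
  rw [← Ext.mk₀_id_comp x, e, Ext.sum_comp]
  refine Finset.sum_eq_zero fun c _ => ?_
  rw [← Ext.mk₀_comp_mk₀_assoc, Subsingleton.elim ((Ext.mk₀ (biproduct.ι f c)).comp x (zero_add i)) 0,
    Ext.comp_zero]

end ExtLin

variable {n : ℕ} {k : Type u} [Field k]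

local notation "𝒜" => CohB1.polyGrading n k
local notation "ω" => Twist.twist (CohB1.polyGrading n k) (-((n : ℤ) + 1))

/-- The structure map of projective space, on `Proj`. -/
noncomputable local instance overProj' (n : ℕ) (k : Type u) [Field k] :
    (Proj (CohB1.polyGrading n k)).Over (Spec (CommRingCat.of k)) := ⟨CohB1.ProjSpace.toSpec n k⟩

lemma mapS_smul {M N : (Proj 𝒜).Modules} (a : k) (φ : M ⟶ N) (p : ℕ) (x : HS M p) :
    mapS (a • φ) p x = a • mapS φ p x := by
  obtain ⟨z, rfl⟩ := Submodule.mkQ_surjective _ x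
  refine congrArg ((secSys N).cls p) (Subtype.ext (funext fun σ => ?_))
  exact KLin.smul_app_apply a φ _ _

/-- `Hom(F, ω) ≅ H^n(F)^*`. -/
noncomputable def pairing (F : (Proj 𝒜).Modules) : (F ⟶ ω) →ₗ[k] Module.Dual k (HS F n) where
  toFun φ := trS n k ∘ₗ mapS φ n
  map_add' φ ψ := LinearMap.ext fun x => by
    simp only [LinearMap.comp_apply, LinearMap.add_apply, mapS_add, map_add]
  map_smul' a φ := LinearMap.ext fun x => by
    simp only [LinearMap.comp_apply, LinearMap.smul_apply, mapS_smul, map_smul, RingHom.id_apply]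

theorem bijective_pairing (F : (Proj 𝒜).Modules) (hF : Coh.IsCoh F) : Function.Bijective (pairing F) := by
  refine ⟨fun φ ψ h => ?_, fun ψ => ?_⟩
  · obtain ⟨a, -, hu⟩ := hasDual_of_isCoh F hF (pairing F φ)
    exact (hu φ fun x => rfl).trans (hu ψ fun x => LinearMap.congr_fun h x).symm
  · obtain ⟨φ, hφ, -⟩ := hasDual_of_isCoh F hF ψ
    exact ⟨φ, LinearMap.ext fun x => (hφ x).symm⟩

variable [HasExt.{u} (Proj (CohB1.polyGrading n k)).Modules]

/-- `Ext^0(F, ω) ≅ H^n(F)^*`. -/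
noncomputable def pairingExt (F : (Proj 𝒜).Modules) (hF : Coh.IsCoh F) :
    Ext.{u} F ω 0 ≃ₗ[k] Module.Dual k (HS F n) :=
  (Ext.linearEquiv₀ (R := k)).trans (LinearEquiv.ofBijective (pairing F) (bijective_pairing F hF))

theorem pairingExt_natural {F G : (Proj 𝒜).Modules} (hF : Coh.IsCoh F) (hG : Coh.IsCoh G) (g : F ⟶ G)
    (y : Ext.{u} G ω 0) :
    pairingExt F hF ((Ext.mk₀ g).comp y (zero_add 0)) = (mapS g n).dualMap (pairingExt G hG y) := by
  obtain ⟨φ, rfl⟩ := (Ext.mk₀_bijective _ _).2 y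
  rw [Ext.mk₀_comp_mk₀]
  change pairing F ((Ext.linearEquiv₀ (R := k)) (Ext.mk₀ (g ≫ φ))) =
    (mapS g n).dualMap (pairing G ((Ext.linearEquiv₀ (R := k)) (Ext.mk₀ φ)))
  simp only [Ext.linearEquiv₀, LinearEquiv.coe_mk, LinearMap.coe_mk, AddHom.coe_mk]
  refine LinearMap.ext fun x => ?_
  have e : ∀ {A B : (Proj 𝒜).Modules} (h : A ⟶ B), (Ext.addEquiv₀ (Ext.mk₀ h) : A ⟶ B) = h :=
    fun h => Ext.addEquiv₀.apply_symm_apply h
  change trS n k (mapS (Ext.addEquiv₀ (Ext.mk₀ (g ≫ φ))) n x) = trS n k (mapS (Ext.addEquiv₀ (Ext.mk₀ φ)) n (mapS g n x))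
  rw [e, e, mapS_comp]

lemma subsingleton_HS_biproduct {r : ℕ} (f : Fin r → (Proj 𝒜).Modules) (p : ℕ)
    (h : ∀ c, Subsingleton (HS (f c) p)) : Subsingleton (HS (⨁ f) p) := by
  refine subsingleton_of_forall_eq 0 fun x => ?_
  rw [eq_sum_mapS f p x]
  exact Finset.sum_eq_zero fun c _ => by rw [Subsingleton.elim (mapS (biproduct.π f c) p x) 0, map_zero]

lemma subsingleton_HS_twist {b : ℤ} (hb : b < 0) {p : ℕ} (hp : p < n) :
    Subsingleton (HS (Twist.twist 𝒜 b) p) :=
  haveI := subsingleton_twist_H (n := n) (R := k) b p (by omega) (by omega)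
  (oTwH (R := k) (n := n) b p).symm.injective.subsingleton

lemma exists_cover (F : (Proj 𝒜).Modules) (hF : Coh.IsCoh F) :
    ∃ (L : (Proj 𝒜).Modules) (g : L ⟶ F), Coh.IsCoh L ∧ Epi g ∧
      (∀ p, p < n → Subsingleton (HS L p)) ∧ ∀ i, 0 < i → Subsingleton (Ext.{u} L ω i) := by
  obtain ⟨q, r', g, hq, hg⟩ := exists_epi_twist_ge F hF 1
  refine ⟨_, biproduct.desc g, CohFinite.isCoh_biproduct (isCoh_twist_self (-(q : ℤ))) r', hg,
    fun p hp => subsingleton_HS_biproduct _ p fun _ => subsingleton_HS_twist (by omega) hp,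
    fun i hi => subsingleton_ext_biproduct _ _ i fun _ => ?_⟩
  exact subsingleton_ext_twist (q : ℤ) _ i (by omega) (by omega)

omit [HasExt.{u} (Proj (CohB1.polyGrading n k)).Modules] in
theorem ses_of_cover {F L : (Proj 𝒜).Modules} (hF : Coh.IsCoh F) (hL : Coh.IsCoh L) (g : L ⟶ F) [Epi g] :
    Sys.SES (secHomSys (kernel.ι g)) (secHomSys g) := by
  have hS : (ShortComplex.mk (kernel.ι g) g (kernel.condition g)).ShortExact :=
    { exact := ShortComplex.exact_of_f_is_kernel _ (kernelIsKernel g) }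
  have := hF.1
  have := hL.1
  have : (kernel g).IsQuasicoherent := (QCohLib.isCoh_kernel g hL hF.1).1
  have h0 := ses_twSecHom (S := ShortComplex.mk (kernel.ι g) g (kernel.condition g)) hS 0
  exact ⟨h0.inj, h0.comp, h0.exact, h0.surj⟩

section Steps

variable {F L : (Proj (CohB1.polyGrading n k)).Modules} (hF : Coh.IsCoh F) (hL : Coh.IsCoh L) (g : L ⟶ F) [Epi g]

omit [HasExt.{u} (Proj (CohB1.polyGrading n k)).Modules] in
include hL hF in
lemma isCoh_ker : Coh.IsCoh (kernel g) := QCohLib.isCoh_kernel g hL hF.1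

omit [HasExt.{u} (Proj (CohB1.polyGrading n k)).Modules] in
lemma shortExact_ker : (ShortComplex.mk (kernel.ι g) g (kernel.condition g)).ShortExact :=
  { exact := ShortComplex.exact_of_f_is_kernel _ (kernelIsKernel g) }

omit [HasExt.{u} (Proj (CohB1.polyGrading n k)).Modules] in
include hL hF in
lemma exists_delta_HS (p : ℕ) (h : Subsingleton (HS L p)) :
    ∃ δ : HS F p →ₗ[k] HS (kernel g) (p + 1), Function.Injective δ ∧
      ∀ w, mapS (kernel.ι g) (p + 1) w = 0 ↔ ∃ v, δ v = w := by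
  obtain ⟨δ, hδg, hδf⟩ := (ses_of_cover hF hL g).exists_delta p
  refine ⟨δ, (injective_iff_map_eq_zero δ).2 fun y hy => ?_, hδf⟩
  obtain ⟨x, rfl⟩ := (hδg y).1 hy
  haveI := h
  exact (congrArg _ (Subsingleton.elim (α := HS L p) x 0)).trans (map_zero _)

omit [HasExt.{u} (Proj (CohB1.polyGrading n k)).Modules] in
include hL hF in
lemma injective_mapS_zero : Function.Injective (mapS (kernel.ι g) 0) :=
  (ses_of_cover hF hL g).injective_mapH_zero

include hL hF g in
lemma step_one {m : ℕ} (hm : n = m + 1) (hH : Subsingleton (HS L m))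
    (hE : Subsingleton (Ext.{u} L ω 1)) : Nonempty (Ext.{u} F ω 1 ≃ₗ[k] Module.Dual k (HS F m)) := by
  subst hm
  obtain ⟨δ, hinj, hδf⟩ := exists_delta_HS hF hL g m hH
  exact nonempty_ext_one_equiv (K := k) _ _ _ _ (shortExact_ker g) hE _ δ (pairingExt L hL)
    (pairingExt (kernel g) (isCoh_ker hF hL g)) (fun a => pairingExt_natural (isCoh_ker hF hL g) hL _ a) hinj hδf

include hL hF g in
lemma step_one_zero (hn : n = 0) (hE : Subsingleton (Ext.{u} L ω 1)) : Subsingleton (Ext.{u} F ω 1) := by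
  subst hn
  have hS := shortExact_ker g
  have : Subsingleton (Ext.{u} (ShortComplex.mk (kernel.ι g) g (kernel.condition g)).X₂
      (Twist.twist (CohB1.polyGrading 0 k) (-(((0 : ℕ) : ℤ) + 1))) (0 + 1)) := hE
  refine subsingleton_of_forall_eq 0 fun x => ?_
  obtain ⟨y, rfl⟩ := surjective_preL (K := k) hS _ 0 x
  have hK := isCoh_ker hF hL g
  obtain ⟨v, hv⟩ := LinearMap.dualMap_surjective_of_injective (injective_mapS_zero hF hL g)
    (pairingExt (kernel g) hK y)
  have h : (Ext.mk₀ (kernel.ι g)).comp ((pairingExt L hL).symm v) (zero_add 0) = y :=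
    (pairingExt (kernel g) hK).injective (by
      rw [pairingExt_natural hK hL, LinearEquiv.apply_symm_apply, hv])
  refine LinearMap.mem_ker.1 ?_
  rw [range_preL_f (K := k) hS _ 0]
  exact ⟨_, h⟩

lemma ext_shift {i : ℕ} (h₁ : Subsingleton (Ext.{u} L ω i)) (h₂ : Subsingleton (Ext.{u} L ω (i + 1))) :
    Nonempty (Ext.{u} F ω (i + 1) ≃ₗ[k] Ext.{u} (kernel g) ω i) := by
  have : Subsingleton (Ext.{u} (ShortComplex.mk (kernel.ι g) g (kernel.condition g)).X₂ ω i) := h₁
  have : Subsingleton (Ext.{u} (ShortComplex.mk (kernel.ι g) g (kernel.condition g)).X₂ ω (i + 1)) := h₂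
  exact ⟨(LinearEquiv.ofBijective _ (bijective_preL (K := k) (shortExact_ker g) ω i)).symm⟩

omit [HasExt.{u} (Proj (CohB1.polyGrading n k)).Modules] in
include hL hF in
lemma HS_shift (p : ℕ) (h₁ : Subsingleton (HS L p)) (h₂ : Subsingleton (HS L (p + 1))) :
    Nonempty (HS F p ≃ₗ[k] HS (kernel g) (p + 1)) := by
  obtain ⟨δ, hinj, hδf⟩ := exists_delta_HS hF hL g p h₁
  exact ⟨LinearEquiv.ofBijective δ ⟨hinj, fun w => (hδf w).1 (Subsingleton.elim _ _)⟩⟩

end Steps

/-- **Serre duality.** -/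
theorem ext_dual (i : ℕ) : ∀ F : (Proj 𝒜).Modules, Coh.IsCoh F →
    (i ≤ n → Nonempty (Ext.{u} F ω i ≃ₗ[k] Module.Dual k (HS F (n - i)))) ∧
      (n < i → Subsingleton (Ext.{u} F ω i)) := by
  induction i with
  | zero => exact fun F hF => ⟨fun _ => ⟨pairingExt F hF⟩, fun h => absurd h (by omega)⟩
  | succ i ih =>
    intro F hF
    obtain ⟨L, g, hL, hg, hLH, hLE⟩ := exists_cover F hF
    have hK := isCoh_ker hF hL g
    rcases i.eq_zero_or_pos with rfl | hi
    · exact ⟨fun hn => step_one hF hL g (m := n - 1) (by omega) (hLH _ (by omega)) (hLE 1 one_pos),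
        fun hn => step_one_zero hF hL g (by omega) (hLE 1 one_pos)⟩
    · obtain ⟨e⟩ := ext_shift g (hLE i hi) (hLE (i + 1) (by omega))
      refine ⟨fun hn => ?_, fun hn => ?_⟩
      · obtain ⟨e'⟩ := (ih (kernel g) hK).1 (by omega)
        obtain ⟨d⟩ := HS_shift hF hL g (n - (i + 1)) (hLH _ (by omega)) (hLH _ (by omega))
        rw [show n - i = n - (i + 1) + 1 by omega] at e'
        exact ⟨(e.trans e').trans d.dualMap⟩
      · rcases (show i = n ∨ n < i by omega) with rfl | hlt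
        · obtain ⟨e'⟩ := (ih (kernel g) hK).1 le_rfl
          rw [Nat.sub_self] at e'
          haveI := hLH 0 hi
          haveI : Subsingleton (HS (kernel g) 0) := (injective_mapS_zero hF hL g).subsingleton
          exact (e.trans e').injective.subsingleton
        · haveI := (ih (kernel g) hK).2 hlt
          exact e.injective.subsingleton

omit [HasExt.{u} (Proj (CohB1.polyGrading n k)).Modules] in
/-- Čech cohomology of the charts is the cohomology. -/
theorem nonempty_HH_equiv_HS (M : (Proj 𝒜).Modules) (hM : M.IsQuasicoherent) (p : ℕ) :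
    Nonempty (Coh.HH (Proj 𝒜) M p ≃ₗ[k] HS M p) :=
  haveI := hM
  ⟨AddEquiv.toLinearEquiv
      (hhCmp (Coh.toGlobal (tS n k)) (chartU k) iSup_chartU (fun s hs => isAffineOpen_chartMeet s hs) M p)
      (fun a x => hhCmp_smul (Coh.toGlobal (tS n k)) (chartU k) iSup_chartU
        (fun s hs => isAffineOpen_chartMeet s hs) M p a x)⟩

/-- Duality with the cohomology of the module. -/
theorem ext_dual_HH (F : (Proj 𝒜).Modules) (hF : Coh.IsCoh F) :
    (∀ i : ℕ, i ≤ n → Nonempty (Ext.{u} F ω i ≃ₗ[k] Module.Dual k (Coh.HH (Proj 𝒜) F (n - i)))) ∧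
      ∀ i : ℕ, n < i → Subsingleton (Ext.{u} F ω i) := by
  refine ⟨fun i hi => ?_, fun i hi => (ext_dual i F hF).2 hi⟩
  obtain ⟨e⟩ := (ext_dual i F hF).1 hi
  obtain ⟨c⟩ := nonempty_HH_equiv_HS F hF.1 (n - i)
  exact ⟨e.trans c.dualMap⟩

/-- Duality, as an equivalence of vanishing. -/
theorem subsingleton_ext_iff (F : (Proj 𝒜).Modules) (hF : Coh.IsCoh F) (i : ℕ) (hi : i ≤ n) :
    Subsingleton (Ext.{u} F ω i) ↔ Subsingleton (Coh.HH (Proj 𝒜) F (n - i)) := by
  obtain ⟨e⟩ := (ext_dual_HH F hF).1 i hi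
  constructor
  · intro h
    have : Subsingleton (Module.Dual k (Coh.HH (Proj 𝒜) F (n - i))) := e.symm.injective.subsingleton
    exact subsingleton_of_forall_eq 0 fun x => (Module.forall_dual_apply_eq_zero_iff k x).1 fun φ => by
      rw [Subsingleton.elim φ 0, LinearMap.zero_apply]
  · intro h
    exact e.injective.subsingleton

end Groth.Agent.ProjCoh
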