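import Groth.Agent.ProjCoh.Finite

/-!
# Twisting coherent systems; Serre's vanishing for systems
-/

universe u

namespace Groth.Agent.ProjCoh

open Finset
open Groth.Agent.CechCmp

variable {R : Type u} [CommRing R] {ι : Type u} [Fintype ι] [DecidableEq ι]

lemma zsmul_ev_sub_mem {t : Finset ι} {i l : ι} (hi : i ∈ t) (hl : l ∈ t) (d : ℤ) :
    d • ev i - d • ev l ∈ cone 0 t := by
  refine ⟨sum_smul_ev_sub d i l, fun k hk => ?_⟩
  by_contra h
  have h1 : k ≠ i := fun e => h (e ▸ hi)
  have h2 : k ≠ l := fun e => h (e ▸ hl)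
  simp [ev, h1, h2] at hk

/-- `(xᵢ/x_l)^d` for `i, l ∈ t` and an integer `d`. -/
noncomputable def uz {t : Finset ι} {i l : ι} (hi : i ∈ t) (hl : l ∈ t) (d : ℤ) : reg R t :=
  ⟨AddMonoidAlgebra.single (d • ev i - d • ev l) 1, single_mem_supp (zsmul_ev_sub_mem hi hl d) 1⟩

lemma coe_uz {t : Finset ι} {i l : ι} (hi : i ∈ t) (hl : l ∈ t) (d : ℤ) :
    (uz (R := R) hi hl d : Laurent R ι) = AddMonoidAlgebra.single (d • ev i - d • ev l) 1 := rfl

lemma uz_self {t : Finset ι} {i : ι} (hi : i ∈ t) (d : ℤ) : uz (R := R) hi hi d = 1 :=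
  Subtype.ext (by simp [coe_uz, AddMonoidAlgebra.one_def])

lemma uz_mul {t : Finset ι} {i l m : ι} (hi : i ∈ t) (hl : l ∈ t) (hm : m ∈ t) (d : ℤ) :
    uz (R := R) hi hl d * uz hl hm d = uz hi hm d := by
  refine Subtype.ext ?_
  simp only [Subalgebra.coe_mul, coe_uz, AddMonoidAlgebra.single_mul_single, one_mul]
  congr 1
  abel

lemma uz_inv {t : Finset ι} {i l : ι} (hi : i ∈ t) (hl : l ∈ t) (d : ℤ) :
    uz (R := R) hi hl d * uz hl hi d = 1 := by rw [uz_mul hi hl hi, uz_self]

lemma incl_uz {s t : Finset ι} (h : s ⊆ t) {i l : ι} (hi : i ∈ s) (hl : l ∈ s) (d : ℤ) :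
    incl h (uz (R := R) hi hl d) = uz (h hi) (h hl) d := rfl

lemma uz_eq_rat_mul_rat {t : Finset ι} {i l : ι} (hi : i ∈ t) (hl : l ∈ t) {d : ℤ} {a b : ℕ}
    (hab : d = (a : ℤ) - b) : uz (R := R) hi hl d = rat hl a i * rat hi b l := by
  refine Subtype.ext ?_
  simp only [Subalgebra.coe_mul, coe_rat, coe_uz, AddMonoidAlgebra.single_mul_single, one_mul, hab]
  congr 1
  module

variable [Nonempty ι]

/-- A chosen element of a set of indices. -/
noncomputable def pickIx (s : Finset ι) : ι :=
  if h : s.Nonempty then h.choose else Classical.arbitrary ι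

lemma pickIx_mem {s : Finset ι} (hs : s.Nonempty) : pickIx s ∈ s := by
  rw [pickIx, dif_pos hs]; exact hs.choose_spec

open Classical in
/-- The scalar comparing the chosen trivialisations on a subset. -/
noncomputable def cmpU (d : ℤ) {s t : Finset ι} (h : s ⊆ t) : reg R t :=
  if hs : s.Nonempty then uz (h (pickIx_mem hs)) (pickIx_mem (hs.mono h)) d
  else if t.Nonempty then 0 else 1

lemma cmpU_of_nonempty (d : ℤ) {s t : Finset ι} (h : s ⊆ t) (hs : s.Nonempty) :
    cmpU (R := R) d h = uz (h (pickIx_mem hs)) (pickIx_mem (hs.mono h)) d := by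
  rw [cmpU, dif_pos hs]

lemma cmpU_refl (d : ℤ) (s : Finset ι) : cmpU (R := R) d (Subset.refl s) = 1 := by
  by_cases hs : s.Nonempty
  · rw [cmpU_of_nonempty d _ hs, uz_self]
  · rw [cmpU, dif_neg hs, if_neg hs]

lemma cmpU_trans (d : ℤ) {s t v : Finset ι} (h : s ⊆ t) (h' : t ⊆ v) :
    cmpU d h' * incl h' (cmpU (R := R) d h) = cmpU d (h.trans h') := by
  by_cases hs : s.Nonempty
  · rw [cmpU_of_nonempty d _ hs, cmpU_of_nonempty d _ hs, cmpU_of_nonempty d _ (hs.mono h), incl_uz,
      mul_comm, uz_mul]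
  · by_cases ht : t.Nonempty
    · rw [cmpU, cmpU, cmpU, dif_neg hs, if_pos ht, dif_neg hs, if_pos (ht.mono h'), map_zero, mul_zero]
    · rw [cmpU, cmpU, cmpU, dif_neg hs, if_neg ht, dif_neg hs, dif_neg ht, map_one, mul_one]

lemma isUnit_cmpU (d : ℤ) {s t : Finset ι} (h : s ⊆ t) (hs : s.Nonempty) :
    IsUnit (cmpU (R := R) d h) := by
  rw [cmpU_of_nonempty d h hs]
  exact IsUnit.of_mul_eq_one _ (uz_inv _ _ _)

namespace LSys

variable (N : LSys R ι)

/-- The underlying system of a twist. -/
noncomputable abbrev twSys (d : ℤ) : Sys R ι where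
  obj := N.toSys.obj
  res {s t} h :=
    { toFun := fun x => cmpU (R := R) d h • N.toSys.res h x
      map_add' := fun x y => by rw [map_add, smul_add]
      map_smul' := fun r x => by rw [map_smul, smul_comm, RingHom.id_apply] }
  res_refl s x := by
    change cmpU (R := R) d (Subset.refl s) • _ = x
    rw [cmpU_refl, one_smul, N.toSys.res_refl]
  res_res {s t v} h h' x := by
    change cmpU (R := R) d h' • N.toSys.res h' (cmpU (R := R) d h • N.toSys.res h x) =
      cmpU (R := R) d (h.trans h') • N.toSys.res (h.trans h') x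
    rw [N.res_smul, N.toSys.res_res, smul_smul, cmpU_trans]

/-- The twist of a coherent system. -/
noncomputable abbrev tw (d : ℤ) : LSys R ι where
  toSys := N.twSys d
  mod := N.mod
  tower := N.tower
  res_smul {s t} h a x := by
    change cmpU (R := R) d h • N.toSys.res h (a • x) =
      incl h a • (cmpU (R := R) d h • N.toSys.res h x)
    rw [N.res_smul, smul_comm]
  loc_surj {s} {j} hj i y := by
    have hu := isUnit_cmpU (R := R) d (subset_insert i s) ⟨j, hj⟩
    obtain ⟨k, x, hx⟩ := N.loc_surj hj i ((↑hu.unit⁻¹ : reg R (insert i s)) • y)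
    refine ⟨k, x, ?_⟩
    change _ = cmpU (R := R) d (subset_insert i s) • N.toSys.res (subset_insert i s) x
    rw [← hx, smul_smul, smul_smul, mul_comm _ (rat _ k i), mul_assoc, IsUnit.mul_val_inv, mul_one]
  loc_ker {s} {j} hj i x hx := by
    refine N.loc_ker hj i x ?_
    change cmpU (R := R) d (subset_insert i s) • N.toSys.res (subset_insert i s) x = 0 at hx
    rwa [(isUnit_cmpU (R := R) d (subset_insert i s) ⟨j, hj⟩).smul_eq_zero] at hx

lemma tw_fg (hN : N.FG) (d : ℤ) : (N.tw d).FG := hN

end LSys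

/-- Twisting a morphism that is linear over the rings of the charts. -/
noncomputable def twHom {N N' : LSys R ι} (f : Sys.Hom N.toSys N'.toSys)
    (hf : ∀ s : Finset ι, s.Nonempty → ∀ (a : reg R s) (x : N.toSys.obj s),
      f.app s (a • x) = a • f.app s x)
    (d : ℤ) : Sys.Hom (N.twSys d) (N'.twSys d) where
  app := f.app
  nat {s t} h x hs := by
    change f.app t (cmpU (R := R) d h • N.toSys.res h x) =
      cmpU (R := R) d h • N'.toSys.res h (f.app s x)
    rw [hf t (hs.mono h), f.nat h x hs]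

variable {κ : Type} [Fintype κ]

lemma mul_ev_mem_cone {e d : ℤ} {s : Finset ι} {j : ι} (hj : j ∈ s) {f : Laurent R ι}
    (hf : f ∈ supp R (cone e s)) :
    f * AddMonoidAlgebra.single (d • ev j) 1 ∈ supp R (cone (e + d) s) := by
  refine mul_mem_supp ?_ hf (single_mem_supp (C := cone d s) ⟨?_, fun k hk => ?_⟩ 1)
  · intro a ha b hb
    exact add_mem_cone ha hb
  · simp [← Finset.mul_sum, sum_ev]
  · by_cases h : k = j
    · exact h ▸ hj
    · simp [ev, h] at hk

/-- Multiplication by a power of a variable. -/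
noncomputable def mulMono (e d : ℤ) {s : Finset ι} {j : ι} (hj : j ∈ s) :
    supp R (cone e s) →ₗ[R] supp R (cone (e + d) s) where
  toFun f := ⟨(f : Laurent R ι) * AddMonoidAlgebra.single (d • ev j) 1, mul_ev_mem_cone hj f.2⟩
  map_add' f g := Subtype.ext (add_mul _ _ _)
  map_smul' r f := Subtype.ext (smul_mul_assoc _ _ _)

lemma coe_mulMono (e d : ℤ) {s : Finset ι} {j : ι} (hj : j ∈ s) (f : supp R (cone e s)) :
    (mulMono e d hj f : Laurent R ι) = (f : Laurent R ι) * AddMonoidAlgebra.single (d • ev j) 1 := rfl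

open Classical in
/-- Twisting a sum of twisted systems adds the degrees. -/
noncomputable def twFreeHom (e : κ → ℤ) (d : ℤ) :
    Sys.Hom ((free R ι e).twSys d) (freeSys R ι fun c => e c + d) where
  app s := LinearMap.pi fun c =>
    (if hs : s.Nonempty then mulMono (e c) d (pickIx_mem hs) else 0) ∘ₗ LinearMap.proj c
  nat {s t} h x hs := funext fun c => Subtype.ext (by
    simp only [LinearMap.pi_apply, LinearMap.comp_apply, LinearMap.proj_apply, dif_pos hs,
      dif_pos (hs.mono h), coe_mulMono, Submodule.coe_inclusion, cmpU_of_nonempty d h hs]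
    change (AddMonoidAlgebra.single (d • ev (pickIx s) - d • ev (pickIx t)) (1 : R) * (x c : Laurent R ι)) *
        AddMonoidAlgebra.single (d • ev (pickIx t)) 1 =
      (x c : Laurent R ι) * AddMonoidAlgebra.single (d • ev (pickIx s)) 1
    rw [mul_comm (AddMonoidAlgebra.single _ (1 : R)) (x c : Laurent R ι), mul_assoc,
      AddMonoidAlgebra.single_mul_single, one_mul, sub_add_cancel])

lemma twFreeHom_bijective (e : κ → ℤ) (d : ℤ) (s : Finset ι) (hs : s.Nonempty) :
    Function.Bijective ((twFreeHom (R := R) e d).app s) := by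
  have hinv : ∀ f : Laurent R ι, f * AddMonoidAlgebra.single (d • ev (pickIx s)) 1 *
      AddMonoidAlgebra.single (-d • ev (pickIx s)) 1 = f := fun f => by
    rw [mul_assoc, AddMonoidAlgebra.single_mul_single, one_mul, ← add_smul, add_neg_cancel, zero_smul,
      ← AddMonoidAlgebra.one_def, mul_one]
  refine ⟨fun x y h => funext fun c => Subtype.ext ?_, fun y => ?_⟩
  · have h' := congrArg (fun z : supp R (cone (e c + d) s) => (z : Laurent R ι) *
      AddMonoidAlgebra.single (-d • ev (pickIx s)) 1) (congrFun h c)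
    simp only [twFreeHom, LinearMap.pi_apply, LinearMap.comp_apply, LinearMap.proj_apply, dif_pos hs,
      coe_mulMono, hinv] at h'
    exact h'
  · refine ⟨fun c => ⟨(y c : Laurent R ι) * AddMonoidAlgebra.single (-d • ev (pickIx s)) 1, ?_⟩,
      funext fun c => Subtype.ext ?_⟩
    · have := mul_ev_mem_cone (d := -d) (pickIx_mem hs) (y c).2
      rwa [add_neg_cancel_right] at this
    · simp only [twFreeHom, LinearMap.pi_apply, LinearMap.comp_apply, LinearMap.proj_apply, dif_pos hs,
        coe_mulMono]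
      rw [mul_assoc, AddMonoidAlgebra.single_mul_single, one_mul, ← add_smul, neg_add_cancel, zero_smul,
        ← AddMonoidAlgebra.one_def, mul_one]

/-- Bijective morphisms on nonempty sets are bijective on cohomology. -/
theorem bijective_mapH {S T : Sys R ι} (f : Sys.Hom S T)
    (hf : ∀ s : Finset ι, s.Nonempty → Function.Bijective (f.app s)) (p : ℕ) :
    Function.Bijective (f.mapH p) := by
  let g : Sys.Hom T S :=
    { app := fun s => if hs : s.Nonempty then
        (LinearEquiv.ofBijective (f.app s) (hf s hs)).symm.toLinearMap else 0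
      nat := fun {s t} h x hs => by
        simp only [dif_pos hs, dif_pos (hs.mono h), LinearEquiv.coe_coe]
        refine (hf t (hs.mono h)).1 ?_
        rw [f.nat h _ hs]
        exact ((LinearEquiv.ofBijective (f.app t) (hf t (hs.mono h))).apply_symm_apply _).trans
          (congrArg (T.res h) ((LinearEquiv.ofBijective (f.app s) (hf s hs)).apply_symm_apply x).symm) }
  have h1 : ∀ c : S.C (p + 1), g.mapC (p + 1) (f.mapC (p + 1) c) = c := fun c => funext fun σ => by
    have hs : (img σ).Nonempty := ⟨_, mem_img σ 0⟩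
    simp only [Sys.Hom.mapC_apply, g, dif_pos hs, LinearEquiv.coe_coe]
    exact (LinearEquiv.ofBijective (f.app _) (hf _ hs)).symm_apply_apply _
  have h2 : ∀ c : T.C (p + 1), f.mapC (p + 1) (g.mapC (p + 1) c) = c := fun c => funext fun σ => by
    have hs : (img σ).Nonempty := ⟨_, mem_img σ 0⟩
    simp only [Sys.Hom.mapC_apply, g, dif_pos hs, LinearEquiv.coe_coe]
    exact (LinearEquiv.ofBijective (f.app _) (hf _ hs)).apply_symm_apply _
  refine Function.bijective_iff_has_inverse.2 ⟨g.mapH p, fun x => ?_, fun x => ?_⟩ <;>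
    obtain ⟨z, rfl⟩ := Submodule.mkQ_surjective _ x
  · exact congrArg (S.cls p) (Subtype.ext (h1 z))
  · exact congrArg (T.cls p) (Subtype.ext (h2 z))

theorem subsingleton_freeSys_H_succ (e : κ → ℤ) (he : ∀ c, -(Fintype.card ι : ℤ) < e c) (p : ℕ) :
    Subsingleton ((freeSys R ι e).H (p + 1)) := by
  refine subsingleton_of_forall_eq 0 fun x => ?_
  obtain ⟨z, rfl⟩ := Submodule.mkQ_surjective _ x
  refine ((freeSys R ι e).cls_eq_zero_iff z).2 ?_
  let pr : ∀ c, Sys.Hom (freeSys R ι e) (twist R ι (e c)) := fun c =>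
    { app := fun s => LinearMap.proj c, nat := fun _ _ _ => rfl }
  have hc : ∀ c, (pr c).mapC (p + 2) (z : (freeSys R ι e).C (p + 2)) ∈ (twist R ι (e c)).B (p + 1) := fun c =>
    ((twist R ι (e c)).cls_eq_zero_iff ((pr c).mapZ (p + 1) z)).1
      ((subsingleton_twist_H_succ (he c) p).elim _ _)
  choose b hb using hc
  refine ⟨fun σ c => b c σ, funext fun σ => funext fun c => ?_⟩
  refine Eq.trans ?_ (congrFun (hb c) σ)
  exact congrFun ((pr c).mapC_d p (fun σ c => b c σ)) σ

/-- **Serre vanishing for coherent systems.** -/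
theorem LSys.exists_vanishing [IsNoetherianRing R] :
    ∀ (m : ℕ) (N : LSys R ι), N.FG → ∃ d₀ : ℤ, ∀ d, d₀ ≤ d → ∀ p, Fintype.card ι ≤ p + 1 + m →
      Subsingleton ((N.twSys d).H (p + 1)) := by
  intro m
  induction m with
  | zero =>
    exact fun N _ => ⟨0, fun d _ p hp => (N.twSys d).subsingleton_H_of_fintype_card_le (p := p + 1) hp⟩
  | succ m ih =>
    intro N hN
    obtain ⟨r, S, hK, hsurj⟩ := N.exists_presentation hN
    obtain ⟨d₁, hd₁⟩ := ih S.ker hK
    refine ⟨max d₁ ((univ.sup S.k : ℕ) : ℤ), fun d hd p hp => ?_⟩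
    let f := twHom (N := S.ker) (N' := free R ι fun c => -(S.k c : ℤ)) S.kerHom (fun _ _ _ _ => rfl) d
    let g := twHom (N := free R ι fun c => -(S.k c : ℤ)) (N' := N) S.secsHom (fun s hs a x => by
      rw [S.secsHom_apply (Secs.pick_subset hs), S.secsHom_apply (Secs.pick_subset hs), map_smul]) d
    have hses : Sys.SES f g :=
      { inj := (S.ses hsurj).inj, comp := (S.ses hsurj).comp, exact := (S.ses hsurj).exact
        surj := (S.ses hsurj).surj }
    haveI : Subsingleton (((free R ι fun c => -(S.k c : ℤ)).twSys d).H (p + 1)) := by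
      haveI : Subsingleton ((freeSys R ι fun c => -(S.k c : ℤ) + d).H (p + 1)) :=
        subsingleton_freeSys_H_succ _ (fun c => by
          have h1 : S.k c ≤ univ.sup S.k := Finset.le_sup (mem_univ c)
          have h2 : 0 < Fintype.card ι := Fintype.card_pos
          have h3 := le_max_right d₁ ((univ.sup S.k : ℕ) : ℤ)
          omega) p
      exact (bijective_mapH (twFreeHom (fun c => -(S.k c : ℤ)) d)
        (fun s hs => twFreeHom_bijective _ d s hs) (p + 1)).1.subsingleton
    haveI : Subsingleton ((S.ker.twSys d).H (p + 1 + 1)) :=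
      hd₁ d ((le_max_left _ _).trans hd) (p + 1) (by omega)
    exact hses.subsingleton_right (p + 1)

end Groth.Agent.ProjCoh
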