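import Groth.Agent.ProjCoh.RegularTwist
import Groth.Agent.QCohLib.Sections
import Mathlib.Algebra.Homology.ShortComplex.ShortExact

/-!
# Morphisms and short exact sequences of modules as maps of twisted systems
-/

universe u

open CategoryTheory AlgebraicGeometry TopologicalSpace Opposite
open scoped Groth.Agent.CohVanish

namespace Groth.Agent.ProjCoh

open Groth.Agent.CechCmp Groth.Agent.CohVanish

variable {n : ℕ} {R : Type u} [CommRing R]
variable {M N P : (Proj (CohB1.polyGrading n R)).Modules}

/-- A morphism of modules on sections. -/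
noncomputable def secApp (φ : M ⟶ N) (s : Finset (Ix.{u} n)) : (secSys M).obj s →ₗ[R] (secSys N).obj s where
  toFun x := φ.app (chartMeet R s) (asSec M s x)
  map_add' x y := map_add _ _ _
  map_smul' r x :=
    ((congrArg (φ.app (chartMeet R s)) (secSys_smul_base M s r x)).trans
      (Scheme.Modules.Hom.app_smul φ _ _)).trans (secSys_smul_base N s r _).symm

/-- A morphism of modules as a morphism of systems. -/
noncomputable def secHomSys (φ : M ⟶ N) : Sys.Hom (secSys M) (secSys N) where
  app := secApp φ
  nat h x _ := ConcreteCategory.congr_hom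
    (φ.mapPresheaf.naturality (homOfLE (RSh.meetOpen_anti (chartU R) h)).op) x

variable [M.IsQuasicoherent] [N.IsQuasicoherent]

lemma secApp_linear (φ : M ⟶ N) (s : Finset (Ix.{u} n)) (a : reg R s) (x : (ofModule M).toSys.obj s) :
    (secHomSys φ).app s (a • x) = a • (show (ofModule N).toSys.obj s from (secHomSys φ).app s x) :=
  Scheme.Modules.Hom.app_smul φ _ _

/-- A morphism of modules on twisted systems. -/
noncomputable def twSecHom (φ : M ⟶ N) (d : ℤ) :
    Sys.Hom ((ofModule M).twSys d) ((ofModule N).twSys d) :=
  twHom (N := ofModule M) (N' := ofModule N) (secHomSys φ) (fun s _ a x => secApp_linear φ s a x) d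

theorem twSecHom_bijective (φ : M ⟶ N) [IsIso φ] (d : ℤ) (s : Finset (Ix.{u} n)) :
    Function.Bijective ((twSecHom φ d).app s) :=
  ConcreteCategory.bijective_of_isIso (φ.app (chartMeet R s))

/-- A short exact sequence of quasi-coherent modules gives a short exact sequence of twisted systems. -/
theorem ses_twSecHom {S : ShortComplex (Proj (CohB1.polyGrading n R)).Modules} (hS : S.ShortExact)
    [S.X₁.IsQuasicoherent] [S.X₂.IsQuasicoherent] [S.X₃.IsQuasicoherent] (d : ℤ) :
    Sys.SES (twSecHom S.f d) (twSecHom S.g d) := by
  refine ⟨fun s hs => ?_, fun s hs x => ?_, fun s hs y hy => ?_, fun s hs => ?_⟩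
  · exact (QCohLib.mono_iff_app_injective S.f).1 hS.mono_f (chartMeet R s)
  · change S.g.app (chartMeet R s) (S.f.app (chartMeet R s) _) = 0
    rw [← ConcreteCategory.comp_apply, ← Scheme.Modules.Hom.comp_app, S.zero]
    rfl
  · exact (QCohLib.sections_exact_of_shortExact hS (chartMeet R s)).2 y hy
  · exact QCohLib.app_surjective_of_shortExact hS (isAffineOpen_chartMeet s hs)

end Groth.Agent.ProjCoh
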