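import Groth.Agent.ProjCoh.TwistCoh
import Groth.Agent.ProjCoh.Exact
import Groth.Agent.ProjCoh.GenHom

/-!
# Morphisms out of `O(b)`

The sections of `O(a)` on the chart intersections are the twisted Laurent systems; a morphism out of `O(b)` is
given by compatible images of the generators, and a morphism `O(b) → O(c)` is multiplication by a Laurent
polynomial which is regular on every chart.
-/

universe u

open CategoryTheory AlgebraicGeometry TopologicalSpace Opposite
open scoped Groth.Agent.CohVanish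

namespace Groth.Agent.ProjCoh

open Groth.Agent.CechCmp Groth.Agent.CohVanish

variable {n : ℕ} {R : Type u} [CommRing R]

local notation "𝒜" => CohB1.polyGrading n R

/-- Laurent polynomials of degree `a` as sections of `O(a)`. -/
noncomputable def oTwApp (a : ℤ) (s : Finset (Ix.{u} n)) :
    supp R (cone (ι := Ix.{u} n) a s) →ₗ[R] (secSys (Twist.twist (CohB1.polyGrading n R) a)).obj s :=
  open Classical in
  if hs : s.Nonempty then
    { toFun := fun f => theta R s (divMono a (pickIx_mem hs) f) • gen (pickIx_mem hs) a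
      map_add' := fun f g => by rw [map_add, map_add]; exact add_smul (M := Γ(Twist.twist (CohB1.polyGrading n R) a, chartMeet R s)) _ _ _
      map_smul' := fun r f => by
        refine Eq.trans ?_ (secSys_smul_base (Twist.twist (CohB1.polyGrading n R) a) s r _).symm
        rw [map_smul, Algebra.smul_def, map_mul]
        exact mul_smul (β := Γ(Twist.twist (CohB1.polyGrading n R) a, chartMeet R s)) _ _ _ }
  else 0

lemma oTwApp_apply (a : ℤ) {s : Finset (Ix.{u} n)} {j : Ix.{u} n} (hj : j ∈ s)
    (f : supp R (cone (ι := Ix.{u} n) a s)) :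
    oTwApp a s f = theta R s (divMono a hj f) • gen hj a := by
  have hs : s.Nonempty := ⟨j, hj⟩
  unfold oTwApp
  rw [dif_pos hs]
  change theta R s (divMono a (pickIx_mem hs) f) • gen (pickIx_mem hs) a = _
  rw [← theta_uz_smul_gen (pickIx_mem hs) hj a, smul_smul, ← map_mul]
  congr 2
  refine Subtype.ext ?_
  simp only [Subalgebra.coe_mul, coe_divMono, coe_uz]
  rw [mul_assoc]
  congr 1
  simp only [AddMonoidAlgebra.single_mul_single, one_mul]
  congr 1
  module

/-- The Laurent system of degree `a` is the system of sections of `O(a)`. -/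
noncomputable def oTw (a : ℤ) :
    Sys.Hom (twist R (Ix.{u} n) a) (secSys (Twist.twist (CohB1.polyGrading n R) a)) where
  app := oTwApp a
  nat {s t} h f hs := by
    let L := Twist.twist (CohB1.polyGrading n R) a
    refine (oTwApp_apply a (h (pickIx_mem hs)) _).trans ?_
    change _ = L.presheaf.map (homOfLE (RSh.meetOpen_anti (chartU R) h)).op (oTwApp a s f : (secSys L).obj s)
    rw [oTwApp_apply a (pickIx_mem hs) f]
    refine Eq.trans ?_ (secRes_smul L h _ _).symm
    rw [gen_res h (pickIx_mem hs) a]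
    rfl

lemma oTw_bijective (a : ℤ) (s : Finset (Ix.{u} n)) (hs : s.Nonempty) :
    Function.Bijective ((oTw (R := R) a).app s) := by
  have e : ⇑((oTw (R := R) a).app s) = fun f =>
      theta R s (divMono a (pickIx_mem hs) f) • gen (pickIx_mem hs) a :=
    funext (oTwApp_apply a (pickIx_mem hs))
  rw [e]
  exact (isFreeGen_gen (pickIx_mem hs) a (chartMeet R s) le_rfl).comp
    ((theta_bijective s hs).comp (divMono_bijective a (pickIx_mem hs)))

lemma zsmul_ev_mem_cone (b : ℤ) {s : Finset (Ix.{u} n)} {j : Ix.{u} n} (hj : j ∈ s) :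
    b • ev j ∈ cone b s := by
  refine ⟨?_, fun k hk => ?_⟩
  · simp [← Finset.mul_sum, sum_ev]
  · by_cases h : k = j
    · exact h ▸ hj
    · simp [ev, h] at hk

lemma mul_mem_cone {a : ℤ} {s : Finset (Ix.{u} n)} (q : reg R s) {f : Laurent R (Ix.{u} n)}
    (hf : f ∈ supp R (cone a s)) : (q : Laurent R (Ix.{u} n)) * f ∈ supp R (cone a s) :=
  mul_mem_supp (fun _ hx _ hy => zero_add a ▸ add_mem_cone hx hy) (mem_reg.1 q.2) hf

lemma asSec_oTw (a : ℤ) {s : Finset (Ix.{u} n)} {j : Ix.{u} n} (hj : j ∈ s)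
    (f : supp R (cone (ι := Ix.{u} n) a s)) :
    asSec (Twist.twist (CohB1.polyGrading n R) a) s ((oTw a).app s f) =
      theta R s (divMono a hj f) • gen hj a := oTwApp_apply a hj f

lemma theta_smul_oTw (a : ℤ) {s : Finset (Ix.{u} n)} (hs : s.Nonempty) (q : reg R s)
    (f : supp R (cone (ι := Ix.{u} n) a s)) :
    theta R s q • asSec (Twist.twist (CohB1.polyGrading n R) a) s ((oTw a).app s f) =
      asSec (Twist.twist (CohB1.polyGrading n R) a) s ((oTw a).app s ⟨_, mul_mem_cone q f.2⟩) := by
  rw [asSec_oTw a (pickIx_mem hs), asSec_oTw a (pickIx_mem hs), smul_smul, ← map_mul]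
  congr 2
  exact Subtype.ext (mul_assoc _ _ _).symm

lemma iSup_chartMeet_singleton : ⨆ j : Ix.{u} n, chartMeet R ({j} : Finset (Ix.{u} n)) = ⊤ := by
  rw [← iSup_chartU (n := n) (R := R)]
  exact iSup_congr fun j => Finset.iInf_singleton j (chartU R)

/-- The generator of `O(b)` on a chart. -/
noncomputable abbrev genAt (b : ℤ) (j : Ix.{u} n) :
    Γ(Twist.twist (CohB1.polyGrading n R) b, chartMeet R ({j} : Finset (Ix.{u} n))) :=
  gen (Finset.mem_singleton_self j) b

lemma isFreeGen_genAt (b : ℤ) (j : Ix.{u} n) :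
    IsFreeGen (Twist.twist (CohB1.polyGrading n R) b) (genAt (R := R) b j) := isFreeGen_gen _ b

/-- **Morphisms out of `O(b)`**: images of the generators with the transition law of degree `b`. -/
theorem exists_hom_twist (b : ℤ) {M : (Proj 𝒜).Modules} (x : ∀ j : Ix.{u} n, (secSys M).obj {j})
    (hx : ∀ i j : Ix.{u} n,
      M.presheaf.map (homOfLE (RSh.meetOpen_anti (chartU R) (show ({i} : Finset (Ix.{u} n)) ⊆ {i, j} by simp))).op
          (asSec M {i} (x i)) =
        theta R {i, j} (uz (show i ∈ ({i, j} : Finset (Ix.{u} n)) by simp)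
            (show j ∈ ({i, j} : Finset (Ix.{u} n)) by simp) b) •
          M.presheaf.map (homOfLE (RSh.meetOpen_anti (chartU R) (show ({j} : Finset (Ix.{u} n)) ⊆ {i, j} by simp))).op
            (asSec M {j} (x j))) :
    ∃ φ : Twist.twist (CohB1.polyGrading n R) b ⟶ M,
      ∀ j, φ.app _ (genAt b j) = asSec M {j} (x j) := by
  refine exists_hom_of_gen iSup_chartMeet_singleton (isFreeGen_genAt b) fun i j W hi hj r hr => ?_
  have hij : W ≤ chartMeet R ({i, j} : Finset (Ix.{u} n)) := by
    refine le_iInf₂ fun k hk => ?_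
    rcases Finset.mem_insert.1 hk with rfl | hk
    · exact hi.trans (iInf₂_le k (Finset.mem_singleton_self k))
    · exact hj.trans (iInf₂_le k hk)
  have hmi : i ∈ ({i, j} : Finset (Ix.{u} n)) := by simp
  have hmj : j ∈ ({i, j} : Finset (Ix.{u} n)) := by simp
  have e := congrArg ((Twist.twist (CohB1.polyGrading n R) b).presheaf.map (homOfLE hij).op)
    (theta_uz_smul_gen (R := R) hmi hmj b)
  rw [Scheme.Modules.map_smul,
    ← gen_res (show ({i} : Finset (Ix.{u} n)) ⊆ {i, j} by simp) (Finset.mem_singleton_self i) b,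
    ← gen_res (show ({j} : Finset (Ix.{u} n)) ⊆ {i, j} by simp) (Finset.mem_singleton_self j) b,
    QCohLib.map_map, QCohLib.map_map] at e
  have er : (Proj 𝒜).presheaf.map (homOfLE hij).op (theta R {i, j} (uz hmi hmj b)) = r :=
    (isFreeGen_genAt b j W hj).1 (e.trans hr.symm)
  have e2 := congrArg (M.presheaf.map (homOfLE hij).op) (hx i j)
  rw [Scheme.Modules.map_smul, QCohLib.map_map, QCohLib.map_map, er] at e2
  exact e2.symm

/-- A morphism out of `O(b)` is determined by the images of the generators. -/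
theorem hom_twist_ext {b : ℤ} {M : (Proj 𝒜).Modules} (φ ψ : Twist.twist (CohB1.polyGrading n R) b ⟶ M)
    (h : ∀ j, φ.app _ (genAt b j) = ψ.app _ (genAt b j)) : φ = ψ :=
  hom_ext_of_gen iSup_chartMeet_singleton (isFreeGen_genAt b) φ ψ h

/-- Laurent polynomials of degree `m` regular on every chart. -/
noncomputable def glob (R : Type u) [CommRing R] (n : ℕ) (m : ℤ) : Submodule R (Laurent R (Ix.{u} n)) :=
  ⨅ j : Ix.{u} n, supp R (cone m ({j} : Finset (Ix.{u} n)))

lemma glob_mem {m : ℤ} {P : Laurent R (Ix.{u} n)} (hP : P ∈ glob R n m) {s : Finset (Ix.{u} n)}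
    (hs : s.Nonempty) : P ∈ supp R (cone m s) := by
  obtain ⟨j, hj⟩ := hs
  exact supp_mono (cone_mono m (Finset.singleton_subset_iff.2 hj)) (Submodule.mem_iInf _ |>.1 hP j)

lemma mul_glob_mem {b c : ℤ} {P : Laurent R (Ix.{u} n)} (hP : P ∈ glob R n (c - b))
    {s : Finset (Ix.{u} n)} (hs : s.Nonempty) {f : Laurent R (Ix.{u} n)} (hf : f ∈ supp R (cone b s)) :
    P * f ∈ supp R (cone c s) :=
  mul_mem_supp (fun _ hx _ hy => sub_add_cancel c b ▸ add_mem_cone hx hy) (glob_mem hP hs) hf

/-- A morphism `O(b) → O(c)` given on generators by `P` is multiplication by `P` on every intersection. -/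
lemma app_oTw {b c : ℤ} {P : Laurent R (Ix.{u} n)} (hP : P ∈ glob R n (c - b))
    (φ : Twist.twist (CohB1.polyGrading n R) b ⟶ Twist.twist (CohB1.polyGrading n R) c)
    (hφ : ∀ j, φ.app _ (genAt b j) = asSec _ {j} ((oTw c).app {j}
      ⟨_, mul_glob_mem hP (Finset.singleton_nonempty j) (single_mem_supp (R := R) (zsmul_ev_mem_cone b (Finset.mem_singleton_self j)) 1)⟩))
    {s : Finset (Ix.{u} n)} (hs : s.Nonempty) (f : supp R (cone (ι := Ix.{u} n) b s)) :
    (secHomSys φ).app s ((oTw b).app s f) = (oTw c).app s ⟨_, mul_glob_mem hP hs f.2⟩ := by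
  let j := pickIx s
  have hj : j ∈ s := pickIx_mem hs
  change φ.app (chartMeet R s) (asSec _ s ((oTw b).app s f)) = asSec _ s _
  rw [asSec_oTw b hj, Scheme.Modules.Hom.app_smul,
    ← gen_res (Finset.singleton_subset_iff.2 hj) (Finset.mem_singleton_self j) b, QCohLib.app_map, hφ j]
  refine (congrArg (fun v : Γ(Twist.twist (CohB1.polyGrading n R) c, chartMeet R s) =>
      theta R s (divMono b hj f) • v)
    ((oTw c).nat (Finset.singleton_subset_iff.2 hj) _ (Finset.singleton_nonempty j)).symm).trans ?_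
  refine (theta_smul_oTw c hs _ _).trans (congrArg ((oTw c).app s) (Subtype.ext ?_))
  change (divMono b hj f : Laurent R (Ix.{u} n)) * (P * AddMonoidAlgebra.single (b • ev j) 1) = P * (f : Laurent R (Ix.{u} n))
  rw [coe_divMono, mul_left_comm, mul_assoc, AddMonoidAlgebra.single_mul_single, one_mul, ← add_smul,
    neg_add_cancel, zero_smul, ← AddMonoidAlgebra.one_def, mul_one]

/-- Multiplication by a Laurent polynomial which is regular on every chart. -/
theorem exists_hom_mul {b c : ℤ} {P : Laurent R (Ix.{u} n)} (hP : P ∈ glob R n (c - b)) :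
    ∃ φ : Twist.twist (CohB1.polyGrading n R) b ⟶ Twist.twist (CohB1.polyGrading n R) c,
      ∀ (s : Finset (Ix.{u} n)) (hs : s.Nonempty) (f : supp R (cone (ι := Ix.{u} n) b s)),
        (secHomSys φ).app s ((oTw b).app s f) = (oTw c).app s ⟨_, mul_glob_mem hP hs f.2⟩ := by
  obtain ⟨φ, hφ⟩ := exists_hom_twist b (fun j => (oTw c).app {j}
      ⟨_, mul_glob_mem hP (Finset.singleton_nonempty j) (single_mem_supp (R := R) (zsmul_ev_mem_cone b (Finset.mem_singleton_self j)) 1)⟩)
    fun i j => by
      refine ((oTw c).nat (by simp) _ (Finset.singleton_nonempty i)).symm.trans ?_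
      refine Eq.trans ?_ (congrArg (fun v : Γ(Twist.twist (CohB1.polyGrading n R) c, chartMeet R ({i, j} : Finset (Ix.{u} n))) =>
        theta R {i, j} _ • v) ((oTw c).nat (by simp) _ (Finset.singleton_nonempty j)))
      refine Eq.trans (congrArg ((oTw c).app {i, j}) (Subtype.ext ?_))
        (theta_smul_oTw c (Finset.insert_nonempty i _) _ _).symm
      change P * AddMonoidAlgebra.single (b • ev i) 1 = _ * (P * AddMonoidAlgebra.single (b • ev j) 1)
      rw [coe_uz, mul_left_comm, AddMonoidAlgebra.single_mul_single, one_mul, sub_add_cancel]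
  exact ⟨φ, fun s hs f => app_oTw hP φ hφ hs f⟩

lemma eq_of_theta_smul_oTw (c : ℤ) {s : Finset (Ix.{u} n)} (hs : s.Nonempty) (q : reg R s)
    (f g : supp R (cone (ι := Ix.{u} n) c s))
    (e : theta R s q • asSec (Twist.twist (CohB1.polyGrading n R) c) s ((oTw c).app s f) =
      asSec (Twist.twist (CohB1.polyGrading n R) c) s ((oTw c).app s g)) :
    (q : Laurent R (Ix.{u} n)) * (f : Laurent R (Ix.{u} n)) = (g : Laurent R (Ix.{u} n)) :=
  congrArg (fun v : supp R (cone (ι := Ix.{u} n) c s) => (v : Laurent R (Ix.{u} n)))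
    ((oTw_bijective (R := R) c s hs).1 ((theta_smul_oTw c hs q f).symm.trans e))

lemma app_gen_eq {b c : ℤ} (φ : Twist.twist (CohB1.polyGrading n R) b ⟶ Twist.twist (CohB1.polyGrading n R) c)
    {k : Ix.{u} n} {s : Finset (Ix.{u} n)} (hk : k ∈ s) (F : supp R (cone (ι := Ix.{u} n) c {k}))
    (hF : (oTw c).app {k} F = φ.app _ (genAt b k)) :
    φ.app (chartMeet R s) (gen hk b) = asSec (Twist.twist (CohB1.polyGrading n R) c) s
      ((oTw c).app s ⟨F.1, supp_mono (cone_mono c (Finset.singleton_subset_iff.2 hk)) F.2⟩) := by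
  rw [← gen_res (Finset.singleton_subset_iff.2 hk) (Finset.mem_singleton_self k) b, QCohLib.app_map, ← hF]
  exact ((oTw c).nat (Finset.singleton_subset_iff.2 hk) F (Finset.singleton_nonempty k)).symm

/-- **Every morphism `O(b) → O(c)` is multiplication by such a polynomial.** -/
theorem exists_mul_of_hom {b c : ℤ}
    (φ : Twist.twist (CohB1.polyGrading n R) b ⟶ Twist.twist (CohB1.polyGrading n R) c) :
    ∃ (P : Laurent R (Ix.{u} n)) (hP : P ∈ glob R n (c - b)),
      ∀ (s : Finset (Ix.{u} n)) (hs : s.Nonempty) (f : supp R (cone (ι := Ix.{u} n) b s)),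
        (secHomSys φ).app s ((oTw b).app s f) = (oTw c).app s ⟨_, mul_glob_mem hP hs f.2⟩ := by
  choose F hF using fun j : Ix.{u} n =>
    (oTw_bijective (R := R) c {j} (Finset.singleton_nonempty j)).2 (φ.app _ (genAt b j))
  have hmem : ∀ j, (F j : Laurent R (Ix.{u} n)) * AddMonoidAlgebra.single ((-b) • ev j) 1 ∈
      supp R (cone (c - b) ({j} : Finset (Ix.{u} n))) := fun j => by
    simpa only [← sub_eq_add_neg] using mul_ev_mem_cone (d := -b) (Finset.mem_singleton_self j) (F j).2
  have hconst : ∀ i j, (F i : Laurent R (Ix.{u} n)) * AddMonoidAlgebra.single ((-b) • ev i) 1 =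
      (F j : Laurent R (Ix.{u} n)) * AddMonoidAlgebra.single ((-b) • ev j) 1 := by
    intro i j
    let s : Finset (Ix.{u} n) := {i, j}
    have hi : i ∈ s := by simp [s]
    have hj : j ∈ s := by simp [s]
    have hs : s.Nonempty := ⟨i, hi⟩
    have e := app_gen_eq φ hi (F i) (hF i)
    rw [← theta_uz_smul_gen hi hj b, Scheme.Modules.Hom.app_smul, app_gen_eq φ hj (F j) (hF j)] at e
    have e2 : (uz (R := R) hi hj b : Laurent R (Ix.{u} n)) * (F j : Laurent R (Ix.{u} n)) =
        (F i : Laurent R (Ix.{u} n)) := eq_of_theta_smul_oTw c hs _ _ _ e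
    rw [← e2, coe_uz, mul_comm (AddMonoidAlgebra.single _ _), mul_assoc, AddMonoidAlgebra.single_mul_single, one_mul]
    congr 2
    module
  obtain ⟨P, hPdef⟩ : ∃ P, P = (F (pickIx Finset.univ) : Laurent R (Ix.{u} n)) *
      AddMonoidAlgebra.single ((-b) • ev (pickIx (Finset.univ : Finset (Ix.{u} n)))) 1 := ⟨_, rfl⟩
  have hP : P ∈ glob R n (c - b) := (Submodule.mem_iInf _).2 fun j => by
    rw [hPdef, hconst _ j]
    exact hmem j
  refine ⟨P, hP, fun s hs f => ?_⟩
  refine app_oTw hP φ (fun j => (hF j).symm.trans (congrArg ((oTw c).app _) (Subtype.ext ?_))) hs f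
  change (F j : Laurent R (Ix.{u} n)) = _ * AddMonoidAlgebra.single (b • ev j) 1
  rw [hPdef, hconst (pickIx Finset.univ) j, mul_assoc, AddMonoidAlgebra.single_mul_single, one_mul, ← add_smul,
    neg_add_cancel, zero_smul, ← AddMonoidAlgebra.one_def, mul_one]

end Groth.Agent.ProjCoh
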