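import Groth.Agent.ProjCoh.TwistCoh
import Groth.Agent.ProjCoh.Exact
import Groth.Agent.ProjCoh.TwistHom
import Mathlib.CategoryTheory.Preadditive.Biproducts

/-!
# The cohomology of the twists as additive functors
-/

universe u

open CategoryTheory AlgebraicGeometry TopologicalSpace Opposite
open scoped Groth.Agent.CohVanish

namespace Groth.Agent.ProjCoh

open Groth.Agent.CechCmp Groth.Agent.CohVanish

variable {n : ℕ} {R : Type u} [CommRing R]

/-- The Čech cohomology of a twist. -/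
abbrev TH (M : (Proj (CohB1.polyGrading n R)).Modules) [M.IsQuasicoherent] (d : ℤ) (p : ℕ) : Type u :=
  ((ofModule M).twSys d).H p

variable {M N K : (Proj (CohB1.polyGrading n R)).Modules} [M.IsQuasicoherent] [N.IsQuasicoherent]
  [K.IsQuasicoherent]

/-- A morphism on the cohomology of twists. -/
noncomputable def mapT (φ : M ⟶ N) (d : ℤ) (p : ℕ) : TH M d p →ₗ[R] TH N d p := (twSecHom φ d).mapH p

lemma mapT_comp (φ : M ⟶ N) (ψ : N ⟶ K) (d : ℤ) (p : ℕ) (x : TH M d p) :
    mapT (φ ≫ ψ) d p x = mapT ψ d p (mapT φ d p x) := by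
  obtain ⟨z, rfl⟩ := Submodule.mkQ_surjective _ x
  rfl

lemma mapT_id (d : ℤ) (p : ℕ) (x : TH M d p) : mapT (𝟙 M) d p x = x := by
  obtain ⟨z, rfl⟩ := Submodule.mkQ_surjective _ x
  rfl

lemma mapT_add (φ ψ : M ⟶ N) (d : ℤ) (p : ℕ) (x : TH M d p) :
    mapT (φ + ψ) d p x = mapT φ d p x + mapT ψ d p x := by
  obtain ⟨z, rfl⟩ := Submodule.mkQ_surjective _ x
  rfl

lemma mapT_zero (d : ℤ) (p : ℕ) (x : TH M d p) : mapT (0 : M ⟶ N) d p x = 0 := by
  have := mapT_add (0 : M ⟶ N) 0 d p x
  rw [add_zero] at this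
  exact left_eq_add.1 this

lemma mapT_sum {κ : Type*} (s : Finset κ) (φ : κ → (M ⟶ N)) (d : ℤ) (p : ℕ) (x : TH M d p) :
    mapT (∑ c ∈ s, φ c) d p x = ∑ c ∈ s, mapT (φ c) d p x := by
  classical
  induction s using Finset.induction with
  | empty => simpa using mapT_zero d p x
  | insert c t hc ih => rw [Finset.sum_insert hc, Finset.sum_insert hc, mapT_add, ih]

/-- A retract inherits vanishing. -/
theorem subsingleton_TH_of_retract (i : N ⟶ M) (r : M ⟶ N) (h : i ≫ r = 𝟙 N) (d : ℤ) (p : ℕ)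
    [Subsingleton (TH M d p)] : Subsingleton (TH N d p) := by
  refine subsingleton_of_forall_eq 0 fun x => ?_
  rw [← mapT_id d p x, ← h, mapT_comp, Subsingleton.elim (mapT i d p x) 0, map_zero]

/-- The Čech cohomology of the twist is the cohomology of the twisted module. -/
noncomputable def twModH (M : (Proj (CohB1.polyGrading n R)).Modules) [M.IsQuasicoherent] (d : ℤ) (p : ℕ) :
    TH M d p ≃ₗ[R] (secSys (CohB1.tensorMod M (Twist.twist (CohB1.polyGrading n R) d))).H p :=
  LinearEquiv.ofBijective ((twModHom M d).mapH p) (bijective_mapH (twModHom M d) (twModHom_bijective M d) p)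

/-- `TH` detects the cohomology of the twisted module. -/
theorem subsingleton_TH_iff (M : (Proj (CohB1.polyGrading n R)).Modules) [M.IsQuasicoherent] (d : ℤ) (p : ℕ) :
    Subsingleton (Coh.HH (CohB1.ProjSpace n R) (CohB1.tensorMod M (Twist.twistProjSpace n R d)) p) ↔
      Subsingleton (TH M d p) := subsingleton_twist_iff M d p

/-- The twists of `O(a)` with nonnegative degree have sections. -/
theorem nontrivial_TH_twist_zero [Nontrivial R] (a d : ℤ) (h : 0 ≤ a + d) :
    Nontrivial (TH (Twist.twist (CohB1.polyGrading n R) a) d 0) := by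
  let x : Expo (Ix.{u} n) := (a + d) • ev (ULift.up 0)
  have hx : ∀ s : Finset (Ix.{u} n), x ∈ cone (a + d) s := fun s => by
    refine ⟨by simp [x, ← Finset.mul_sum, sum_ev], fun i hi => ?_⟩
    exfalso
    by_cases hi0 : i = ULift.up 0
    · subst hi0; simp [x, ev] at hi; omega
    · simp [x, ev, hi0] at hi
  let c : (twist R (Ix.{u} n) (a + d)).C 1 := fun σ =>
    ⟨AddMonoidAlgebra.single x 1, single_mem_supp (hx _) 1⟩
  have hc : c ∈ (twist R (Ix.{u} n) (a + d)).Z 0 := LinearMap.mem_ker.2 (funext fun σ => Subtype.ext (by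
    simp only [Sys.d_apply]
    simp [c]
    exact add_neg_cancel (AddMonoidAlgebra.single x (1 : R))))
  have hne : (twist R (Ix.{u} n) (a + d)).cls 0 ⟨c, hc⟩ ≠ 0 := fun h0 => by
    have h1 := congrArg (fun v : supp R (cone (ι := Ix.{u} n) (a + d) (img fun _ : Fin 1 => ULift.up 0)) =>
      (v : Laurent R (Ix.{u} n)).coeff x)
      (congrFun (Sys.mem_B_zero.1 (((twist R (Ix.{u} n) (a + d)).cls_eq_zero_iff _).1 h0)) fun _ => ULift.up 0)
    simp [c] at h1
  refine ⟨(pHom a d).mapH 0 ((twist R (Ix.{u} n) (a + d)).cls 0 ⟨c, hc⟩), 0, fun h0 => hne ?_⟩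
  exact (bijective_mapH (pHom a d) (pHom_bijective a d) 0).1 (h0.trans (map_zero _).symm)

end Groth.Agent.ProjCoh
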