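import Groth.Agent.ProjCoh.LowTwist
import Groth.Agent.ProjCoh.TwFunctor
import Groth.Agent.LocFreeAnn.Free
import Groth.Agent.DCohPerf.Coherent
import Groth.Agent.S3557

/-!
# Finite locally free modules on projective space over a field have no very negative sections
-/

universe u

open CategoryTheory CategoryTheory.Limits AlgebraicGeometry TopologicalSpace Opposite
open scoped Groth.Agent.CohVanish

namespace Groth.Agent.ProjCoh

open Groth.Agent.CechCmp Groth.Agent.CohVanish

/-- On an integral scheme, finite locally free modules are torsion-free. -/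
theorem eq_zero_of_smul_locFree {X : Scheme.{u}} [IsIntegral X] {M : X.Modules} (hM : FlatMod.IsFinLocFree M)
    {U : X.Opens} {a : Γ(X, U)} (ha : a ≠ 0) {x : Γ(M, U)} (h : a • x = 0) : x = 0 := by
  refine TopCat.Sheaf.eq_of_locally_eq' ⟨M.presheaf, M.isSheaf⟩
    (fun W : {W : X.Opens // (W ≤ U ∧ Nonempty (W : X.Opens)) ∧ ∃ n, ∃ b : Fin n → Γ(M, W), ∀ (V : X.Opens) (h : V ≤ W),
      Function.Bijective fun c : Fin n → Γ(X, V) => ∑ i, c i • M.presheaf.map (homOfLE h).op (b i)} => W.1)
    U (fun W => homOfLE W.2.1.1) (fun y hy => ?_) x 0 fun W => ?_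
  · obtain ⟨W, n, hyW, ⟨e⟩⟩ := hM y
    obtain ⟨b, hb⟩ := LocFreeAnn.exists_basis e
    refine Opens.mem_iSup.2 ⟨⟨W ⊓ U, ⟨inf_le_right, ⟨y, hyW, hy⟩⟩, n,
      fun i => M.presheaf.map (homOfLE inf_le_left).op (b i), fun V hV => ?_⟩, hyW, hy⟩
    have := hb V (hV.trans inf_le_left)
    simp only [QCohLib.map_map] at this ⊢
    exact this
  · obtain ⟨n, b, hb⟩ := W.2.2
    haveI := W.2.1.2
    change M.presheaf.map (homOfLE W.2.1.1).op x = M.presheaf.map (homOfLE W.2.1.1).op 0
    rw [map_zero]
    obtain ⟨c, hc⟩ := (hb W.1 le_rfl).2 (M.presheaf.map (homOfLE W.2.1.1).op x)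
    have ha' : X.presheaf.map (homOfLE W.2.1.1).op a ≠ 0 := fun e =>
      ha ((map_eq_zero_iff _ (map_injective_of_isIntegral X (homOfLE W.2.1.1))).1 e)
    have h0 := congrArg (M.presheaf.map (homOfLE W.2.1.1).op) h
    rw [Scheme.Modules.map_smul, map_zero, ← hc, Finset.smul_sum] at h0
    have h1 : (fun i => X.presheaf.map (homOfLE W.2.1.1).op a * c i) = 0 := by
      refine (hb W.1 le_rfl).1 ?_
      simp only [mul_smul, Pi.zero_apply, zero_smul, Finset.sum_const_zero]
      exact h0
    rw [← hc]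
    refine Finset.sum_eq_zero fun i _ => ?_
    rw [(mul_eq_zero.1 (congrFun h1 i)).resolve_left ha', zero_smul]

variable {n : ℕ} {K : Type u} [Field K]

local notation "𝒜" => CohB1.polyGrading n K

instance isIntegral_proj : IsIntegral (Proj (CohB1.polyGrading n K)) := by
  refine (S3557.result (CohB1.polyGrading n K) (fun f _ hf => hf.eq_zero)).2 ⟨⟨MvPolynomial.X 0, ?_, MvPolynomial.X_ne_zero 0⟩,
    fun f _ g _ h => mul_eq_zero.1 h⟩
  exact HomogeneousIdeal.mem_irrelevant_of_mem _ Nat.one_pos (MvPolynomial.isHomogeneous_X _ _)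

/-- The charts of a finite locally free module are torsion-free. -/
theorem torsionFree_ofModule (E : (Proj 𝒜).Modules) [E.IsQuasicoherent] (hE : FlatMod.IsFinLocFree E) :
    (ofModule E).TorsionFree := fun i a x h => by
  by_cases ha : a = 0
  · exact Or.inl ha
  refine Or.inr (eq_zero_of_smul_locFree hE
    (a := theta K {i} a) (fun e => ha ((injective_iff_map_eq_zero _).1 (theta_bijective _ (Finset.singleton_nonempty i)).1 a e))
    (x := asSec E {i} x) h)

/-- **No sections in very negative twists.** -/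
theorem exists_low_of_isFinLocFree (hn : 1 ≤ n) (E : (Proj 𝒜).Modules) [E.IsQuasicoherent]
    (hE : FlatMod.IsFinLocFree E) : ∃ m₀ : ℤ, ∀ m, m ≤ m₀ → Subsingleton (TH E m 0) := by
  have : Nontrivial (Ix.{u} n) := Fintype.one_lt_card_iff_nontrivial.1 (by simp; omega)
  exact (ofModule E).exists_subsingleton_H_zero (ofModule_fg E (DCohPerf.isCoh_finLocFree hE).2)
    (torsionFree_ofModule E hE)

end Groth.Agent.ProjCoh
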