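import Groth.Agent.ProjCoh.LSys
import Groth.Agent.ProjPoint.Basic
import Groth.Prelude.Def_CohB1
import Mathlib.RingTheory.Localization.AtPrime.Basic
import Mathlib.Algebra.MvPolynomial.Variables

/-!
# The charts of projective space and degree zero Laurent polynomials
-/

universe u

open CategoryTheory AlgebraicGeometry HomogeneousLocalization TopologicalSpace Opposite

namespace Groth.Agent.ProjCoh

open Finset

/-- The index type of the charts of `P^n`. -/
abbrev Ix (n : ℕ) : Type u := ULift.{u} (Fin (n + 1))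

variable {n : ℕ} {R : Type u} [CommRing R]

local notation "𝒜" => CohB1.polyGrading n R

/-- The product of the variables of a set of indices. -/
noncomputable def xs (s : Finset (Ix.{u} n)) : MvPolynomial (Fin (n + 1)) R :=
  ∏ i ∈ s, MvPolynomial.X i.down

lemma xs_mem (s : Finset (Ix.{u} n)) : (xs s : MvPolynomial (Fin (n + 1)) R) ∈ 𝒜 s.card := by
  have := MvPolynomial.IsHomogeneous.prod s (fun i : Ix.{u} n => (MvPolynomial.X i.down : MvPolynomial (Fin (n + 1)) R))
    (fun _ => 1) fun i _ => MvPolynomial.isHomogeneous_X R i.down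
  rw [Finset.sum_const, smul_eq_mul, mul_one] at this
  exact this

lemma xs_mul {s t : Finset (Ix.{u} n)} (h : s ⊆ t) :
    (xs t : MvPolynomial (Fin (n + 1)) R) = xs s * xs (t \ s) := by
  rw [xs, xs, xs, mul_comm, Finset.prod_sdiff h]

/-- The coordinate vector of Laurent monomials. -/
noncomputable def lv (k : Fin (n + 1)) : Laurent R (Ix.{u} n) :=
  AddMonoidAlgebra.single (ev (ULift.up k)) 1

variable (R) in
/-- Polynomials as Laurent polynomials. -/
noncomputable def toL : MvPolynomial (Fin (n + 1)) R →+* Laurent R (Ix.{u} n) :=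
  MvPolynomial.eval₂Hom (algebraMap R (Laurent R (Ix.{u} n))) lv

/-- The exponent attached to a monomial. -/
def toE (a : Fin (n + 1) →₀ ℕ) : Expo (Ix.{u} n) := fun i => (a i.down : ℤ)

/-- The exponent of a product of variables. -/
def es (s : Finset (Ix.{u} n)) : Expo (Ix.{u} n) := fun i => if i ∈ s then 1 else 0

lemma toE_injective : Function.Injective (toE.{u} (n := n)) := fun a b h => Finsupp.ext fun k => by
  exact Int.ofNat_inj.1 (congrFun h (ULift.up k))

lemma algebraMap_laurent (r : R) :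
    algebraMap R (Laurent R (Ix.{u} n)) r = AddMonoidAlgebra.single 0 r := by
  simp [AddMonoidAlgebra.coe_algebraMap]

lemma toL_monomial (a : Fin (n + 1) →₀ ℕ) (r : R) :
    toL R (MvPolynomial.monomial a r) = AddMonoidAlgebra.single (toE a) r := by
  rw [toL, MvPolynomial.coe_eval₂Hom, MvPolynomial.eval₂_monomial, Finsupp.prod_fintype _ _ (by simp)]
  simp only [lv, AddMonoidAlgebra.single_pow, one_pow]
  rw [AddMonoidAlgebra.prod_single, Finset.prod_const_one, algebraMap_laurent,
    AddMonoidAlgebra.single_mul_single, mul_one, zero_add]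
  congr 1
  funext i
  rcases i with ⟨i⟩
  simp [toE, ev, Pi.single_apply, ULift.up_inj]

lemma coeff_toL (f : MvPolynomial (Fin (n + 1)) R) (a : Fin (n + 1) →₀ ℕ) :
    (toL R f).coeff (toE a) = f.coeff a := by
  classical
  induction f using MvPolynomial.induction_on' with
  | monomial b r =>
    rw [toL_monomial, AddMonoidAlgebra.coeff_single, MvPolynomial.coeff_monomial,
      Finsupp.single_apply]
    by_cases h : b = a
    · simp [h]
    · rw [if_neg (fun e => h (toE_injective e)), if_neg h]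
  | add p q hp hq => rw [map_add, AddMonoidAlgebra.coeff_add, Finsupp.add_apply, hp, hq, MvPolynomial.coeff_add]

lemma toL_injective : Function.Injective (toL.{u} (n := n) R) := fun f g h =>
  MvPolynomial.ext _ _ fun a => by rw [← coeff_toL f a, ← coeff_toL g a, h]

lemma toL_xs (s : Finset (Ix.{u} n)) :
    toL R (xs s) = AddMonoidAlgebra.single (es s) 1 := by
  rw [xs, map_prod]
  simp only [toL, MvPolynomial.coe_eval₂Hom, MvPolynomial.eval₂_X, lv]
  rw [AddMonoidAlgebra.prod_single, Finset.prod_const_one]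
  congr 1
  funext i
  simp [es, ev, Pi.single_apply]

lemma sum_toE (a : Fin (n + 1) →₀ ℕ) : ∑ i, toE.{u} a i = (a.degree : ℤ) := by
  rw [Finsupp.degree_eq_sum, Nat.cast_sum]
  exact (Equiv.ulift.{u}).sum_comp (fun k => (a k : ℤ))

lemma isUnit_toL_xs (s : Finset (Ix.{u} n)) :
    IsUnit (MvPolynomial.eval₂Hom (algebraMap R (Laurent R (Ix.{u} n))) lv (xs s)) := by
  change IsUnit (toL R (xs s))
  rw [toL_xs]
  exact IsUnit.of_mul_eq_one (AddMonoidAlgebra.single (-es s) 1) (by
    rw [AddMonoidAlgebra.single_mul_single, add_neg_cancel, one_mul, AddMonoidAlgebra.one_def])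

variable (R) in
/-- A homogeneous fraction as a Laurent polynomial. -/
noncomputable def psi (s : Finset (Ix.{u} n)) : Away 𝒜 (xs s) →+* Laurent R (Ix.{u} n) :=
  ProjPoint.evalAway (algebraMap R _) lv (xs s) (isUnit_toL_xs s)

lemma psi_mk (s : Finset (Ix.{u} n)) (k : ℕ) (a : MvPolynomial (Fin (n + 1)) R)
    (ha : a ∈ 𝒜 (k • s.card)) :
    psi R s (Away.mk 𝒜 (xs_mem s) k a ha) =
      toL R a * AddMonoidAlgebra.single (-((k : ℤ) • es s)) 1 := by
  have h := ProjPoint.evalAway_mk (algebraMap R (Laurent R (Ix.{u} n))) lv (isUnit_toL_xs s)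
    (xs_mem s) k a ha
  rw [show toL R a = _ from h.symm, mul_assoc,
    show MvPolynomial.eval₂Hom (algebraMap R (Laurent R (Ix.{u} n))) lv (xs s) = _ from toL_xs s,
    AddMonoidAlgebra.single_pow, one_pow, AddMonoidAlgebra.single_mul_single, one_mul]
  rw [← natCast_zsmul (es s) k, add_neg_cancel, ← AddMonoidAlgebra.one_def, mul_one]
  rfl

lemma psi_mem (s : Finset (Ix.{u} n)) (z : Away 𝒜 (xs s)) : psi R s z ∈ reg R s := by
  obtain ⟨k, a, ha, rfl⟩ := HomogeneousLocalization.Away.mk_surjective 𝒜 (xs_mem s) z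
  rw [psi_mk, MvPolynomial.as_sum a, map_sum, Finset.sum_mul]
  refine Subalgebra.sum_mem _ fun b hb => ?_
  rw [toL_monomial, AddMonoidAlgebra.single_mul_single, mul_one]
  refine single_mem_supp (C := cone 0 s) ⟨?_, fun i hi => ?_⟩ _
  · have hd : b.degree = k • s.card := by
      have := (MvPolynomial.mem_homogeneousSubmodule _ _).1 ha (MvPolynomial.mem_support_iff.1 hb)
      rw [Finsupp.degree_eq_weight_one]
      exact this
    have he : ∑ i, es s i = (s.card : ℤ) := by simp [es]
    simp only [Pi.add_apply, Pi.neg_apply, Pi.smul_apply, smul_eq_mul, Finset.sum_add_distrib,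
      Finset.sum_neg_distrib, ← Finset.mul_sum, sum_toE, he, hd]
    push_cast
    ring
  · by_contra h
    simp [es, h, toE] at hi
    omega

variable (R) in
/-- A homogeneous fraction as a degree zero Laurent polynomial. -/
noncomputable def psiR (s : Finset (Ix.{u} n)) : Away 𝒜 (xs s) →+* reg R s :=
  (psi R s).codRestrict (reg R s).toSubring (psi_mem s)

lemma psi_injective (s : Finset (Ix.{u} n)) : Function.Injective (psi R s) := by
  intro y z h
  refine val_injective _ ?_
  have hinj : Function.Injective (IsLocalization.Away.lift (S := Localization.Away (xs s : MvPolynomial (Fin (n + 1)) R))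
      (xs s : MvPolynomial (Fin (n + 1)) R) (isUnit_toL_xs (R := R) s)) := by
    rw [IsLocalization.Away.lift, IsLocalization.lift_injective_iff]
    intro a b
    refine ⟨fun e => ?_, fun e => congrArg _ (toL_injective e)⟩
    have := congrArg (IsLocalization.Away.lift (S := Localization.Away (xs s : MvPolynomial (Fin (n + 1)) R))
      (xs s : MvPolynomial (Fin (n + 1)) R) (isUnit_toL_xs (R := R) s)) e
    rwa [IsLocalization.Away.lift_eq, IsLocalization.Away.lift_eq] at this
  exact hinj h

lemma psiR_bijective (s : Finset (Ix.{u} n)) : Function.Bijective (psiR R s) := by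
  refine ⟨fun y z h => psi_injective s (congrArg Subtype.val h), fun f => ?_⟩
  have hmon : ∀ a ∈ cone 0 s, ∀ r : R, ∃ z, psi R s z = AddMonoidAlgebra.single a r := by
    intro a ha r
    let m : ℕ := s.sum fun i => (-a i).toNat
    let b : Fin (n + 1) →₀ ℕ :=
      Finsupp.equivFunOnFinite.symm fun k => (a (ULift.up k) + m * es s (ULift.up k)).toNat
    have hb : toE b = a + (m : ℤ) • es s := by
      funext i
      rcases i with ⟨i⟩
      simp only [toE, b, Finsupp.coe_equivFunOnFinite_symm, Pi.add_apply, Pi.smul_apply, smul_eq_mul]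
      rw [Int.toNat_of_nonneg]
      by_cases hi : (ULift.up i : Ix.{u} n) ∈ s
      · have h1 : (-a (ULift.up i)).toNat ≤ m :=
          Finset.single_le_sum (f := fun i => (-a i).toNat) (fun _ _ => Nat.zero_le _) hi
        have := Int.self_le_toNat (-a (ULift.up i))
        simp only [es, if_pos hi, mul_one]
        omega
      · simp only [es, if_neg hi, mul_zero, add_zero]
        exact le_of_not_gt fun h => hi (ha.2 _ h)
    have hdeg : b.degree = m • s.card := by
      have h1 := sum_toE.{u} b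
      rw [hb] at h1
      have he : ∑ i, es s i = (s.card : ℤ) := by simp [es]
      simp only [Pi.add_apply, Pi.smul_apply, smul_eq_mul, Finset.sum_add_distrib, ← Finset.mul_sum,
        ha.1, he, zero_add] at h1
      rw [smul_eq_mul]
      exact_mod_cast h1.symm
    refine ⟨Away.mk 𝒜 (xs_mem s) m (MvPolynomial.monomial b r)
      ((MvPolynomial.mem_homogeneousSubmodule _ _).2 (MvPolynomial.isHomogeneous_monomial r hdeg)), ?_⟩
    rw [psi_mk, toL_monomial, AddMonoidAlgebra.single_mul_single, mul_one, hb, add_neg_cancel_right]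
  choose z hz using hmon
  classical
  let g : Expo (Ix.{u} n) → Away 𝒜 (xs s) := fun a =>
    if h : a ∈ cone 0 s then z a h ((f : Laurent R (Ix.{u} n)).coeff a) else 0
  refine ⟨∑ a ∈ (f : Laurent R (Ix.{u} n)).coeff.support, g a, Subtype.ext ?_⟩
  change psi R s (∑ a ∈ (f : Laurent R (Ix.{u} n)).coeff.support, g a) = f
  rw [map_sum]
  conv_rhs => rw [← AddMonoidAlgebra.sum_coeff_single (f : Laurent R (Ix.{u} n))]
  refine Finset.sum_congr rfl fun a ha => ?_
  simp only [g, dif_pos (f.2 a (Finsupp.mem_support_iff.1 ha)), hz]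

lemma psi_awayMap {s t : Finset (Ix.{u} n)} (h : s ⊆ t) (z : Away 𝒜 (xs s)) :
    psi R t (awayMap 𝒜 (xs_mem (t \ s)) (xs_mul h) z) = psi R s z :=
  RingHom.congr_fun (ProjPoint.evalAway_comp_awayMap _ _ (xs_mem (t \ s)) (xs_mul h)
    (isUnit_toL_xs s) (isUnit_toL_xs t)) z

lemma psi_algebraMap (s : Finset (Ix.{u} n)) (r : R) :
    psi R s (fromZeroRingHom 𝒜 _ (algebraMap R (𝒜 0) r)) = algebraMap R _ r := by
  simp only [psi, ProjPoint.evalAway, RingHom.comp_apply, HomogeneousLocalization.algebraMap_apply]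
  change IsLocalization.Away.lift (S := Localization.Away (xs s : MvPolynomial (Fin (n + 1)) R)) _
    (isUnit_toL_xs s) (Localization.mk (algebraMap R (MvPolynomial (Fin (n + 1)) R) r) 1) = _
  rw [Localization.mk_one_eq_algebraMap, IsLocalization.Away.lift_eq, MvPolynomial.algebraMap_eq,
    MvPolynomial.coe_eval₂Hom, MvPolynomial.eval₂_C]

lemma map_map_eq {X : Scheme.{u}} {U V W : X.Opens} (i : op U ⟶ op V) (j : op V ⟶ op W)
    (k : op U ⟶ op W) (x : Γ(X, U)) : X.presheaf.map j (X.presheaf.map i x) = X.presheaf.map k x := by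
  rw [← ConcreteCategory.comp_apply, ← Functor.map_comp]
  rfl

variable (n R) in
/-- The structure morphism, on `Proj`. -/
noncomputable def tS : Proj 𝒜 ⟶ Spec (CommRingCat.of R) :=
  Proj.toSpecZero 𝒜 ≫ Spec.map (CommRingCat.ofHom (algebraMap R (𝒜 0)))

variable (R) in
/-- The charts. -/
noncomputable def chartU (i : Ix.{u} n) : (Proj 𝒜).Opens :=
  Proj.basicOpen 𝒜 (MvPolynomial.X i.down)

variable (R) in
/-- The intersection of a set of charts. -/
noncomputable abbrev chartMeet (s : Finset (Ix.{u} n)) : (Proj 𝒜).Opens :=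
  ⨅ i ∈ s, chartU R i

lemma chartMeet_eq (s : Finset (Ix.{u} n)) : chartMeet R s = Proj.basicOpen 𝒜 (xs s) := by
  classical
  induction s using Finset.induction with
  | empty =>
    simp only [chartMeet, xs, Finset.prod_empty, Proj.basicOpen_one]
    exact iInf_eq_top.2 fun i => iInf_eq_top.2 fun h => absurd h (Finset.notMem_empty i)
  | insert i t hi ih =>
    rw [chartMeet, Finset.iInf_insert, xs, Finset.prod_insert hi, Proj.basicOpen_mul]
    exact congrArg (chartU R i ⊓ ·) ih

lemma iSup_chartU : ⨆ i, chartU (n := n) R i = ⊤ := by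
  refine Eq.trans ?_ (ProjPoint.iSup_basicOpen_X (R := R) (n := n))
  exact Equiv.iSup_comp (g := fun k => Proj.basicOpen 𝒜 (MvPolynomial.X k)) Equiv.ulift

lemma isAffineOpen_chartMeet (s : Finset (Ix.{u} n)) (hs : s.Nonempty) :
    IsAffineOpen (chartMeet R s) := by
  rw [chartMeet_eq]
  exact Proj.isAffineOpen_basicOpen 𝒜 (xs s) (xs_mem s) hs.card_pos

/-- Homogeneous fractions as sections over a chart intersection. -/
noncomputable def secHom (s : Finset (Ix.{u} n)) :
    Away 𝒜 (xs s) →+* Γ(Proj 𝒜, chartMeet R s) :=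
  ((Proj 𝒜).presheaf.map (eqToHom (chartMeet_eq (R := R) s)).op).hom.comp (Proj.awayToSection 𝒜 (xs s)).hom

variable (R) in
/-- Degree zero Laurent polynomials as sections over a chart intersection. -/
noncomputable def theta (s : Finset (Ix.{u} n)) :
    reg R s →+* Γ(Proj 𝒜, chartMeet R s) :=
  (secHom s).comp (RingEquiv.ofBijective (psiR R s) (psiR_bijective s)).symm.toRingHom

lemma theta_psiR (s : Finset (Ix.{u} n)) (z : Away 𝒜 (xs s)) :
    theta R s (psiR R s z) = secHom s z := by
  rw [theta, RingHom.comp_apply]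
  congr 1
  exact (RingEquiv.ofBijective (psiR R s) (psiR_bijective s)).symm_apply_apply z

theorem theta_bijective (s : Finset (Ix.{u} n)) (hs : s.Nonempty) :
    Function.Bijective (theta R s) := by
  have h1 : Function.Bijective (Proj.awayToSection 𝒜 (xs s : MvPolynomial (Fin (n + 1)) R)) := by
    rw [← Proj.basicOpenIsoAway_hom 𝒜 (xs s) (xs_mem s) hs.card_pos]
    exact ConcreteCategory.bijective_of_isIso _
  exact ((ConcreteCategory.bijective_of_isIso
    ((Proj 𝒜).presheaf.map (eqToHom (chartMeet_eq (R := R) s)).op)).comp h1).comp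
    (RingEquiv.ofBijective (psiR R s) (psiR_bijective s)).symm.bijective

theorem theta_res {s t : Finset (Ix.{u} n)} (h : s ⊆ t) (hle : chartMeet R t ≤ chartMeet R s)
    (f : reg R s) :
    (Proj 𝒜).presheaf.map (homOfLE hle).op (theta R s f) = theta R t (incl h f) := by
  obtain ⟨z, rfl⟩ := (psiR_bijective s).2 f
  have e : incl h (psiR R s z) = psiR R t (awayMap 𝒜 (xs_mem (t \ s)) (xs_mul h) z) :=
    Subtype.ext (psi_awayMap h z).symm
  rw [e, theta_psiR, theta_psiR]
  change ((Proj 𝒜).presheaf.map (homOfLE hle).op).hom (((Proj 𝒜).presheaf.map _).hom _) =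
    ((Proj 𝒜).presheaf.map _).hom _
  have h2 := ConcreteCategory.congr_hom
    (Proj.awayMap_awayToSection 𝒜 (f := xs s) (g_deg := xs_mem (t \ s)) (hx := xs_mul h)) z
  simp only [CommRingCat.hom_comp, CommRingCat.hom_ofHom, RingHom.comp_apply] at h2
  rw [h2]
  exact (map_map_eq _ _ (homOfLE ((chartMeet_eq (R := R) t).le.trans
    (Proj.basicOpen_mono 𝒜 _ _ ⟨_, xs_mul h⟩))).op _).trans (map_map_eq _ _ _ _).symm

theorem toGlobal_awayToSection (r : R) (x : MvPolynomial (Fin (n + 1)) R) {d : ℕ} (hx : x ∈ 𝒜 d)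
    (hle : Proj.basicOpen 𝒜 x ≤ ⊤) :
    (Proj 𝒜).presheaf.map (homOfLE hle).op
        (Coh.toGlobal (tS n R) r) =
      Proj.awayToSection 𝒜 x (fromZeroRingHom 𝒜 _ (algebraMap R (𝒜 0) r)) := by
  have h0 : Coh.toGlobal (tS n R) r =
      (Proj 𝒜).presheaf.map (eqToHom (Proj.basicOpen_one 𝒜).symm).op
        (Proj.awayToSection 𝒜 1 (fromZeroRingHom 𝒜 _ (algebraMap R (𝒜 0) r))) := by
    let U : (Proj 𝒜).Opens := Proj.basicOpen 𝒜 1
    have hU : U = ⊤ := Proj.basicOpen_one 𝒜
    let φ : CommRingCat.of R ⟶ Γ(Proj 𝒜, ⊤) :=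
      CommRingCat.ofHom (algebraMap R (𝒜 0)) ≫ CommRingCat.ofHom (fromZeroRingHom 𝒜 _) ≫
          Proj.awayToSection 𝒜 1 ≫ (Proj 𝒜).presheaf.map (eqToHom hU.symm).op
    have hspec : tS n R = (Proj 𝒜).toSpecΓ ≫ Spec.map φ := by
      have h1 : U.toSpecΓ = U.ι ≫ (Proj 𝒜).toSpecΓ ≫
          Spec.map ((Proj 𝒜).presheaf.map (eqToHom hU.symm).op) := by
        rw [← Scheme.Opens.toSpecΓ_SpecMap_presheaf_map_top_assoc, ← Spec.map_comp, ← Functor.map_comp,
          show (eqToHom hU.symm).op ≫ (homOfLE (le_top (a := U))).op = 𝟙 _ from Subsingleton.elim _ _,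
          CategoryTheory.Functor.map_id, Spec.map_id, Category.comp_id]
      rw [tS, Proj.toSpecZero, Proj.basicOpenToSpec, h1]
      simp only [Category.assoc, φ, Spec.map_comp]
      rw [show ((Proj 𝒜).topIso.inv ≫ ((Proj 𝒜).isoOfEq (Proj.basicOpen_one 𝒜)).inv ≫ U.ι ≫ _) = _ from
        (congrArg ((Proj 𝒜).topIso.inv ≫ ·) ((Proj 𝒜).isoOfEq_inv_ι_assoc (Proj.basicOpen_one 𝒜) _)).trans
          (Iso.inv_hom_id_assoc (Proj 𝒜).topIso _)]
    have e : (Scheme.ΓSpecIso (CommRingCat.of R)).inv ≫ (tS n R).appTop = φ := by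
      rw [hspec, Scheme.Hom.comp_appTop, Scheme.toSpecΓ_appTop, Scheme.ΓSpecIso_naturality,
        Iso.inv_hom_id_assoc]
    have e' := ConcreteCategory.congr_hom e r
    simp only [φ, ConcreteCategory.comp_apply, CommRingCat.hom_ofHom] at e'
    exact (RingHom.comp_apply _ _ _).trans e'
  have h := ConcreteCategory.congr_hom
    (Proj.awayMap_awayToSection 𝒜 (f := (1 : MvPolynomial (Fin (n + 1)) R)) (g_deg := hx) (hx := (one_mul x).symm))
    (fromZeroRingHom 𝒜 _ (algebraMap R (𝒜 0) r))
  simp only [CommRingCat.hom_comp, CommRingCat.hom_ofHom, RingHom.comp_apply, awayMap_fromZeroRingHom] at h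
  rw [h0, h]
  exact map_map_eq _ _ _ _

theorem theta_algebraMap (s : Finset (Ix.{u} n)) (r : R) :
    (Proj 𝒜).presheaf.map (homOfLE (le_top (a := chartMeet R s))).op
        (Coh.toGlobal (tS n R) r) = theta R s (algebraMap R _ r) := by
  have e : algebraMap R (reg R s) r = psiR R s (fromZeroRingHom 𝒜 _ (algebraMap R (𝒜 0) r)) :=
    Subtype.ext (psi_algebraMap s r).symm
  rw [e, theta_psiR, secHom, RingHom.comp_apply,
    ← toGlobal_awayToSection r (xs s) (xs_mem s) le_top]
  exact (map_map_eq _ _ _ _).symm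

/-- The monomial `xᵢ^{|s|}/x_s`. -/
noncomputable def locElem (s : Finset (Ix.{u} n)) (i : Ix.{u} n) : Away 𝒜 (xs (R := R) s) :=
  Away.isLocalizationElem (xs_mem s) (MvPolynomial.isHomogeneous_X R i.down : MvPolynomial.X i.down ∈ 𝒜 1)

theorem basicOpen_secHom_locElem (s : Finset (Ix.{u} n)) (hs : s.Nonempty) (i : Ix.{u} n) :
    (Proj 𝒜).basicOpen (secHom s (locElem s i)) = chartMeet R (insert i s) := by
  classical
  have e : chartMeet R (insert i s) = chartU R i ⊓ chartMeet R s := by
    rw [chartMeet, Finset.iInf_insert]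
  rw [e, secHom, RingHom.comp_apply]
  change (Proj 𝒜).basicOpen (((Proj 𝒜).presheaf.map _).hom _) = _
  rw [Scheme.basicOpen_res]
  refine Opens.ext (Set.ext fun x => ?_)
  simp only [Opens.coe_inf, Set.mem_inter_iff, SetLike.mem_coe]
  constructor
  · rintro ⟨hxs, hx⟩
    have hxs' : x ∈ Proj.basicOpen 𝒜 (xs (R := R) s) := by rwa [← chartMeet_eq]
    rw [Scheme.mem_basicOpen _ _ _ hxs', isUnit_germ_awayToSection] at hx
    exact ⟨hx, hxs⟩
  · rintro ⟨hxi, hxs⟩
    have hxs' : x ∈ Proj.basicOpen 𝒜 (xs (R := R) s) := by rwa [← chartMeet_eq]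
    refine ⟨hxs, ?_⟩
    rw [Scheme.mem_basicOpen _ _ _ hxs', isUnit_germ_awayToSection]
    exact hxi
where
  isUnit_germ_awayToSection {x} (hxs' : x ∈ Proj.basicOpen 𝒜 (xs (R := R) s)) :
      IsUnit ((Proj 𝒜).presheaf.germ _ x hxs' (Proj.awayToSection 𝒜 (xs s) (locElem s i))) ↔
        x ∈ chartU R i := by
    have h := ConcreteCategory.congr_hom
      (ProjectiveSpectrum.Proj.awayToSection_germ 𝒜 (xs (R := R) s) x hxs') (locElem s i)
    simp only [CommRingCat.hom_comp, RingHom.comp_apply] at h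
    rw [show (Proj 𝒜).presheaf.germ _ x hxs' (Proj.awayToSection 𝒜 (xs s) (locElem s i)) = _ from h]
    change IsUnit ((Proj.stalkIso' 𝒜 x).symm _) ↔ _
    rw [MulEquiv.isUnit_map, ← isUnit_iff_isUnit_val]
    simp only [locElem, Away.isLocalizationElem, CommRingCat.hom_ofHom, HomogeneousLocalization.mapId]
    erw [HomogeneousLocalization.map_mk]
    rw [val_mk, Localization.mk_eq_mk', IsLocalization.AtPrime.isUnit_mk'_iff]
    change (MvPolynomial.X i.down : MvPolynomial (Fin (n + 1)) R) ^ s.card ∉ x.asHomogeneousIdeal.toIdeal ↔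
      MvPolynomial.X i.down ∉ x.asHomogeneousIdeal.toIdeal
    rw [x.isPrime.pow_mem_iff_mem _ hs.card_pos]

end Groth.Agent.ProjCoh
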