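import Groth.Agent.ProjCoh.Finite
import Groth.Agent.ProjCoh.Chart
import Groth.Agent.CechCmp.Scheme
import Groth.Agent.QCohLib.FiniteType

/-!
# Quasi-coherent modules on projective space as systems; cohomology of the structure sheaf
-/

universe u

open CategoryTheory AlgebraicGeometry TopologicalSpace Opposite
open scoped Groth.Agent.CohVanish

namespace Groth.Agent.ProjCoh

open Groth.Agent.CechCmp Groth.Agent.CohVanish

variable {n : ℕ} {R : Type u} [CommRing R]

local notation "𝒜" => CohB1.polyGrading n R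

/-- A module with the action of `R`. -/
noncomputable abbrev rsh (M : (Proj 𝒜).Modules) : RSh R (sp (Proj 𝒜)) :=
  modRSh (Coh.toGlobal (tS n R)) M

/-- The sections of a module over the chart intersections. -/
noncomputable abbrev secSys (M : (Proj 𝒜).Modules) : Sys R (Ix.{u} n) :=
  (rsh M).sys (chartU R)

/-- Degree zero Laurent polynomials act on sections. -/
@[instance_reducible]
noncomputable def secMod (M : (Proj 𝒜).Modules) (s : Finset (Ix.{u} n)) :
    Module (reg R s) ((secSys M).obj s) :=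
  Module.compHom Γ(M, chartMeet R s) (theta R s)

/-- An element of the system, as a section. -/
abbrev asSec (M : (Proj 𝒜).Modules) (s : Finset (Ix.{u} n)) (x : (secSys M).obj s) :
    Γ(M, chartMeet R s) := x

lemma secMod_smul (M : (Proj 𝒜).Modules) (s : Finset (Ix.{u} n)) (a : reg R s)
    (x : (secSys M).obj s) :
    letI := secMod M s
    a • x = theta R s a • asSec M s x := rfl

lemma secSys_smul_base (M : (Proj 𝒜).Modules) (s : Finset (Ix.{u} n)) (r : R)
    (x : (secSys M).obj s) : r • x = theta R s (algebraMap R _ r) • asSec M s x :=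
  (show r • x = ((Proj 𝒜).presheaf.map (homOfLE (le_top (a := chartMeet R s))).op
        (Coh.toGlobal (tS n R) r)) • asSec M s x from rfl).trans
    (congrArg (fun g => g • asSec M s x) (theta_algebraMap s r))

lemma theta_tower (M : (Proj 𝒜).Modules) (s : Finset (Ix.{u} n)) (r : R) (a : reg R s)
    (x : Γ(M, chartMeet R s)) :
    theta R s (r • a) • x = theta R s (algebraMap R _ r) • theta R s a • x := by
  rw [Algebra.smul_def, map_mul, mul_smul]

lemma secTower (M : (Proj 𝒜).Modules) (s : Finset (Ix.{u} n)) :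
    @IsScalarTower R (reg R s) ((secSys M).obj s) inferInstance (secMod M s).toSMul inferInstance :=
  @IsScalarTower.mk R (reg R s) ((secSys M).obj s) inferInstance (secMod M s).toSMul inferInstance
    fun r a x => (theta_tower M s r a x).trans (secSys_smul_base M s r _).symm

lemma secRes_smul (M : (Proj 𝒜).Modules) {s t : Finset (Ix.{u} n)} (h : s ⊆ t) (a : reg R s)
    (x : Γ(M, chartMeet R s)) :
    M.presheaf.map (homOfLE (RSh.meetOpen_anti (chartU R) h)).op (theta R s a • x) =
      (theta R t (incl h a) • M.presheaf.map (homOfLE (RSh.meetOpen_anti (chartU R) h)).op x :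
        Γ(M, chartMeet R t)) := by
  rw [Scheme.Modules.map_smul, theta_res h]

/-- The exponent comparing `(xᵢ/xⱼ)^{|s|}` with `xᵢ^{|s|}/x_s`. -/
lemma es_sub_mem {s : Finset (Ix.{u} n)} {j : Ix.{u} n} (hj : j ∈ s) (k : ℕ) :
    ((k : ℤ) • es s - ((s.card * k : ℕ) : ℤ) • ev j) ∈ cone 0 s := by
  refine ⟨?_, fun i hi => ?_⟩
  · simp only [Pi.sub_apply, Pi.smul_apply, smul_eq_mul, Finset.sum_sub_distrib, ← Finset.mul_sum,
      sum_ev, es, Finset.sum_ite_mem, Finset.univ_inter, Finset.sum_const, nsmul_eq_mul, mul_one,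
      Nat.cast_mul]
    ring
  · by_contra h
    have : i ≠ j := fun e => h (e ▸ hj)
    simp [es, h, ev, this] at hi

lemma psiR_locElem_pow {s : Finset (Ix.{u} n)} {j : Ix.{u} n} (hj : j ∈ s) (i : Ix.{u} n) (k : ℕ) :
    (⟨AddMonoidAlgebra.single ((k : ℤ) • es s - ((s.card * k : ℕ) : ℤ) • ev j) 1,
        single_mem_supp (es_sub_mem hj k) 1⟩ : reg R s) * psiR R s (locElem s i) ^ k =
      rat hj (s.card * k) i := by
  refine Subtype.ext ?_
  rw [Subalgebra.coe_mul, SubmonoidClass.coe_pow, coe_rat]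
  change AddMonoidAlgebra.single _ 1 * psi R s (locElem s i) ^ k = _
  simp only [locElem, HomogeneousLocalization.Away.isLocalizationElem]
  rw [psi_mk]
  simp only [map_pow, toL, MvPolynomial.coe_eval₂Hom, MvPolynomial.eval₂_X, lv, Nat.cast_one, one_smul,
    AddMonoidAlgebra.single_pow, one_pow, AddMonoidAlgebra.single_mul_single, one_mul]
  congr 1
  push_cast
  module

lemma theta_psiR_locElem (s : Finset (Ix.{u} n)) (i : Ix.{u} n) :
    theta R s (psiR R s (locElem s i)) = secHom s (locElem s i) := theta_psiR s _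

lemma exists_rat_smul_eq_res (M : (Proj 𝒜).Modules) [M.IsQuasicoherent] {s : Finset (Ix.{u} n)}
    {j : Ix.{u} n} (hj : j ∈ s) (i : Ix.{u} n) (y : Γ(M, chartMeet R (insert i s))) :
    ∃ (k : ℕ) (x : Γ(M, chartMeet R s)),
      theta R (insert i s) (rat (Finset.mem_insert_of_mem hj) k i) • y =
        M.presheaf.map (homOfLE (RSh.meetOpen_anti (chartU R) (Finset.subset_insert i s))).op x := by
  obtain ⟨k, x, hx⟩ := QCohLib.exists_res_eq_pow_smul (isAffineOpen_chartMeet s ⟨j, hj⟩)
    (secHom s (locElem s i)) (chartMeet R (insert i s))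
    (RSh.meetOpen_anti (chartU R) (Finset.subset_insert i s))
    (basicOpen_secHom_locElem s ⟨j, hj⟩ i).symm y
  let w : reg R s := ⟨AddMonoidAlgebra.single ((k : ℤ) • es s - ((s.card * k : ℕ) : ℤ) • ev j) 1,
    single_mem_supp (es_sub_mem hj k) 1⟩
  refine ⟨s.card * k, theta R s w • x, ?_⟩
  rw [secRes_smul M (Finset.subset_insert i s), hx, ← theta_psiR_locElem,
    theta_res (Finset.subset_insert i s), ← map_pow, smul_smul, ← map_mul, ← map_pow, ← map_mul,
    psiR_locElem_pow hj i k, incl_rat]

lemma exists_rat_smul_eq_zero (M : (Proj 𝒜).Modules) [M.IsQuasicoherent] {s : Finset (Ix.{u} n)}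
    {j : Ix.{u} n} (hj : j ∈ s) (i : Ix.{u} n) (x : Γ(M, chartMeet R s))
    (hx : M.presheaf.map (homOfLE (RSh.meetOpen_anti (chartU R) (Finset.subset_insert i s))).op x = 0) :
    ∃ k : ℕ, theta R s (rat hj k i) • x = 0 := by
  obtain ⟨k, hk⟩ := QCohLib.exists_pow_smul_eq_zero (isAffineOpen_chartMeet s ⟨j, hj⟩)
    (secHom s (locElem s i)) (chartMeet R (insert i s))
    (RSh.meetOpen_anti (chartU R) (Finset.subset_insert i s))
    (basicOpen_secHom_locElem s ⟨j, hj⟩ i).symm x hx
  refine ⟨s.card * k, ?_⟩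
  rw [← psiR_locElem_pow hj i k, map_mul, map_pow, mul_smul, theta_psiR_locElem, hk, smul_zero]

/-- The system of a quasi-coherent module. -/
noncomputable def ofModule (M : (Proj 𝒜).Modules) [M.IsQuasicoherent] : LSys R (Ix.{u} n) where
  toSys := secSys M
  mod := secMod M
  tower := secTower M
  res_smul h a x := secRes_smul M h a x
  loc_surj hj i y := exists_rat_smul_eq_res M hj i y
  loc_ker hj i x hx := exists_rat_smul_eq_zero M hj i x hx

theorem ofModule_fg (M : (Proj 𝒜).Modules) [M.IsQuasicoherent] (hM : M.IsFiniteType) :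
    (ofModule M).FG := fun j => by
  haveI := QCohLib.finite_sections M hM
    (isAffineOpen_chartMeet ({j} : Finset (Ix.{u} n)) (Finset.singleton_nonempty j))
  obtain ⟨G, hG⟩ := (inferInstance : Module.Finite Γ(Proj 𝒜, chartMeet R {j}) Γ(M, chartMeet R {j})).fg_top
  letI := secMod M ({j} : Finset (Ix.{u} n))
  refine ⟨⟨G, ?_⟩⟩
  rw [Submodule.eq_top_iff']
  intro x
  have hx : asSec M {j} x ∈ Submodule.span Γ(Proj 𝒜, chartMeet R {j}) (G : Set Γ(M, chartMeet R {j})) := by
    rw [hG]; exact Submodule.mem_top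
  let S : Submodule (reg R ({j} : Finset (Ix.{u} n))) ((secSys M).obj {j}) :=
    Submodule.span _ (G : Set Γ(M, chartMeet R {j}))
  refine Submodule.span_induction (p := fun (z : Γ(M, chartMeet R {j})) _ => (show (secSys M).obj {j} from z) ∈ S) ?_ ?_ ?_ ?_ hx
  · exact fun z hz => Submodule.subset_span hz
  · exact S.zero_mem
  · exact fun a b _ _ ha hb => S.add_mem ha hb
  · intro a z _ hz
    obtain ⟨b, rfl⟩ := (theta_bijective ({j} : Finset (Ix.{u} n)) (Finset.singleton_nonempty j)).2 a
    exact S.smul_mem b hz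

/-- Finiteness of the cohomology of coherent modules on projective space. -/
theorem finite_HH [IsNoetherianRing R] (M : (CohB1.ProjSpace n R).Modules) (hM : Coh.IsCoh M) (i : ℕ) :
    Module.Finite R (Coh.HH (CohB1.ProjSpace n R) M i) := by
  haveI : M.IsQuasicoherent := hM.1
  let M' : (Proj 𝒜).Modules := M
  haveI : M'.IsQuasicoherent := hM.1
  have h0 := (ofModule M').finite (ofModule_fg M' hM.2) i
  obtain ⟨e⟩ := nonempty_HH_linearEquiv (A := R) (X := CohB1.ProjSpace n R) M (chartU R)
    iSup_chartU (fun s hs => isAffineOpen_chartMeet s hs) i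
  exact @Module.Finite.equiv _ _ _ _ _ _ _ _ h0 e.symm

/-- A degree zero Laurent polynomial as a section of the structure module. -/
noncomputable def oVal (s : Finset (Ix.{u} n)) (f : supp R (cone (ι := Ix.{u} n) 0 s)) :
    Γ(Coh.structureModule (Proj 𝒜), chartMeet R s) :=
  theta R s (⟨f.1, f.2⟩ : reg R s)

lemma oVal_smul (s : Finset (Ix.{u} n)) (r : R) (f : supp R (cone (ι := Ix.{u} n) 0 s)) :
    oVal s (r • f) = theta R s (algebraMap R _ r) • oVal s f :=
  (congrArg (theta R s) (Algebra.smul_def r (⟨f.1, f.2⟩ : reg R s))).trans (map_mul (theta R s) _ _)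

lemma oVal_add (s : Finset (Ix.{u} n)) (f g : supp R (cone (ι := Ix.{u} n) 0 s)) :
    oVal s (f + g) = oVal s f + oVal s g :=
  (congrArg (theta R s) (show (⟨(f + g).1, (f + g).2⟩ : reg R s) = ⟨f.1, f.2⟩ + ⟨g.1, g.2⟩ from
    Subtype.ext rfl)).trans (map_add (theta R s) _ _)

/-- Twist zero maps to the sections of the structure sheaf. -/
noncomputable def oHom :
    Sys.Hom (twist R (Ix.{u} n) 0) (secSys (n := n) (R := R) (Coh.structureModule (Proj 𝒜))) where
  app s :=
    { toFun := oVal s
      map_add' := oVal_add s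
      map_smul' := fun r f => (oVal_smul s r f).trans (secSys_smul_base (Coh.structureModule (Proj 𝒜)) s r (oVal s f)).symm }
  nat h f _ := (theta_res h (RSh.meetOpen_anti (chartU R) h) ⟨f.1, f.2⟩).symm

theorem oHom_bijective (s : Finset (Ix.{u} n)) (hs : s.Nonempty) :
    Function.Bijective ((oHom (R := R)).app s) := by
  refine ⟨fun f g h => ?_, fun x => ?_⟩
  · exact Subtype.ext (congrArg Subtype.val ((theta_bijective s hs).1 h) :)
  · obtain ⟨⟨f, hf⟩, rfl⟩ := (theta_bijective s hs).2 x
    exact ⟨⟨f, hf⟩, rfl⟩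

end Groth.Agent.ProjCoh
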