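import Groth.Agent.ProjCoh.Laurent
import Mathlib.RingTheory.MvPolynomial.Basic
import Mathlib.Algebra.MvPolynomial.Eval

/-!
# Coherent systems on projective space and finiteness of their Čech cohomology

A system carries, on every set of indices, a module over the corresponding ring of degree zero
Laurent polynomials, and passing from `s` to `insert i s` inverts `xᵢ/xⱼ` for `j ∈ s`.
-/

universe u

namespace Groth.Agent.ProjCoh

open Finset
open Groth.Agent.CechCmp

variable {R : Type u} [CommRing R] {ι : Type u} [Fintype ι] [DecidableEq ι]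

variable (R) in
/-- Degree zero Laurent polynomials with denominators in `s`. -/
noncomputable def reg (s : Finset ι) : Subalgebra R (Laurent R ι) :=
  (supp R (cone (ι := ι) 0 s)).toSubalgebra
    (by rw [AddMonoidAlgebra.one_def]; exact single_mem_supp (zero_mem_cone s) 1)
    (fun _ _ hf hg => mul_mem_supp (fun a ha b hb => by simpa using add_mem_cone ha hb) hf hg)

lemma mem_reg {s : Finset ι} {f : Laurent R ι} : f ∈ reg R s ↔ f ∈ supp R (cone 0 s) := Iff.rfl

/-- The inclusion of rings along an inclusion of sets. -/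
noncomputable def incl {s t : Finset ι} (h : s ⊆ t) : reg R s →ₐ[R] reg R t :=
  Subalgebra.inclusion (fun _ hf => supp_mono (cone_mono 0 h) hf)

@[simp] lemma coe_incl {s t : Finset ι} (h : s ⊆ t) (f : reg R s) :
    (incl h f : Laurent R ι) = f := rfl

/-- The exponent of a single variable. -/
def ev (i : ι) : Expo ι := Pi.single i 1

lemma sum_ev (i : ι) : ∑ k, ev i k = 1 := by simp [ev]

lemma sum_smul_ev_sub (k : ℤ) (i j : ι) : ∑ l, (k • ev i - k • ev j) l = 0 := by
  simp only [Pi.sub_apply, Pi.smul_apply, smul_eq_mul, Finset.sum_sub_distrib, ← Finset.mul_sum,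
    sum_ev, sub_self]

lemma smul_ev_sub_mem {s : Finset ι} {j : ι} (hj : j ∈ s) (k : ℕ) (i : ι) :
    ((k : ℤ) • ev i - (k : ℤ) • ev j) ∈ cone 0 s := by
  refine ⟨sum_smul_ev_sub _ i j, fun l hl => ?_⟩
  by_contra h
  have : l ≠ j := fun e => h (e ▸ hj)
  simp only [Pi.sub_apply, Pi.smul_apply, smul_eq_mul, ev, Pi.single_apply, if_neg this] at hl
  split_ifs at hl <;> omega

/-- `(xᵢ/xⱼ)ᵏ` for `j ∈ s`. -/
noncomputable def rat {s : Finset ι} {j : ι} (hj : j ∈ s) (k : ℕ) (i : ι) : reg R s :=
  ⟨AddMonoidAlgebra.single ((k : ℤ) • ev i - (k : ℤ) • ev j) 1,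
    single_mem_supp (smul_ev_sub_mem hj k i) 1⟩

lemma coe_rat {s : Finset ι} {j : ι} (hj : j ∈ s) (k : ℕ) (i : ι) :
    (rat (R := R) hj k i : Laurent R ι) =
      AddMonoidAlgebra.single ((k : ℤ) • ev i - (k : ℤ) • ev j) 1 := rfl

lemma incl_rat {s t : Finset ι} (h : s ⊆ t) {j : ι} (hj : j ∈ s) (k : ℕ) (i : ι) :
    incl h (rat (R := R) hj k i) = rat (h hj) k i := rfl

lemma rat_add {s : Finset ι} {j : ι} (hj : j ∈ s) (k l : ℕ) (i : ι) :
    rat (R := R) hj k i * rat hj l i = rat hj (k + l) i := by
  refine Subtype.ext ?_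
  simp only [Subalgebra.coe_mul, coe_rat, AddMonoidAlgebra.single_mul_single, one_mul]
  congr 1
  push_cast
  module

lemma rat_self {s : Finset ι} {j : ι} (hj : j ∈ s) (k : ℕ) : rat (R := R) hj k j = 1 := by
  refine Subtype.ext ?_
  simp [coe_rat, AddMonoidAlgebra.one_def]

lemma rat_zero {s : Finset ι} {j : ι} (hj : j ∈ s) (i : ι) : rat (R := R) hj 0 i = 1 := by
  refine Subtype.ext ?_
  simp [coe_rat, AddMonoidAlgebra.one_def]

lemma rat_mul_rat {s : Finset ι} {j l : ι} (hj : j ∈ s) (hl : l ∈ s) (k : ℕ) (i : ι) :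
    rat (R := R) hj k l * rat hl k i = rat hj k i := by
  refine Subtype.ext ?_
  simp only [Subalgebra.coe_mul, coe_rat, AddMonoidAlgebra.single_mul_single, one_mul]
  congr 1
  abel

lemma rat_inv {s : Finset ι} {i j : ι} (hi : i ∈ s) (hj : j ∈ s) (k : ℕ) :
    rat (R := R) hi k j * rat hj k i = 1 := by
  rw [rat_mul_rat hi hj k i, rat_self]

variable (R ι) in
/-- A system of modules over the rings `reg R s`, with the localisation property. -/
structure LSys where
  /-- The underlying system. -/
  toSys : Sys R ι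
  /-- The module structures. -/
  mod : ∀ s, Module (reg R s) (toSys.obj s)
  tower : ∀ s, @IsScalarTower R (reg R s) (toSys.obj s) inferInstance (mod s).toSMul inferInstance
  res_smul : ∀ {s t : Finset ι} (h : s ⊆ t) (a : reg R s) (x : toSys.obj s),
    toSys.res h (@HSMul.hSMul _ _ _ (@instHSMul _ _ (mod s).toSMul) a x) =
      @HSMul.hSMul _ _ _ (@instHSMul _ _ (mod t).toSMul) (incl h a) (toSys.res h x)
  loc_surj : ∀ {s : Finset ι} {j : ι} (hj : j ∈ s) (i : ι) (y : toSys.obj (insert i s)),
    ∃ (k : ℕ) (x : toSys.obj s),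
      @HSMul.hSMul _ _ _ (@instHSMul _ _ (mod (insert i s)).toSMul) (rat (mem_insert_of_mem hj) k i) y =
        toSys.res (subset_insert i s) x
  loc_ker : ∀ {s : Finset ι} {j : ι} (hj : j ∈ s) (i : ι) (x : toSys.obj s),
    toSys.res (subset_insert i s) x = 0 →
      ∃ k : ℕ, @HSMul.hSMul _ _ _ (@instHSMul _ _ (mod s).toSMul) (rat hj k i) x = 0

attribute [instance] LSys.mod LSys.tower

namespace LSys

variable (N : LSys R ι)

lemma loc_surj' {s : Finset ι} {j : ι} (hj : j ∈ s) (i : ι) {t : Finset ι} (ht : t = insert i s)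
    (y : N.toSys.obj t) : ∃ (k : ℕ) (x : N.toSys.obj s),
      rat (R := R) (show j ∈ t from ht ▸ mem_insert_of_mem hj) k i • y =
        N.toSys.res (show s ⊆ t from ht ▸ subset_insert i s) x := by
  subst ht
  exact N.loc_surj hj i y

lemma loc_ker' {s : Finset ι} {j : ι} (hj : j ∈ s) (i : ι) {t : Finset ι} (ht : t = insert i s)
    (h : s ⊆ t) (x : N.toSys.obj s) (hx : N.toSys.res h x = 0) :
    ∃ k : ℕ, rat (R := R) hj k i • x = 0 := by
  subst ht
  exact N.loc_ker hj i x hx

/-- Finite generation on the singletons. -/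
def FG : Prop := ∀ j : ι, Module.Finite (reg R ({j} : Finset ι)) (N.toSys.obj {j})

/-- Every module is generated by the image of a singleton. -/
lemma span_res_eq_top {j : ι} : ∀ {s : Finset ι} (hj : {j} ⊆ s),
    Submodule.span (reg R s) (Set.range (N.toSys.res hj)) = ⊤ := by
  intro s
  induction s using Finset.strongInduction with
  | _ s ih =>
  intro hj
  rw [Submodule.eq_top_iff']
  intro y
  by_cases hs : s = {j}
  · subst hs
    exact Submodule.subset_span ⟨y, N.toSys.res_refl _ y⟩
  obtain ⟨i, his, hij⟩ : ∃ i ∈ s, i ≠ j := by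
    by_contra h
    push Not at h
    exact hs (Finset.eq_singleton_iff_unique_mem.2 ⟨hj (mem_singleton_self j), h⟩)
  have hjs' : {j} ⊆ s.erase i :=
    singleton_subset_iff.2 (mem_erase.2 ⟨Ne.symm hij, hj (mem_singleton_self j)⟩)
  obtain ⟨k, x, hx⟩ := N.loc_surj' (singleton_subset_iff.1 hjs') i (t := s)
    (Finset.insert_erase his).symm y
  have hx' : x ∈ Submodule.span (reg R (s.erase i)) (Set.range (N.toSys.res hjs')) := by
    rw [ih _ (Finset.erase_ssubset his) hjs']; exact Submodule.mem_top
  have key : N.toSys.res (erase_subset i s) x ∈ Submodule.span (reg R s) (Set.range (N.toSys.res hj)) := by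
    refine Submodule.span_induction (p := fun z _ => N.toSys.res (erase_subset i s) z ∈
        Submodule.span (reg R s) (Set.range (N.toSys.res hj))) ?_ ?_ ?_ ?_ hx'
    · rintro _ ⟨z, rfl⟩
      rw [N.toSys.res_res]
      exact Submodule.subset_span ⟨z, rfl⟩
    · rw [map_zero]; exact zero_mem _
    · intro a b _ _ ha hb; rw [map_add]; exact add_mem ha hb
    · intro a z _ hz; rw [N.res_smul]; exact Submodule.smul_mem _ _ hz
  have e : y = rat (R := R) his k j • N.toSys.res (erase_subset i s) x := by
    rw [← hx, smul_smul, rat_inv, one_smul]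
  rw [e]
  exact Submodule.smul_mem _ _ key

/-- A twisted section: a section of the `k`-th twist, given on each chart. -/
structure TSec (k : ℕ) where
  /-- The values on the charts. -/
  val : ∀ i : ι, N.toSys.obj {i}
  compat : ∀ {s : Finset ι} {i l : ι} (hi : {i} ⊆ s) (hl : {l} ⊆ s),
    rat (R := R) (singleton_subset_iff.1 hl) k i • N.toSys.res hi (val i) = N.toSys.res hl (val l)

/-- Raising the twist of a section. -/
lemma compat_of_pair {k : ℕ} (v : ∀ i : ι, N.toSys.obj {i})
    (h : ∀ i l : ι, rat (R := R) (mem_insert_of_mem (mem_singleton_self l) : l ∈ insert i ({l} : Finset ι)) k i •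
      N.toSys.res (singleton_subset_iff.2 (mem_insert_self i {l})) (v i) =
        N.toSys.res (subset_insert i {l}) (v l))
    {s : Finset ι} {i l : ι} (hi : {i} ⊆ s) (hl : {l} ⊆ s) :
    rat (R := R) (singleton_subset_iff.1 hl) k i • N.toSys.res hi (v i) = N.toSys.res hl (v l) := by
  have hs : insert i ({l} : Finset ι) ⊆ s :=
    insert_subset (singleton_subset_iff.1 hi) hl
  have := congrArg (N.toSys.res hs) (h i l)
  rwa [N.res_smul, N.toSys.res_res, N.toSys.res_res, incl_rat] at this

/-- A section over a chart extends to a twisted section. -/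
theorem exists_tsec (j : ι) (s₀ : N.toSys.obj {j}) : ∃ k, ∃ m : N.TSec k, m.val j = s₀ := by
  have h1 : ∀ i : ι, ∃ k, ∃ x : N.toSys.obj {i},
      rat (R := R) (mem_insert_of_mem (mem_singleton_self i) : i ∈ insert j ({i} : Finset ι)) k j •
        N.toSys.res (singleton_subset_iff.2 (mem_insert_self j {i})) s₀ =
          N.toSys.res (subset_insert j {i}) x := fun i =>
    N.loc_surj (mem_singleton_self i) j _
  choose a xa hxa using h1
  let k₀ := univ.sup a
  let v : ∀ i : ι, N.toSys.obj {i} := fun i =>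
    if h : i = j then h ▸ s₀ else rat (R := R) (mem_singleton_self i) (k₀ - a i) j • xa i
  have hv : ∀ i, rat (R := R) (mem_insert_of_mem (mem_singleton_self i) : i ∈ insert j ({i} : Finset ι)) k₀ j •
      N.toSys.res (singleton_subset_iff.2 (mem_insert_self j {i})) s₀ =
        N.toSys.res (subset_insert j {i}) (v i) := by
    intro i
    by_cases h : i = j
    · subst h
      simp only [v, dif_pos, rat_self, one_smul]
    · simp only [v, dif_neg h]
      rw [N.res_smul, ← hxa, incl_rat, smul_smul, rat_add,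
        Nat.sub_add_cancel (Finset.le_sup (f := a) (mem_univ i))]
  -- the differences are killed by a power of `xⱼ/x_l`
  have h2 : ∀ p : ι × ι, ∃ b : ℕ,
      rat (R := R) (mem_insert_of_mem (mem_singleton_self p.2) : p.2 ∈ insert p.1 ({p.2} : Finset ι)) b j •
        (rat (R := R) (mem_insert_of_mem (mem_singleton_self p.2) : p.2 ∈ insert p.1 ({p.2} : Finset ι)) k₀ p.1 •
            N.toSys.res (singleton_subset_iff.2 (mem_insert_self p.1 {p.2})) (v p.1) -
          N.toSys.res (subset_insert p.1 {p.2}) (v p.2)) = 0 := by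
    rintro ⟨i, l⟩
    refine N.loc_ker (mem_insert_of_mem (mem_singleton_self l)) j _ ?_
    have hi : insert j ({i} : Finset ι) ⊆ insert j (insert i {l}) :=
      insert_subset_insert j (singleton_subset_iff.2 (mem_insert_self i {l}))
    have hl : insert j ({l} : Finset ι) ⊆ insert j (insert i {l}) :=
      insert_subset_insert j (subset_insert i {l})
    have ei := congrArg (N.toSys.res hi) (hv i)
    have el := congrArg (N.toSys.res hl) (hv l)
    rw [N.res_smul, N.toSys.res_res, N.toSys.res_res, incl_rat] at ei el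
    dsimp only
    rw [map_sub, N.res_smul, N.toSys.res_res, N.toSys.res_res, incl_rat, ← ei, ← el, smul_smul,
      rat_mul_rat, sub_self]
  choose b hb using h2
  let b₀ := univ.sup b
  refine ⟨b₀ + k₀, ⟨fun i => rat (R := R) (mem_singleton_self i) b₀ j • v i, ?_⟩, ?_⟩
  · intro s i l hi hl
    refine N.compat_of_pair (fun i => rat (R := R) (mem_singleton_self i) b₀ j • v i) (fun i l => ?_) hi hl
    have h := congrArg (fun z => rat (R := R) (mem_insert_of_mem (mem_singleton_self l) :
      l ∈ insert i ({l} : Finset ι)) (b₀ - b (i, l)) j • z) (hb (i, l))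
    have hle : b (i, l) ≤ b₀ := Finset.le_sup (f := b) (mem_univ (i, l))
    simp only [smul_sub, smul_smul, smul_zero, ← mul_assoc, rat_add, sub_eq_zero] at h
    rw [Nat.sub_add_cancel hle] at h
    rw [N.res_smul, N.res_smul, incl_rat, incl_rat, smul_smul, ← h, ← rat_add, mul_assoc,
      mul_comm (rat (R := R) _ k₀ i) (rat (R := R) _ b₀ j), ← mul_assoc, rat_mul_rat]
  · simp [v, rat_self]

end LSys

end Groth.Agent.ProjCoh
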