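import Groth.Agent.ProjCoh.ExtDual
import Groth.Agent.SSExist.ExtSheafHom
import Groth.Agent.DCohPerf.Coherent
import Groth.Agent.ModGroth.Tensor
import Groth.Agent.ModGroth.Basic

/-!
# Serre duality for finite locally free modules
-/

universe u

open CategoryTheory CategoryTheory.Limits AlgebraicGeometry
open scoped Groth.Agent.CohVanish

namespace Groth.Agent.ProjCoh

variable {n : ℕ} {k : Type u} [Field k]

local notation "𝒜" => CohB1.polyGrading n k

/-- The structure map of projective space, on `Proj`. -/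
noncomputable local instance overProj'' (n : ℕ) (k : Type u) [Field k] :
    (Proj (CohB1.polyGrading n k)).Over (Spec (CommRingCat.of k)) := ⟨CohB1.ProjSpace.toSpec n k⟩

/-- `H^i(F)^* = H^{n-i}(Hom(F, ω))`. -/
theorem nonempty_dual_HH_locFree (F : (Proj (CohB1.polyGrading n k)).Modules) (hF : FlatMod.IsFinLocFree F)
    [DCoh.HasSheafHom F] (i : ℕ) (hi : i ≤ n) :
    Nonempty (Module.Dual k (Coh.HH (Proj 𝒜) F i) ≃ₗ[k] Coh.HH (Proj 𝒜)
      ((DCoh.sheafHom F).obj (Twist.twist (CohB1.polyGrading n k) (-((n : ℤ) + 1)))) (n - i)) := by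
  have : IsGrothendieckAbelian.{u} (Proj (CohB1.polyGrading n k)).Modules :=
    ModGroth.sheaf_isGrothendieckAbelian (Proj (CohB1.polyGrading n k)).ringCatSheaf
  have : ModSite.HasSheafHom (O := (Proj (CohB1.polyGrading n k)).sheaf) F := ModGroth.hasSheafHom F
  obtain ⟨e₁⟩ := (ext_dual_HH (n := n) (k := k) F (DCohPerf.isCoh_finLocFree hF)).1 (n - i) (by omega)
  rw [show n - (n - i) = i by omega] at e₁
  obtain ⟨e₂⟩ := SSExist.nonempty_ext_linearEquiv_HH (A := k) F hF
    (Twist.twist (CohB1.polyGrading n k) (-((n : ℤ) + 1))) (n - i)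
  obtain ⟨e₃⟩ := SSExist.nonempty_HH_linearEquiv_of_iso (A := k)
    ((SSExist.homXIso F).app (Twist.twist (CohB1.polyGrading n k) (-((n : ℤ) + 1)))) (n - i)
  exact ⟨e₁.symm.trans (e₂.trans e₃)⟩

end Groth.Agent.ProjCoh
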