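import Groth.Agent.QCohLib.Basic

/-!
# Gluing morphisms of modules given on the members of a covering
-/

universe u

open CategoryTheory AlgebraicGeometry Opposite TopologicalSpace

namespace Groth.Agent.ProjCoh

open Groth.Agent.QCohLib

variable {X : Scheme.{u}} {M N : X.Modules} {κ : Type*} {U : κ → X.Opens}

/-- **Gluing morphisms**: natural linear maps on the opens below each member which agree on common opens. -/
theorem exists_hom_glue (hcov : ⨆ j, U j = ⊤)
    (f : ∀ (j : κ) (V : X.Opens), V ≤ U j → (Γ(M, V) →ₗ[Γ(X, V)] Γ(N, V)))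
    (hnat : ∀ (j : κ) (V W : X.Opens) (hV : V ≤ U j) (hWV : W ≤ V) (x : Γ(M, V)),
      f j W (hWV.trans hV) (M.presheaf.map (homOfLE hWV).op x) = N.presheaf.map (homOfLE hWV).op (f j V hV x))
    (hag : ∀ (i j : κ) (V : X.Opens) (hi : V ≤ U i) (hj : V ≤ U j), f i V hi = f j V hj) :
    ∃ φ : M ⟶ N, ∀ (j : κ) (V : X.Opens) (hV : V ≤ U j) (x : Γ(M, V)), φ.app V x = f j V hV x := by
  have hc : ∀ V : X.Opens, V ≤ iSup fun j => V ⊓ U j := fun V p hp => by
    obtain ⟨j, hj⟩ := Opens.mem_iSup.1 (show p ∈ ⨆ j, U j from hcov ▸ trivial)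
    exact Opens.mem_iSup.2 ⟨j, hp, hj⟩
  have hex : ∀ (V : X.Opens) (s : Γ(M, V)), ∃! y : Γ(N, V), ∀ j,
      N.presheaf.map (homOfLE (inf_le_left : V ⊓ U j ≤ V)).op y =
        f j (V ⊓ U j) inf_le_right (M.presheaf.map (homOfLE (inf_le_left : V ⊓ U j ≤ V)).op s) := by
    intro V s
    refine TopCat.Sheaf.existsUnique_gluing' ⟨N.presheaf, N.isSheaf⟩ (fun j => V ⊓ U j) V
      (fun j => homOfLE inf_le_left) (hc V) _ fun i j => ?_
    have hWi : (V ⊓ U i) ⊓ (V ⊓ U j) ≤ V ⊓ U i := inf_le_left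
    have hWj : (V ⊓ U i) ⊓ (V ⊓ U j) ≤ V ⊓ U j := inf_le_right
    refine ((hnat i _ _ inf_le_right hWi _).symm.trans ?_).trans (hnat j _ _ inf_le_right hWj _)
    rw [map_map, map_map, hag i j _ (hWi.trans inf_le_right) (hWj.trans inf_le_right)]
  choose y hy hu using hex
  have loc : ∀ (j : κ) (V : X.Opens) (hV : V ≤ U j) (x : Γ(M, V)), y V x = f j V hV x := fun j V hV x =>
    (hu V x (f j V hV x) fun i => by
      rw [← hnat j V _ hV inf_le_left, hag i j _ inf_le_right (inf_le_left.trans hV)]).symm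
  have hnaty : ∀ {V V' : X.Opens} (h : V' ≤ V) (s : Γ(M, V)),
      y V' (M.presheaf.map (homOfLE h).op s) = N.presheaf.map (homOfLE h).op (y V s) := fun {V V'} h s =>
    (hu V' _ _ fun j => by
      rw [map_map, map_map,
        show N.presheaf.map (homOfLE (inf_le_left.trans h : V' ⊓ U j ≤ V)).op (y V s) =
          N.presheaf.map (homOfLE (inf_le_inf_right _ h)).op
            (N.presheaf.map (homOfLE (inf_le_left : V ⊓ U j ≤ V)).op (y V s)) from (map_map N _ _ _).symm,
        hy V s j, ← hnat j _ _ inf_le_right (inf_le_inf_right _ h), map_map]).symm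
  have hadd : ∀ (V : X.Opens) (s t : Γ(M, V)), y V (s + t) = y V s + y V t := fun V s t =>
    (hu V (s + t) (y V s + y V t) fun j => by
      rw [map_add, hy V s j, hy V t j, map_add, map_add]).symm
  have hsmul : ∀ (V : X.Opens) (c : Γ(X, V)) (s : Γ(M, V)), y V (c • s) = c • y V s := fun V c s =>
    (hu V (c • s) (c • y V s) fun j => by
      rw [Scheme.Modules.map_smul, Scheme.Modules.map_smul, hy V s j, map_smul]).symm
  let app : ∀ V : (Opens X)ᵒᵖ, M.val.obj V ⟶ N.val.obj V := fun V => ModuleCat.ofHom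
    { toFun := fun s => y V.unop s
      map_add' := hadd V.unop
      map_smul' := hsmul V.unop }
  exact ⟨⟨PresheafOfModules.Hom.mk app fun {V V'} g => ModuleCat.hom_ext (LinearMap.ext fun s =>
    hnaty (leOfHom g.unop) s)⟩, loc⟩

end Groth.Agent.ProjCoh
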