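import Groth.Agent.ProjCoh.HorrocksStep
import Groth.Agent.QCohLib.Biprod

/-!
# Horrocks' splitting criterion on projective space over a field
-/

universe u

open CategoryTheory CategoryTheory.Limits AlgebraicGeometry TopologicalSpace Opposite
open scoped Groth.Agent.CohVanish

attribute [local instance] Abelian.hasFiniteBiproducts

namespace Groth.Agent.ProjCoh

open Groth.Agent.CechCmp Groth.Agent.CohVanish

variable {n : ℕ} {K : Type u} [Field K]

local notation "𝒜" => CohB1.polyGrading n K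

section Decomp

variable {C : Type*} [Category C] [Preadditive C]

/-- A decomposition of `E` into members of a family, by inclusions and projections. -/
structure Decomp (O : ℤ → C) (E : C) (r : ℕ) (a : Fin r → ℤ) where
  /-- The inclusions. -/
  inc : ∀ j, O (a j) ⟶ E
  /-- The projections. -/
  proj : ∀ j, E ⟶ O (a j)
  inc_proj : ∀ j, inc j ≫ proj j = 𝟙 _
  inc_proj_ne : ∀ j l, j ≠ l → inc j ≫ proj l = 0
  total : ∑ j, proj j ≫ inc j = 𝟙 E

variable {O : ℤ → C} {E : C}

/-- A decomposition is an isomorphism with the coproduct. -/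
theorem Decomp.nonempty_iso {r : ℕ} {a : Fin r → ℤ} [HasCoproduct fun j => O (a j)] (S : Decomp O E r a) :
    Nonempty (E ≅ ∐ fun j => O (a j)) := by
  refine ⟨{ hom := ∑ j, S.proj j ≫ Sigma.ι (fun j => O (a j)) j
            inv := Sigma.desc S.inc
            hom_inv_id := ?_
            inv_hom_id := ?_ }⟩
  · rw [Preadditive.sum_comp, ← S.total]
    exact Finset.sum_congr rfl fun j _ => by rw [Category.assoc, Sigma.ι_desc]
  · refine Sigma.hom_ext _ _ fun l => ?_
    rw [Sigma.ι_desc_assoc, Preadditive.comp_sum, Category.comp_id, Finset.sum_eq_single l]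
    · rw [← Category.assoc, S.inc_proj, Category.id_comp]
    · intro j _ hj
      rw [← Category.assoc, S.inc_proj_ne l j hj.symm, zero_comp]
    · exact fun h => absurd (Finset.mem_univ l) h

/-- An isomorphism with the coproduct is a decomposition. -/
theorem Decomp.exists_of_iso {r : ℕ} {a : Fin r → ℤ} [HasCoproduct fun j => O (a j)] (e : E ≅ ∐ fun j => O (a j)) :
    Nonempty (Decomp O E r a) := by
  classical
  let q : ∀ l, (∐ fun j => O (a j)) ⟶ O (a l) := fun l =>
    Sigma.desc fun j => if h : j = l then eqToHom (congrArg (fun i => O (a i)) h) else 0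
  have hq : ∀ l, Sigma.ι (fun j => O (a j)) l ≫ q l = 𝟙 _ := fun l => by simp [q]
  have hqne : ∀ j l, j ≠ l → Sigma.ι (fun j => O (a j)) j ≫ q l = 0 := fun j l h => by simp [q, h]
  have htot : ∑ l, q l ≫ Sigma.ι (fun j => O (a j)) l = 𝟙 _ := Sigma.hom_ext _ _ fun j => by
    rw [Preadditive.comp_sum, Category.comp_id, Finset.sum_eq_single j]
    · rw [← Category.assoc, hq, Category.id_comp]
    · intro l _ hl
      rw [← Category.assoc, hqne j l hl.symm, zero_comp]
    · exact fun h => absurd (Finset.mem_univ j) h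
  exact ⟨⟨fun j => Sigma.ι (fun j => O (a j)) j ≫ e.inv, fun j => e.hom ≫ q j,
    fun j => by simp [hq], fun j l h => by simp [hqne j l h],
    by
      have h2 : ∑ j, (e.hom ≫ q j) ≫ Sigma.ι (fun j => O (a j)) j ≫ e.inv =
          e.hom ≫ (∑ j, q j ≫ Sigma.ι (fun j => O (a j)) j) ≫ e.inv := by
        rw [Preadditive.sum_comp, Preadditive.comp_sum]
        exact Finset.sum_congr rfl fun j _ => by simp only [Category.assoc]
      rw [h2, htot, Category.id_comp, e.hom_inv_id]⟩⟩

/-- Adding a summand to a splitting of the complement. -/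
theorem Decomp.exists_cons {a₀ : ℤ} (i : O a₀ ⟶ E)
    (r : E ⟶ O a₀) (h : i ≫ r = 𝟙 _) [HasKernel r]
    {m : ℕ} {a : Fin m → ℤ} (S : Decomp O (kernel r) m a) :
    Nonempty (Decomp O E (m + 1) (Fin.cons a₀ a)) := by
  let p : E ⟶ kernel r := kernel.lift r (𝟙 E - r ≫ i) (by
    rw [Preadditive.sub_comp, Category.assoc, h, Category.comp_id, Category.id_comp, sub_self])
  have hp : p ≫ kernel.ι r = 𝟙 E - r ≫ i := kernel.lift_ι _ _ _
  have hip : i ≫ p = 0 := by
    rw [← cancel_mono (kernel.ι r), Category.assoc, hp, Preadditive.comp_sub, ← Category.assoc, h,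
      Category.comp_id, Category.id_comp, sub_self, zero_comp]
  have hkp : kernel.ι r ≫ p = 𝟙 _ := by
    rw [← cancel_mono (kernel.ι r), Category.assoc, hp, Preadditive.comp_sub, ← Category.assoc,
      kernel.condition, zero_comp, sub_zero, Category.comp_id, Category.id_comp]
  refine ⟨⟨Fin.cons (α := fun j => O ((Fin.cons a₀ a : Fin (m + 1) → ℤ) j) ⟶ E)
      i (fun j => S.inc j ≫ kernel.ι r),
    Fin.cons (α := fun j => E ⟶ O ((Fin.cons a₀ a : Fin (m + 1) → ℤ) j))
      r (fun j => p ≫ S.proj j), fun j => ?_, fun j l hjl => ?_, ?_⟩⟩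
  · refine Fin.cases ?_ (fun j => ?_) j
    · exact h
    · show (S.inc j ≫ kernel.ι r) ≫ (p ≫ S.proj j) = 𝟙 _
      rw [Category.assoc, ← Category.assoc (kernel.ι r), hkp, Category.id_comp]
      exact S.inc_proj j
  · revert hjl
    refine Fin.cases ?_ (fun j => ?_) j <;> refine Fin.cases ?_ (fun l => ?_) l <;> intro hjl
    · exact absurd rfl hjl
    · show i ≫ (p ≫ S.proj l) = 0
      rw [← Category.assoc, hip, zero_comp]
    · show (S.inc j ≫ kernel.ι r) ≫ r = 0
      rw [Category.assoc, kernel.condition, comp_zero]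
    · show (S.inc j ≫ kernel.ι r) ≫ (p ≫ S.proj l) = 0
      rw [Category.assoc, ← Category.assoc (kernel.ι r), hkp, Category.id_comp]
      exact S.inc_proj_ne j l fun e => hjl (congrArg Fin.succ e)
  · refine (Fin.sum_univ_succ _).trans ?_
    show r ≫ i + ∑ j, (p ≫ S.proj j) ≫ S.inc j ≫ kernel.ι r = 𝟙 E
    have e : ∑ j, (p ≫ S.proj j) ≫ S.inc j ≫ kernel.ι r = p ≫ (∑ j, S.proj j ≫ S.inc j) ≫ kernel.ι r := by
      rw [Preadditive.sum_comp, Preadditive.comp_sum]
      exact Finset.sum_congr rfl fun j _ => by simp only [Category.assoc]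
    rw [e, S.total, Category.id_comp, hp, add_sub_cancel]

/-- The empty splitting of a zero module. -/
theorem Decomp.nonempty_zero (h : (𝟙 E : E ⟶ E) = 0) :
    Nonempty (Decomp O E 0 Fin.elim0) :=
  ⟨⟨fun j => j.elim0, fun j => j.elim0, fun j => j.elim0, fun j => j.elim0,
    (Finset.sum_empty (f := fun j : Fin 0 => (j.elim0 : E ⟶ E))).trans h.symm⟩⟩

end Decomp

/-- A decomposition of `E` into twisting sheaves. -/
abbrev Splitting (E : (Proj (CohB1.polyGrading n K)).Modules) (r : ℕ) (a : Fin r → ℤ) :=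
  Decomp (fun d : ℤ => Twist.twist (CohB1.polyGrading n K) d) E r a

/-- The cohomology of a split module is that of the summands. -/
theorem Splitting.subsingleton_TH {E : (Proj 𝒜).Modules} [E.IsQuasicoherent] {r : ℕ} {a : Fin r → ℤ}
    (S : Splitting E r a) (m : ℤ) (p : ℕ)
    (h : ∀ j, Subsingleton (TH (Twist.twist (CohB1.polyGrading n K) (a j)) m p)) :
    Subsingleton (TH E m p) := by
  refine subsingleton_of_forall_eq 0 fun x => ?_
  rw [← mapT_id m p x, ← S.total, mapT_sum]
  refine Finset.sum_eq_zero fun j _ => ?_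
  have := h j
  rw [mapT_comp, Subsingleton.elim (mapT (S.proj j) m p x) 0, map_zero]

/-- Without Čech classes in degree zero there is at most one global section. -/
theorem eq_of_subsingleton_H_zero (N : (Proj 𝒜).Modules) [Subsingleton ((secSys N).H 0)]
    (g h : Γ(N, ⊤)) : g = h := by
  refine TopCat.Sheaf.eq_of_locally_eq' ⟨N.presheaf, N.isSheaf⟩
    (fun j : Ix.{u} n => chartMeet K (img fun _ : Fin 1 => j)) ⊤ (fun _ => homOfLE le_top) (fun x _ => ?_) g h fun j => ?_
  · obtain ⟨j, hj⟩ := Opens.mem_iSup.1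
      (show x ∈ ⨆ j : Ix.{u} n, chartMeet K ({j} : Finset (Ix.{u} n)) by
        rw [iSup_chartMeet_singleton]; exact Opens.mem_top x)
    refine Opens.mem_iSup.2 ⟨j, ?_⟩
    rwa [show (img fun _ : Fin 1 => j) = ({j} : Finset (Ix.{u} n)) by ext i; simp [eq_comm]]
  · let zg : (secSys N).Z 0 := ⟨resC N g, resC_mem_Z0 N g⟩
    let zh : (secSys N).Z 0 := ⟨resC N h, resC_mem_Z0 N h⟩
    have e : (secSys N).cls 0 (zg - zh) = 0 := Subsingleton.elim _ _
    have e2 := Sys.mem_B_zero.1 (((secSys N).cls_eq_zero_iff _).1 e)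
    exact sub_eq_zero.1 (congrFun e2 fun _ => j)

/-- Coherent modules with the sections and top cohomology vanishing in all twists vanish. -/
theorem isZero_of_regular (E : (Proj 𝒜).Modules) [E.IsQuasicoherent] (hmid : MiddleVanish E)
    (htop : ∀ m : ℤ, Subsingleton (TH E m n)) {m₀ : ℤ} (h0 : Subsingleton (TH E m₀ 0)) :
    (𝟙 E : E ⟶ E) = 0 := by
  obtain ⟨s, hs0, hs⟩ := exists_homs_span E m₀ fun i h1 h2 => by
    rcases h2.lt_or_eq with h | h
    · exact hmid _ i h1 h
    · subst h; exact htop _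
  have hT : (CohB1.tensorMod E (Twist.twist (CohB1.polyGrading n K) m₀)).IsQuasicoherent :=
    isQuasicoherent_tensor_of_gen E (locFreeGen_twist m₀)
  have hS : Subsingleton ((secSys (CohB1.tensorMod E (Twist.twist (CohB1.polyGrading n K) m₀))).H 0) :=
    (twModH E m₀ 0).symm.injective.subsingleton
  have hg : ∀ g h : Γ(CohB1.tensorMod E (Twist.twist (CohB1.polyGrading n K) m₀), ⊤), g = h :=
    eq_of_subsingleton_H_zero _
  refine hom_eq_zero_of_chart _ fun j x => ?_
  have hx : x ∈ Submodule.span Γ(Proj 𝒜, chartMeet K ({j} : Finset (Ix.{u} n)))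
      (Set.range fun g => (s g).app (chartMeet K ({j} : Finset (Ix.{u} n))) (genAt (-m₀) j)) := by
    rw [hs j]; exact Submodule.mem_top
  have hzero : ∀ g, s g = 0 := by
    intro g
    rw [hg g 0, hs0]
  have hbot : Submodule.span Γ(Proj 𝒜, chartMeet K ({j} : Finset (Ix.{u} n)))
      (Set.range fun g => (s g).app (chartMeet K ({j} : Finset (Ix.{u} n))) (genAt (-m₀) j)) = ⊥ := by
    rw [Submodule.span_eq_bot]
    rintro _ ⟨g, rfl⟩
    dsimp only
    rw [hzero g, Scheme.Modules.Hom.zero_app]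
    rfl
  rw [hbot, Submodule.mem_bot] at hx
  rw [hx, map_zero]

/-- The cohomology of twists of coherent modules is finite. -/
theorem finite_TH (E : (Proj 𝒜).Modules) [E.IsQuasicoherent] (hE : Coh.IsCoh E) (d : ℤ) (p : ℕ) :
    Module.Finite K (TH E d p) :=
  LSys.finite ((ofModule E).tw d) (ofModule_fg E hE.2) p

/-- A split monomorphism is injective on the cohomology of twists. -/
theorem injective_mapT_of_retract {E N : (Proj 𝒜).Modules} [E.IsQuasicoherent] [N.IsQuasicoherent]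
    (i : N ⟶ E) (r : E ⟶ N) (h : i ≫ r = 𝟙 N) (d : ℤ) (p : ℕ) : Function.Injective (mapT i d p) :=
  fun x y e => by
    have h1 : ∀ z, mapT r d p (mapT i d p z) = z := fun z => by
      rw [← mapT_comp, h, mapT_id]
    rw [← h1 x, ← h1 y, e]

/-- The composite of a split monomorphism kills only zero. -/
theorem eq_zero_of_mapT_eq {E N N' : (Proj 𝒜).Modules} [E.IsQuasicoherent] [N.IsQuasicoherent] [N'.IsQuasicoherent]
    (i : N ⟶ E) (r : E ⟶ N) (h : i ≫ r = 𝟙 N) (k : N' ⟶ E) (hk : k ≫ r = 0) (d : ℤ) (p : ℕ)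
    (y : TH N d p) (x : TH N' d p) (e : mapT k d p x = mapT i d p y) : y = 0 := by
  have h1 : mapT r d p (mapT i d p y) = y := by rw [← mapT_comp, h, mapT_id]
  rw [← h1, ← e, ← mapT_comp, hk, mapT_zero]

variable (n K) in
/-- The hypotheses carried through the induction. -/
structure HorrocksData (E : (Proj (CohB1.polyGrading n K)).Modules) [E.IsQuasicoherent] (M : ℤ) : Prop where
  coh : Coh.IsCoh E
  low : ∃ m₀ : ℤ, Subsingleton (TH E m₀ 0) ∧ m₀ ≤ M
  mid : MiddleVanish E
  top : TopVanishAbove E (M - ((n : ℤ) + 1))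

/-- The hypotheses pass to direct summands. -/
theorem HorrocksData.of_retract {E N : (Proj 𝒜).Modules} [E.IsQuasicoherent] [N.IsQuasicoherent] {M : ℤ}
    (hE : HorrocksData n K E M) (k : N ⟶ E) (p : E ⟶ N) (h : k ≫ p = 𝟙 N) (hN : Coh.IsCoh N) :
    HorrocksData n K N M where
  coh := hN
  low := hE.low.elim fun m₀ h0 => ⟨m₀, haveI := h0.1; subsingleton_TH_of_retract k p h m₀ 0, h0.2⟩
  mid m q h1 h2 := haveI := hE.mid m q h1 h2; subsingleton_TH_of_retract k p h m q
  top m hm := haveI := hE.top m hm; subsingleton_TH_of_retract k p h m n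

/-- A proper direct summand has fewer sections. -/
theorem finrank_TH_lt {E N L : (Proj 𝒜).Modules} [E.IsQuasicoherent] [N.IsQuasicoherent] [L.IsQuasicoherent]
    (hE : Coh.IsCoh E) (k : N ⟶ E) (p : E ⟶ N) (hkp : k ≫ p = 𝟙 N) (i : L ⟶ E) (r : E ⟶ L) (hir : i ≫ r = 𝟙 L)
    (hkr : k ≫ r = 0) (d : ℤ) (q : ℕ) [Nontrivial (TH L d q)] :
    Module.finrank K (TH N d q) < Module.finrank K (TH E d q) := by
  haveI := finite_TH E hE d q
  rw [← LinearMap.finrank_range_of_inj (injective_mapT_of_retract k p hkp d q)]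
  refine Submodule.finrank_lt fun htop => ?_
  obtain ⟨y, hy⟩ := exists_ne (0 : TH L d q)
  obtain ⟨x, hx⟩ := LinearMap.range_eq_top.1 htop (mapT i d q y)
  exact hy (eq_zero_of_mapT_eq i r hir k hkr d q y x hx)

/-- The complement of a coherent direct summand. -/
theorem exists_complement {E : (Proj 𝒜).Modules} (hE : Coh.IsCoh E) {a₀ : ℤ}
    (i : Twist.twist (CohB1.polyGrading n K) a₀ ⟶ E) (r : E ⟶ Twist.twist (CohB1.polyGrading n K) a₀) (h : i ≫ r = 𝟙 _) :
    ∃ (N : (Proj 𝒜).Modules) (k : N ⟶ E) (p : E ⟶ N), Coh.IsCoh N ∧ k ≫ p = 𝟙 N ∧ k ≫ r = 0 ∧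
      ∀ (m : ℕ) (a : Fin m → ℤ), Splitting N m a → Nonempty (Splitting E (m + 1) (Fin.cons a₀ a)) := by
  refine ⟨kernel r, kernel.ι r, kernel.lift r (𝟙 E - r ≫ i) ?_, QCohLib.isCoh_kernel r hE (isCoh_twist_self _).1, ?_,
    kernel.condition r, fun m a S => Decomp.exists_cons i r h S⟩
  · rw [Preadditive.sub_comp, Category.assoc, h, Category.comp_id, Category.id_comp, sub_self]
  · rw [← cancel_mono (kernel.ι r), Category.assoc, kernel.lift_ι, Preadditive.comp_sub, ← Category.assoc,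
      kernel.condition, zero_comp, sub_zero, Category.comp_id, Category.id_comp]

theorem exists_splitting_aux (hn : 1 ≤ n) (M : ℤ) :
    ∀ (N : ℕ) (E : (Proj 𝒜).Modules) [E.IsQuasicoherent], HorrocksData n K E M →
      Module.finrank K (TH E M 0) < N → ∃ (r : ℕ) (a : Fin r → ℤ), Nonempty (Splitting E r a) := by
  intro N
  induction N with
  | zero => exact fun E _ _ h => absurd h (Nat.not_lt_zero _)
  | succ N ih =>
    intro E _ hE hrank
    by_cases hall : ∀ m : ℤ, Subsingleton (TH E m n)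
    · obtain ⟨m₀, h0, -⟩ := hE.low
      exact ⟨0, _, Decomp.nonempty_zero (isZero_of_regular E hE.mid hall h0)⟩
    classical
    push Not at hall
    obtain ⟨m₁, hm₁⟩ := hall
    have hbdd : ∀ m : ℤ, Nontrivial (TH E m n) → m ≤ M - ((n : ℤ) + 1) := fun m hm => by
      by_contra h
      exact (not_subsingleton_iff_nontrivial.2 hm) (hE.top m (by omega))
    obtain ⟨d, hd, hmax⟩ := Int.exists_greatest_of_bdd (P := fun m => Nontrivial (TH E m n))
      ⟨_, hbdd⟩ ⟨m₁, hm₁⟩
    have htop : TopVanishAbove E d := fun m hm => not_nontrivial_iff_subsingleton.1 fun h =>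
      absurd (hmax m h) (by omega)
    obtain ⟨i, r, hir⟩ := exists_retract hn E hE.coh hE.mid hd htop
    obtain ⟨E', k, p, hK, hkp, hkr, hcons⟩ := exists_complement hE.coh i r hir
    have := hK.1
    have hdata : HorrocksData n K E' M := hE.of_retract k p hkp hK
    have := nontrivial_TH_twist_zero (n := n) (R := K) (-((n : ℤ) + 1) - d) M (by have := hbdd d hd; omega)
    have hlt := finrank_TH_lt hE.coh k p hkp i r hir hkr M 0
    obtain ⟨m, a, ⟨S⟩⟩ := ih E' hdata (by omega)
    exact ⟨m + 1, _, hcons m a S⟩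

/-- **Horrocks' criterion.** -/
theorem exists_splitting (hn : 1 ≤ n) (E : (Proj 𝒜).Modules) [E.IsQuasicoherent] (hE : Coh.IsCoh E)
    (hlow : ∃ m₀ : ℤ, ∀ m, m ≤ m₀ → Subsingleton (TH E m 0)) (hmid : MiddleVanish E) :
    ∃ (r : ℕ) (a : Fin r → ℤ), Nonempty (Splitting E r a) := by
  obtain ⟨d₀, hd₀⟩ := (ofModule E).exists_vanishing (Fintype.card (Ix.{u} n)) (ofModule_fg E hE.2)
  obtain ⟨m₀, hm₀⟩ := hlow
  let M := max (d₀ + n + 1) m₀
  refine exists_splitting_aux hn M (Module.finrank K (TH E M 0) + 1) E ⟨hE, ⟨m₀, hm₀ m₀ le_rfl, le_max_right _ _⟩, hmid, fun m hm => ?_⟩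
    (Nat.lt_succ_self _)
  obtain ⟨q, hq⟩ : ∃ q, n = q + 1 := ⟨n - 1, by omega⟩
  have hM : d₀ + n + 1 ≤ M := le_max_left _ _
  have h := hd₀ m (by omega) q (by simp)
  subst hq
  exact h

/-- The cohomology conditions hold for sums of twisting sheaves. -/
theorem Splitting.conditions (hn : 1 ≤ n) {E : (Proj 𝒜).Modules} [E.IsQuasicoherent] {r : ℕ} {a : Fin r → ℤ}
    (S : Splitting E r a) :
    (∃ m₀ : ℤ, ∀ m, m ≤ m₀ → Subsingleton (TH E m 0)) ∧ MiddleVanish E := by
  refine ⟨⟨-(∑ j, |a j|) - 1, fun m hm => S.subsingleton_TH m 0 fun j => ?_⟩,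
    fun m i h1 h2 => S.subsingleton_TH m i fun j => subsingleton_tw_twist_middle (a j) m h1 h2⟩
  refine subsingleton_tw_twist_zero (a j) m ?_ hn
  have h1 : |a j| ≤ ∑ l, |a l| := Finset.single_le_sum (fun l _ => abs_nonneg (a l)) (Finset.mem_univ j)
  have := le_abs_self (a j)
  omega

/-- An isomorphism with a sum of twisting sheaves is a splitting. -/
theorem Splitting.exists_of_iso {E : (Proj 𝒜).Modules} {r : ℕ} {a : Fin r → ℤ}
    (e : E ≅ ∐ fun j => Twist.twist (CohB1.polyGrading n K) (a j)) : Nonempty (Splitting E r a) :=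
  Decomp.exists_of_iso (O := fun d : ℤ => Twist.twist (CohB1.polyGrading n K) d) e

/-- Horrocks' criterion in the cohomology of the twisted modules. -/
theorem exists_iso_coprod_twist_iff (hn : 1 ≤ n) (E : (CohB1.ProjSpace n K).Modules) (hE : Coh.IsCoh E) :
    (∃ (r : ℕ) (a : Fin r → ℤ), Nonempty (E ≅ ∐ fun j => Twist.twistProjSpace n K (a j))) ↔
      ((∃ m₀ : ℤ, ∀ m : ℤ, m ≤ m₀ →
          Subsingleton (Coh.HH (CohB1.ProjSpace n K) (CohB1.tensorMod E (Twist.twistProjSpace n K m)) 0)) ∧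
        ∀ (m : ℤ) (i : ℕ), 0 < i → i < n →
          Subsingleton (Coh.HH (CohB1.ProjSpace n K) (CohB1.tensorMod E (Twist.twistProjSpace n K m)) i)) := by
  let E' : (Proj 𝒜).Modules := E
  haveI : E'.IsQuasicoherent := hE.1
  constructor
  · rintro ⟨r, a, ⟨e⟩⟩
    obtain ⟨S⟩ := Splitting.exists_of_iso (E := E') e
    obtain ⟨⟨m₀, h0⟩, hmid⟩ := Splitting.conditions hn S
    exact ⟨⟨m₀, fun m hm => (subsingleton_TH_iff E' m 0).2 (h0 m hm)⟩,
      fun m i h1 h2 => (subsingleton_TH_iff E' m i).2 (hmid m i h1 h2)⟩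
  · rintro ⟨⟨m₀, h0⟩, hmid⟩
    obtain ⟨r, a, ⟨S⟩⟩ := exists_splitting hn E' hE ⟨m₀, fun m hm => (subsingleton_TH_iff E' m 0).1 (h0 m hm)⟩
      fun m i h1 h2 => (subsingleton_TH_iff E' m i).1 (hmid m i h1 h2)
    exact ⟨r, a, Decomp.nonempty_iso S⟩

end Groth.Agent.ProjCoh
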