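import Groth.Agent.ProjCoh.GlueHom
import Groth.Agent.ProjCoh.TwistEpi
import Groth.Agent.ProjCoh.Serre

/-!
# Moving a twist across a morphism into a twisting sheaf
-/

universe u

open CategoryTheory AlgebraicGeometry TopologicalSpace Opposite
open scoped Groth.Agent.CohVanish

namespace Groth.Agent.ProjCoh

open Groth.Agent.CechCmp Groth.Agent.CohVanish

variable {n : ℕ} {R : Type u} [CommRing R]

local notation "𝒜" => CohB1.polyGrading n R

/-- A free generator as a linear equivalence with the functions. -/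
noncomputable def genLin {X : Scheme.{u}} {L : X.Modules} {U : X.Opens} {g : Γ(L, U)} (hg : IsFreeGen L g)
    {V : X.Opens} (hV : V ≤ U) : Γ(X, V) ≃ₗ[Γ(X, V)] Γ(L, V) :=
  LinearEquiv.ofBijective (LinearMap.toSpanSingleton Γ(X, V) Γ(L, V) (L.presheaf.map (homOfLE hV).op g)) (hg V hV)

lemma genLin_apply {X : Scheme.{u}} {L : X.Modules} {U : X.Opens} {g : Γ(L, U)} (hg : IsFreeGen L g)
    {V : X.Opens} (hV : V ≤ U) (r : Γ(X, V)) : genLin hg hV r = r • L.presheaf.map (homOfLE hV).op g := rfl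

lemma genLin_symm_res {X : Scheme.{u}} {L : X.Modules} {U : X.Opens} {g : Γ(L, U)} (hg : IsFreeGen L g)
    {V W : X.Opens} (hV : V ≤ U) (hW : W ≤ V) (x : Γ(L, V)) :
    (genLin hg (hW.trans hV)).symm (L.presheaf.map (homOfLE hW).op x) =
      X.presheaf.map (homOfLE hW).op ((genLin hg hV).symm x) := by
  rw [LinearEquiv.symm_apply_eq]
  conv_lhs => rw [← (genLin hg hV).apply_symm_apply x]
  rw [genLin_apply, genLin_apply, Scheme.Modules.map_smul, QCohLib.map_map]

/-- The change of generators of a twisting sheaf, on an open inside two charts. -/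
lemma map_gen_change {i j : Ix.{u} n} {V : (Proj 𝒜).Opens}
    (hV : V ≤ chartMeet R ({i, j} : Finset (Ix.{u} n)))
    (hi : V ≤ chartMeet R ({i} : Finset (Ix.{u} n))) (hj : V ≤ chartMeet R ({j} : Finset (Ix.{u} n))) (d : ℤ) :
    (Twist.twist (CohB1.polyGrading n R) d).presheaf.map (homOfLE hi).op (genAt d i) =
      (Proj 𝒜).presheaf.map (homOfLE hV).op (theta R {i, j}
          (uz (show i ∈ ({i, j} : Finset (Ix.{u} n)) by simp) (show j ∈ ({i, j} : Finset (Ix.{u} n)) by simp) d)) •
        (Twist.twist (CohB1.polyGrading n R) d).presheaf.map (homOfLE hj).op (genAt d j) := by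
  have hmi : i ∈ ({i, j} : Finset (Ix.{u} n)) := by simp
  have hmj : j ∈ ({i, j} : Finset (Ix.{u} n)) := by simp
  have e := congrArg ((Twist.twist (CohB1.polyGrading n R) d).presheaf.map (homOfLE hV).op)
    (theta_uz_smul_gen (R := R) hmi hmj d)
  rw [Scheme.Modules.map_smul,
    ← gen_res (show ({i} : Finset (Ix.{u} n)) ⊆ {i, j} by simp) (Finset.mem_singleton_self i) d,
    ← gen_res (show ({j} : Finset (Ix.{u} n)) ⊆ {i, j} by simp) (Finset.mem_singleton_self j) d,
    QCohLib.map_map, QCohLib.map_map] at e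
  exact e.symm

lemma le_chartMeet_pair {i j : Ix.{u} n} {V : (Proj 𝒜).Opens}
    (hi : V ≤ chartMeet R ({i} : Finset (Ix.{u} n))) (hj : V ≤ chartMeet R ({j} : Finset (Ix.{u} n))) :
    V ≤ chartMeet R ({i, j} : Finset (Ix.{u} n)) := le_iInf₂ fun k hk => by
  rcases Finset.mem_insert.1 hk with rfl | hk
  · exact hi.trans (iInf₂_le k (Finset.mem_singleton_self k))
  · exact hj.trans (iInf₂_le k hk)

variable (M : (Proj (CohB1.polyGrading n R)).Modules) {d e : ℤ}
  (ψ : CohB1.tensorMod M (Twist.twist (CohB1.polyGrading n R) d) ⟶ Twist.twist (CohB1.polyGrading n R) e)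

/-- The coefficient of `ψ (s ⊗ x_j^d)` at `x_j^e`. -/
noncomputable def untw (j : Ix.{u} n) (V : (Proj 𝒜).Opens) (hV : V ≤ chartMeet R ({j} : Finset (Ix.{u} n))) :
    Γ(M, V) →ₗ[Γ(Proj 𝒜, V)] Γ(Proj 𝒜, V) where
  toFun s := (genLin (isFreeGen_genAt e j) hV).symm (ψ.app V (genEquiv M (isFreeGen_genAt d j) hV s))
  map_add' s t := by rw [map_add, map_add, map_add]
  map_smul' c s := by
    rw [map_smul, Scheme.Modules.Hom.app_smul, map_smul]
    rfl

lemma untw_spec (j : Ix.{u} n) (V : (Proj 𝒜).Opens) (hV : V ≤ chartMeet R ({j} : Finset (Ix.{u} n)))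
    (s : Γ(M, V)) :
    untw M ψ j V hV s • (Twist.twist (CohB1.polyGrading n R) e).presheaf.map (homOfLE hV).op (genAt e j) =
      ψ.app V (genEquiv M (isFreeGen_genAt d j) hV s) :=
  (genLin (isFreeGen_genAt e j) hV).apply_symm_apply _

lemma untw_res (j : Ix.{u} n) {V W : (Proj 𝒜).Opens} (hV : V ≤ chartMeet R ({j} : Finset (Ix.{u} n)))
    (hW : W ≤ V) (s : Γ(M, V)) :
    untw M ψ j W (hW.trans hV) (M.presheaf.map (homOfLE hW).op s) =
      (Proj 𝒜).presheaf.map (homOfLE hW).op (untw M ψ j V hV s) := by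
  change (genLin (isFreeGen_genAt e j) (hW.trans hV)).symm (ψ.app W (genEquiv M (isFreeGen_genAt d j) (hW.trans hV) _)) = _
  rw [← genEquiv_res M (isFreeGen_genAt d j) hV hW, QCohLib.app_map, genLin_symm_res]
  rfl

lemma untw_agree {c : ℤ} (hcd : c + d = e) (i j : Ix.{u} n) (V : (Proj 𝒜).Opens)
    (hi : V ≤ chartMeet R ({i} : Finset (Ix.{u} n))) (hj : V ≤ chartMeet R ({j} : Finset (Ix.{u} n)))
    (s : Γ(M, V)) :
    untw M ψ i V hi s • (Twist.twist (CohB1.polyGrading n R) c).presheaf.map (homOfLE hi).op (genAt c i) =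
      untw M ψ j V hj s • (Twist.twist (CohB1.polyGrading n R) c).presheaf.map (homOfLE hj).op (genAt c j) := by
  have hij := le_chartMeet_pair hi hj
  have hmi : i ∈ ({i, j} : Finset (Ix.{u} n)) := by simp
  have hmj : j ∈ ({i, j} : Finset (Ix.{u} n)) := by simp
  let r : reg R ({i, j} : Finset (Ix.{u} n)) →+* Γ(Proj 𝒜, V) :=
    ((Proj 𝒜).presheaf.map (homOfLE hij).op).hom.comp (theta R ({i, j} : Finset (Ix.{u} n)))
  have hu : IsUnit (r (uz hmi hmj d)) := (IsUnit.of_mul_eq_one _ (uz_inv hmi hmj d)).map r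
  have hmul : r (uz hmi hmj c) * r (uz hmi hmj d) = r (uz hmi hmj e) := by
    rw [← map_mul]
    refine congrArg r (Subtype.ext ?_)
    simp only [Subalgebra.coe_mul, coe_uz, AddMonoidAlgebra.single_mul_single, one_mul, ← hcd]
    congr 1
    module
  have h1 := untw_spec M ψ i V hi s
  have e1 : genEquiv M (isFreeGen_genAt d i) hi s = r (uz hmi hmj d) • genEquiv M (isFreeGen_genAt d j) hj s := by
    change (SecTwist.tmul M _ V s _ : Γ(CohB1.tensorMod M (Twist.twist (CohB1.polyGrading n R) d), V)) =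
      r (uz hmi hmj d) • (show Γ(CohB1.tensorMod M (Twist.twist (CohB1.polyGrading n R) d), V) from SecTwist.tmul M _ V s _)
    rw [map_gen_change hij hi hj d, tmul_smul_right]
    exact tmul_smul_left M _ V _ _ _
  rw [e1, Scheme.Modules.Hom.app_smul, ← untw_spec M ψ j V hj s, map_gen_change hij hi hj e,
    smul_smul, smul_smul] at h1
  have h2 : untw M ψ i V hi s * r (uz hmi hmj e) = r (uz hmi hmj d) * untw M ψ j V hj s :=
    (genLin (isFreeGen_genAt e j) hj).injective h1
  rw [map_gen_change hij hi hj c, smul_smul]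
  congr 1
  refine hu.mul_right_cancel ?_
  change untw M ψ i V hi s * r (uz hmi hmj c) * r (uz hmi hmj d) = _
  rw [mul_assoc, hmul, h2, mul_comm]

variable [M.IsQuasicoherent]

/-- **Untwisting**: a morphism `M(d) → O(e)` gives a morphism `M → O(e - d)`, zero only if it is. -/
theorem exists_untwist {c : ℤ} (hcd : c + d = e) :
    ∃ φ : M ⟶ Twist.twist (CohB1.polyGrading n R) c, φ = 0 → ψ = 0 := by
  obtain ⟨φ, hφ⟩ := exists_hom_glue (M := M) (N := Twist.twist (CohB1.polyGrading n R) c) iSup_chartMeet_singleton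
    (fun j V hV => (LinearMap.toSpanSingleton _ _
      ((Twist.twist (CohB1.polyGrading n R) c).presheaf.map (homOfLE hV).op (genAt c j))).comp (untw M ψ j V hV))
    (fun j V W hV hWV x => by
      change untw M ψ j W _ _ • _ =
        (Twist.twist (CohB1.polyGrading n R) c).presheaf.map (homOfLE hWV).op (untw M ψ j V hV x • _)
      rw [untw_res M ψ j hV hWV, Scheme.Modules.map_smul, QCohLib.map_map])
    (fun i j V hi hj => LinearMap.ext fun s => untw_agree M ψ hcd i j V hi hj s)
  refine ⟨φ, fun h0 => ?_⟩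
  have : (CohB1.tensorMod M (Twist.twist (CohB1.polyGrading n R) d)).IsQuasicoherent :=
    isQuasicoherent_tensor_of_gen M (locFreeGen_twist d)
  refine hom_eq_zero_of_chart ψ fun j y => ?_
  obtain ⟨s, rfl⟩ := (genEquiv M (isFreeGen_genAt (R := R) d j) le_rfl).surjective y
  have h := hφ j _ le_rfl s
  rw [h0, Scheme.Modules.Hom.zero_app] at h
  change (0 : Γ(Twist.twist (CohB1.polyGrading n R) c, _)) = untw M ψ j _ le_rfl s • _ at h
  have hz : untw M ψ j _ le_rfl s = 0 :=
    (isFreeGen_genAt (R := R) c j _ le_rfl).1 (h.symm.trans (zero_smul _ _).symm)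
  rw [← untw_spec M ψ j _ le_rfl s, hz, zero_smul]

end Groth.Agent.ProjCoh
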