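import Groth.Agent.ProjCoh.TwFunctor
import Groth.Agent.ProjCoh.Untwist
import Groth.Agent.ProjCoh.CoherentDuality

/-!
# Splitting off a twisting sheaf

When the middle cohomology of all twists of `E` vanishes and `d` is the last twist with top cohomology,
`O(-n-1-d)` is a direct summand of `E`.
-/

universe u

open CategoryTheory CategoryTheory.Limits AlgebraicGeometry TopologicalSpace Opposite
open scoped Groth.Agent.CohVanish

namespace Groth.Agent.ProjCoh

open Groth.Agent.CechCmp Groth.Agent.CohVanish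

variable {n : ℕ} {K : Type u} [Field K]

local notation "𝒜" => CohB1.polyGrading n K

/-- Vanishing of the cohomology of the twists strictly between `0` and `n`. -/
def MiddleVanish (E : (Proj (CohB1.polyGrading n K)).Modules) [E.IsQuasicoherent] : Prop :=
  ∀ (m : ℤ) (i : ℕ), 0 < i → i < n → Subsingleton (TH E m i)

/-- The twists above `d` have no top cohomology. -/
def TopVanishAbove (E : (Proj (CohB1.polyGrading n K)).Modules) [E.IsQuasicoherent] (d : ℤ) : Prop :=
  ∀ m : ℤ, d < m → Subsingleton (TH E m n)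

/-- Global sections of `E(m)` as morphisms `O(-m) → E`, spanning on the charts when `E` is `m`-regular. -/
theorem exists_homs_span (E : (Proj 𝒜).Modules) [E.IsQuasicoherent] (m : ℤ)
    (hreg : ∀ i : ℕ, 1 ≤ i → i ≤ n → Subsingleton (TH E (m - i) i)) :
    ∃ s : Γ(CohB1.tensorMod E (Twist.twist (CohB1.polyGrading n K) m), ⊤) →
        (Twist.twist (CohB1.polyGrading n K) (-m) ⟶ E),
      s 0 = 0 ∧ ∀ j : Ix.{u} n, Submodule.span Γ(Proj 𝒜, chartMeet K ({j} : Finset (Ix.{u} n)))
        (Set.range fun g => (s g).app (chartMeet K ({j} : Finset (Ix.{u} n))) (genAt (-m) j)) = ⊤ := by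
  let T := CohB1.tensorMod E (Twist.twist (CohB1.polyGrading n K) m)
  have hT : T.IsQuasicoherent := isQuasicoherent_tensor_of_gen E (locFreeGen_twist m)
  have hz : ZeroRegular T := zeroRegular_twist E m fun i h1 h2 => (subsingleton_TH_iff E _ i).2 (hreg i h1 h2)
  let x : Γ(T, ⊤) → ∀ j : Ix.{u} n, (secSys E).obj {j} := fun g j =>
    (genEquiv E (isFreeGen_genAt (R := K) m j) le_rfl).symm
      (T.presheaf.map (homOfLE (le_top (a := chartMeet K ({j} : Finset (Ix.{u} n))))).op g)
  have hx : ∀ g i j,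
      E.presheaf.map (homOfLE (RSh.meetOpen_anti (chartU K) (show ({i} : Finset (Ix.{u} n)) ⊆ {i, j} by simp))).op
          (asSec E {i} (x g i)) =
        theta K {i, j} (uz (show i ∈ ({i, j} : Finset (Ix.{u} n)) by simp)
            (show j ∈ ({i, j} : Finset (Ix.{u} n)) by simp) (-m)) •
          E.presheaf.map (homOfLE (RSh.meetOpen_anti (chartU K) (show ({j} : Finset (Ix.{u} n)) ⊆ {i, j} by simp))).op
            (asSec E {j} (x g j)) := by
    intro g i j
    have hi : ({i} : Finset (Ix.{u} n)) ⊆ {i, j} := by simp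
    have hj : ({j} : Finset (Ix.{u} n)) ⊆ {i, j} := by simp
    have hmi : i ∈ ({i, j} : Finset (Ix.{u} n)) := by simp
    have hmj : j ∈ ({i, j} : Finset (Ix.{u} n)) := by simp
    have hVi : chartMeet K ({i, j} : Finset (Ix.{u} n)) ≤ chartMeet K ({i} : Finset (Ix.{u} n)) := RSh.meetOpen_anti (chartU K) hi
    have hVj : chartMeet K ({i, j} : Finset (Ix.{u} n)) ≤ chartMeet K ({j} : Finset (Ix.{u} n)) := RSh.meetOpen_anti (chartU K) hj
    have ek : ∀ (k : Ix.{u} n) (hk : chartMeet K ({i, j} : Finset (Ix.{u} n)) ≤ chartMeet K ({k} : Finset (Ix.{u} n))),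
        genEquiv E (isFreeGen_genAt (R := K) m k) hk (E.presheaf.map (homOfLE hk).op (asSec E {k} (x g k))) =
          T.presheaf.map (homOfLE le_top).op g := by
      intro k hk
      rw [← genEquiv_res E (isFreeGen_genAt (R := K) m k) le_rfl hk]
      refine (congrArg _ ((genEquiv E (isFreeGen_genAt (R := K) m k) le_rfl).apply_symm_apply _)).trans ?_
      exact QCohLib.map_map T hk le_top g
    have e := (ek i hVi).trans (ek j hVj).symm
    have e1 : genEquiv E (isFreeGen_genAt (R := K) m i) hVi (E.presheaf.map (homOfLE hVi).op (asSec E {i} (x g i))) =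
        genEquiv E (isFreeGen_genAt (R := K) m j) hVj (theta K {i, j} (uz hmi hmj m) •
          E.presheaf.map (homOfLE hVi).op (asSec E {i} (x g i))) := by
      rw [map_smul]
      change (SecTwist.tmul E _ _ _ _ : Γ(T, chartMeet K ({i, j} : Finset (Ix.{u} n)))) =
        theta K {i, j} (uz hmi hmj m) • (show Γ(T, chartMeet K ({i, j} : Finset (Ix.{u} n))) from SecTwist.tmul E _ _ _ _)
      rw [gen_res hi (Finset.mem_singleton_self i) m, gen_res hj (Finset.mem_singleton_self j) m,
        ← theta_uz_smul_gen (R := K) hmi hmj m, tmul_smul_right]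
      exact tmul_smul_left E _ _ _ _ _
    rw [e1] at e
    have e2 := (genEquiv E (isFreeGen_genAt (R := K) m j) hVj).injective e
    have e3 : uz (R := K) hmi hmj (-m) * uz hmi hmj m = 1 := by
      refine Subtype.ext ?_
      simp only [Subalgebra.coe_mul, coe_uz, AddMonoidAlgebra.single_mul_single, one_mul, OneMemClass.coe_one,
        AddMonoidAlgebra.one_def]
      congr 1
      module
    have e4 := congrArg (fun v => theta K {i, j} (uz (R := K) hmi hmj (-m)) • v) e2
    simp only [smul_smul, ← map_mul, e3, map_one, one_smul] at e4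
    exact e4
  choose s hs using fun g => exists_hom_twist (-m) (x g) (hx g)
  refine ⟨s, hom_twist_ext _ _ fun j => ?_, fun j => ?_⟩
  · rw [hs 0 j, Scheme.Modules.Hom.zero_app]
    change (genEquiv E (isFreeGen_genAt (R := K) m j) le_rfl).symm (T.presheaf.map _ 0) = 0
    rw [map_zero, map_zero]
  have hσ : chartMeet K ({j} : Finset (Ix.{u} n)) = chartMeet K (img fun _ : Fin 1 => j) := by
    congr 1
  have htop : ∀ W : (Proj 𝒜).Opens, W = chartMeet K (img fun _ : Fin 1 => j) →
      Submodule.span Γ(Proj 𝒜, W) (Set.range fun g : Γ(T, ⊤) => T.presheaf.map (homOfLE (le_top (a := W))).op g) = ⊤ := by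
    rintro W rfl
    exact span_global_eq_top T hz j
  have h2 := congrArg (Submodule.map (genEquiv E (isFreeGen_genAt (R := K) m j) le_rfl).symm.toLinearMap) (htop _ hσ)
  rw [Submodule.map_span, Submodule.map_top, LinearEquiv.range, ← Set.range_comp] at h2
  rw [← h2]
  congr 1
  exact congrArg Set.range (funext fun g => hs g j)

/-- A nonzero morphism `E → O(a)`. -/
theorem exists_hom_ne_zero (E : (Proj 𝒜).Modules) [E.IsQuasicoherent] (hE : Coh.IsCoh E) {d : ℤ}
    (hd : Nontrivial (TH E d n)) :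
    ∃ φ : E ⟶ Twist.twist (CohB1.polyGrading n K) (-((n : ℤ) + 1) - d), φ ≠ 0 := by
  have hT : Coh.IsCoh (CohB1.tensorMod E (Twist.twist (CohB1.polyGrading n K) d)) :=
    isCoh_tensor_of_gen E hE (locFreeGen_twist d)
  obtain ⟨x, hx⟩ := @exists_ne _ hd 0
  obtain ⟨ψ₀, hψ₀⟩ := Module.Projective.exists_dual_ne_zero K hx
  let e : TH E d n ≃ₗ[K] HS (CohB1.tensorMod E (Twist.twist (CohB1.polyGrading n K) d)) n := twModH E d n
  obtain ⟨ψ, hψ, -⟩ := hasDual_of_isCoh _ hT (ψ₀ ∘ₗ e.symm.toLinearMap)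
  obtain ⟨φ, hφ⟩ := exists_untwist E ψ (c := -((n : ℤ) + 1) - d) (sub_add_cancel _ _)
  refine ⟨φ, fun h0 => hψ₀ ?_⟩
  have h1 := hψ (e x)
  rw [hφ h0, mapS_zero, map_zero] at h1
  change ψ₀ (e.symm (e x)) = 0 at h1
  rwa [LinearEquiv.symm_apply_apply] at h1

/-- A nonzero endomorphism of a twisting sheaf is invertible. -/
theorem exists_comp_eq_id (hn : 1 ≤ n) {a : ℤ}
    (φ : Twist.twist (CohB1.polyGrading n K) a ⟶ Twist.twist (CohB1.polyGrading n K) a) (hφ : φ ≠ 0) :
    ∃ ψ, φ ≫ ψ = 𝟙 (Twist.twist (CohB1.polyGrading n K) a) := by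
  obtain ⟨P, hP, hPφ⟩ := exists_mul_of_hom φ
  have hsupp : ∀ x, P.coeff x ≠ 0 → x = 0 := fun x hx => by
    have hnn : ∀ i, 0 ≤ x i := fun i => by
      obtain ⟨j, hj⟩ := Fintype.exists_ne_of_one_lt_card (by simp; omega : 1 < Fintype.card (Ix.{u} n)) i
      exact le_of_not_gt fun h => hj (Finset.mem_singleton.1 (((Submodule.mem_iInf _).1 hP j x hx).2 i h)).symm
    have hsum := ((Submodule.mem_iInf _).1 hP (pickIx Finset.univ) x hx).1
    rw [sub_self] at hsum
    funext i
    exact (Finset.sum_eq_zero_iff_of_nonneg fun k _ => hnn k).1 hsum i (Finset.mem_univ i)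
  have hPr : P = AddMonoidAlgebra.single 0 (P.coeff 0) := by
    ext x
    rw [AddMonoidAlgebra.coeff_single, Finsupp.single_apply]
    split_ifs with h
    · rw [h]
    · by_contra hne
      exact h (hsupp x hne).symm
  let gj : ∀ j : Ix.{u} n, supp K (cone (ι := Ix.{u} n) a {j}) := fun j =>
    ⟨AddMonoidAlgebra.single (a • ev j) 1, single_mem_supp (zsmul_ev_mem_cone a (Finset.mem_singleton_self j)) 1⟩
  have hgen : ∀ j : Ix.{u} n, asSec _ {j} ((oTw a).app {j} (gj j)) = genAt (R := K) a j := fun j => by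
    rw [asSec_oTw a (Finset.mem_singleton_self j)]
    have e : divMono a (Finset.mem_singleton_self j) (gj j) = 1 := by
      refine Subtype.ext ?_
      rw [coe_divMono]
      simp only [gj, AddMonoidAlgebra.single_mul_single, one_mul, ← add_smul, add_neg_cancel, zero_smul,
        OneMemClass.coe_one, AddMonoidAlgebra.one_def]
    rw [e, map_one, one_smul]
  have hr : P.coeff 0 ≠ 0 := fun h0 => hφ <| hom_twist_ext φ 0 fun j => by
    have h1 : asSec _ {j} ((secHomSys φ).app {j} ((oTw a).app {j} (gj j))) = φ.app _ (genAt a j) :=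
      congrArg (fun v => φ.app _ v) (hgen j)
    rw [← h1, hPφ {j} (Finset.singleton_nonempty j)]
    have hP0 : P = 0 := by rw [hPr, h0, AddMonoidAlgebra.single_zero]
    refine (congrArg ((oTw a).app {j}) (Subtype.ext ?_ :
      (⟨_, mul_glob_mem hP (Finset.singleton_nonempty j) (gj j).2⟩ : supp K (cone (ι := Ix.{u} n) a {j})) = 0)).trans (map_zero _)
    change P * _ = 0
    rw [hP0, zero_mul]
  have hQ : AddMonoidAlgebra.single (0 : Expo (Ix.{u} n)) (P.coeff 0)⁻¹ ∈ glob K n (a - a) :=
    (Submodule.mem_iInf _).2 fun j => single_mem_supp (sub_self a ▸ zero_mem_cone _) _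
  obtain ⟨ψ, hψ⟩ := exists_hom_mul hQ
  refine ⟨ψ, hom_twist_ext _ _ fun j => ?_⟩
  rw [Scheme.Modules.Hom.comp_app, ConcreteCategory.comp_apply, Scheme.Modules.Hom.id_app, ← hgen j]
  change (secHomSys ψ).app {j} ((secHomSys φ).app {j} ((oTw a).app {j} (gj j))) = (oTw a).app {j} (gj j)
  rw [hPφ {j} (Finset.singleton_nonempty j), hψ {j} (Finset.singleton_nonempty j)]
  refine congrArg ((oTw a).app {j}) (Subtype.ext ?_)
  change AddMonoidAlgebra.single (0 : Expo (Ix.{u} n)) (P.coeff 0)⁻¹ * (P * (gj j : Laurent K (Ix.{u} n))) = _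
  conv_lhs => rw [hPr]
  rw [← mul_assoc, AddMonoidAlgebra.single_mul_single, add_zero, AddMonoidAlgebra.coeff_single]
  simp [hr]
  rw [← AddMonoidAlgebra.one_def, one_mul]

/-- **Splitting off a summand.** -/
theorem exists_retract (hn : 1 ≤ n) (E : (Proj 𝒜).Modules) [E.IsQuasicoherent] (hE : Coh.IsCoh E)
    (hmid : MiddleVanish E) {d : ℤ} (hd : Nontrivial (TH E d n)) (htop : TopVanishAbove E d) :
    ∃ (i : Twist.twist (CohB1.polyGrading n K) (-((n : ℤ) + 1) - d) ⟶ E)
      (r : E ⟶ Twist.twist (CohB1.polyGrading n K) (-((n : ℤ) + 1) - d)), i ≫ r = 𝟙 _ := by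
  obtain ⟨φ, hφ⟩ := exists_hom_ne_zero E hE hd
  obtain ⟨s, -, hs⟩ := exists_homs_span E (d + n + 1) fun i h1 h2 => by
    rcases h2.lt_or_eq with h | h
    · exact hmid _ i h1 h
    · subst h; exact htop _ (by omega)
  have ea : -(d + (n : ℤ) + 1) = -((n : ℤ) + 1) - d := by ring
  obtain ⟨g, hg⟩ : ∃ g, s g ≫ φ ≠ 0 := by
    by_contra h
    push Not at h
    refine hφ (hom_eq_zero_of_chart φ fun j x => ?_)
    have hx : x ∈ Submodule.span Γ(Proj 𝒜, chartMeet K ({j} : Finset (Ix.{u} n)))
        (Set.range fun g => (s g).app (chartMeet K ({j} : Finset (Ix.{u} n))) (genAt (-(d + n + 1)) j)) := by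
      rw [hs j]; exact Submodule.mem_top
    induction hx using Submodule.span_induction with
    | mem y hy =>
      obtain ⟨g, rfl⟩ := hy
      change φ.app _ ((s g).app _ _) = 0
      rw [← ConcreteCategory.comp_apply, ← Scheme.Modules.Hom.comp_app, h g]
      rfl
    | zero => rw [map_zero]
    | add u v _ _ hu hv => rw [map_add, hu, hv, add_zero]
    | smul c u _ hu => rw [Scheme.Modules.Hom.app_smul, hu, smul_zero]
  revert g
  generalize s = s'
  clear hs s
  revert s'
  rw [ea]
  intro s' g hg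
  obtain ⟨ψ, hψ⟩ := exists_comp_eq_id hn (s' g ≫ φ) hg
  exact ⟨s' g, φ ≫ ψ, (Category.assoc _ _ _).symm.trans hψ⟩

end Groth.Agent.ProjCoh
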