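import Groth.Agent.ProjCoh.TwSys
import Groth.Agent.ProjCoh.GlobalSections
import Mathlib.RingTheory.Filtration

/-!
# Very negative twists of torsion-free coherent systems have no sections

Multiplication by a variable is injective on the sections of the twists. Where their dimensions
have stabilised it is bijective, so by Krull's intersection theorem the sections vanish.
-/

universe u

namespace Groth.Agent.ProjCoh

open Finset
open Groth.Agent.CechCmp

variable {R : Type u} [CommRing R] {ι : Type u} [Fintype ι] [DecidableEq ι] [Nonempty ι]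

variable (N : LSys R ι)

open Classical in
/-- Multiplication by `x_j ^ k`. -/
noncomputable def LSys.mulVar (j : ι) (d : ℤ) (k : ℕ) {e : ℤ} (he : d + k = e) : Sys.Hom (N.twSys d) (N.twSys e) where
  app s :=
    if hs : s.Nonempty then
      { toFun := fun x => rat (R := R) (pickIx_mem hs) k j • x
        map_add' := fun x y => smul_add _ _ _
        map_smul' := fun r x => smul_comm _ r x }
    else 0
  nat {s t} h x hs := by
    simp only [dif_pos hs, dif_pos (hs.mono h)]
    change rat (R := R) (pickIx_mem (hs.mono h)) k j • (cmpU (R := R) d h • N.toSys.res h x) =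
      cmpU (R := R) e h • N.toSys.res h (rat (R := R) (pickIx_mem hs) k j • x)
    rw [N.res_smul, smul_smul, smul_smul]
    congr 1
    rw [cmpU_of_nonempty d h hs, cmpU_of_nonempty e h hs]
    refine Subtype.ext ?_
    simp only [Subalgebra.coe_mul, coe_rat, coe_uz, coe_incl, AddMonoidAlgebra.single_mul_single, one_mul, ← he]
    congr 1
    module

/-- Torsion-freeness on the charts. -/
def LSys.TorsionFree : Prop :=
  ∀ (i : ι) (a : reg R ({i} : Finset ι)) (x : N.toSys.obj {i}), a • x = 0 → a = 0 ∨ x = 0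

omit [Nonempty ι] in
lemma rat_ne_zero [Nontrivial R] {s : Finset ι} {i : ι} (hi : i ∈ s) (k : ℕ) (j : ι) : rat (R := R) hi k j ≠ 0 := by
  intro h
  have h1 := congrArg (fun f : reg R s => (f : Laurent R ι).coeff ((k : ℤ) • ev j - (k : ℤ) • ev i)) h
  simp [coe_rat] at h1

omit [Nonempty ι] in
lemma not_isUnit_rat [Nontrivial R] {i j : ι} (h : j ≠ i) : ¬ IsUnit (rat (R := R) (mem_singleton_self i) 1 j) := by
  intro hu
  obtain ⟨v, hv⟩ := hu.exists_right_inv
  have h0 : (v : Laurent R ι) = AddMonoidAlgebra.single (ev i - ev j) 1 := by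
    have h1 := congrArg (fun f : reg R ({i} : Finset ι) =>
      AddMonoidAlgebra.single (ev i - ev j) (1 : R) * (f : Laurent R ι)) hv
    simp only [Subalgebra.coe_mul, coe_rat, OneMemClass.coe_one, mul_one, ← mul_assoc,
      AddMonoidAlgebra.single_mul_single, Nat.cast_one, one_smul] at h1
    rw [show ev i - ev j + (ev j - ev i) = (0 : Expo ι) by abel, ← AddMonoidAlgebra.one_def, one_mul] at h1
    exact h1
  have h2 := mem_reg.1 v.2 (ev i - ev j) (by rw [h0]; simp)
  have h3 := h2.2 j (by simp [ev, h])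
  exact h (Finset.mem_singleton.1 h3)

lemma img_const (σ : Fin 1 → ι) : img σ = {σ 0} := by
  ext x
  refine ⟨fun hx => ?_, fun hx => Finset.mem_singleton.1 hx ▸ mem_img σ 0⟩
  obtain ⟨k, -, rfl⟩ := Finset.mem_image.1 hx
  rw [Subsingleton.elim k 0]
  exact Finset.mem_singleton_self _

lemma LSys.mulVar_app {j : ι} {d : ℤ} {k : ℕ} {e : ℤ} (he : d + k = e) (σ : Fin 1 → ι) (x : N.toSys.obj (img σ)) :
    (N.mulVar j d k he).app (img σ) x = rat (R := R) (mem_img σ 0) k j • x := by
  have hs : (img σ).Nonempty := ⟨σ 0, mem_img σ 0⟩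
  unfold LSys.mulVar
  simp only [dif_pos hs]
  change rat (R := R) (pickIx_mem hs) k j • x = _
  congr 1
  refine Subtype.ext ?_
  have : pickIx (img σ) = σ 0 := Finset.mem_singleton.1 (by rw [← img_const σ]; exact pickIx_mem hs)
  rw [coe_rat, coe_rat, this]

lemma LSys.eq_zero_of_smul (hT : N.TorsionFree) {s : Finset ι} {i : ι} (hs : s = {i}) {a : reg R s} (ha : a ≠ 0)
    {x : N.toSys.obj s} (h : a • x = 0) : x = 0 := by
  subst hs
  exact (hT i a x h).resolve_left ha

lemma LSys.eq_zero_of_forall_dvd [IsNoetherianRing R] [Nontrivial R] (hN : N.FG) (hT : N.TorsionFree)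
    {s : Finset ι} {i j : ι} (hji : j ≠ i) (hs : s = {i}) (hi : i ∈ s) (x : N.toSys.obj s)
    (h : ∀ k : ℕ, ∃ y, x = rat (R := R) hi k j • y) : x = 0 := by
  subst hs
  haveI := isNoetherianRing_reg_singleton (R := R) i
  haveI := hN i
  let t := rat (R := R) (mem_singleton_self i) 1 j
  have hpow : ∀ k : ℕ, t ^ k = rat (R := R) (mem_singleton_self i) k j := fun k => by
    induction k with
    | zero => rw [pow_zero, rat_zero]
    | succ k ih => rw [pow_succ, ih, rat_add]
  have hx : x ∈ (⨅ k : ℕ, Ideal.span {t} ^ k • ⊤ : Submodule (reg R ({i} : Finset ι)) (N.toSys.obj {i})) := by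
    refine (Submodule.mem_iInf _).2 fun k => ?_
    obtain ⟨y, hy⟩ := h k
    rw [Ideal.span_singleton_pow, hy, hpow]
    exact Submodule.smul_mem_smul (Ideal.mem_span_singleton_self _) Submodule.mem_top
  obtain ⟨⟨r, hr⟩, hrx⟩ := (Ideal.mem_iInf_smul_pow_eq_bot_iff _ x).1 hx
  have h1 : (r - 1) • x = 0 := by rw [sub_smul, one_smul, sub_eq_zero]; exact hrx
  rcases hT i _ _ h1 with h2 | h2
  · rw [sub_eq_zero.1 h2, Ideal.mem_span_singleton] at hr
    exact absurd (isUnit_of_dvd_one hr) (not_isUnit_rat hji)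
  · exact h2

lemma cls_zero_eq_zero_iff (S : Sys R ι) (z : S.Z 0) : S.cls 0 z = 0 ↔ (z : S.C 1) = 0 :=
  (S.cls_eq_zero_iff z).trans Sys.mem_B_zero

theorem LSys.injective_mulVar [Nontrivial R] (hT : N.TorsionFree) (j : ι) (d : ℤ) (k : ℕ) {e : ℤ} (he : d + k = e) :
    Function.Injective ((N.mulVar j d k he).mapH 0) := by
  refine (injective_iff_map_eq_zero _).2 fun x hx => ?_
  obtain ⟨z, rfl⟩ := Submodule.mkQ_surjective _ x
  refine (cls_zero_eq_zero_iff _ z).2 (funext fun σ => ?_)
  have h := congrFun ((cls_zero_eq_zero_iff (N.twSys e) ((N.mulVar j d k he).mapZ 0 z)).1 hx) σ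
  change (N.mulVar j d k he).app (img σ) ((z : (N.twSys d).C 1) σ) = 0 at h
  rw [N.mulVar_app he σ] at h
  exact N.eq_zero_of_smul hT (img_const σ) (rat_ne_zero _ k j) h

end Groth.Agent.ProjCoh

namespace Groth.Agent.ProjCoh

open Finset
open Groth.Agent.CechCmp

variable {K : Type u} [Field K] {ι : Type u} [Fintype ι] [DecidableEq ι] [Nonempty ι] [Nontrivial ι]

/-- **The very negative twists have no sections.** -/
theorem LSys.exists_subsingleton_H_zero (N : LSys K ι) (hN : N.FG) (hT : N.TorsionFree) :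
    ∃ m₀ : ℤ, ∀ m, m ≤ m₀ → Subsingleton ((N.twSys m).H 0) := by
  classical
  have hfin : ∀ m, Module.Finite K ((N.twSys m).H 0) := fun m => LSys.finite (N.tw m) hN 0
  have hex : ∃ d : ℕ, ∃ m : ℤ, Module.finrank K ((N.twSys m).H 0) = d := ⟨_, 0, rfl⟩
  obtain ⟨m₁, hm₁⟩ := Nat.find_spec hex
  have hmin : ∀ m, Nat.find hex ≤ Module.finrank K ((N.twSys m).H 0) := fun m => Nat.find_min' hex ⟨m, rfl⟩
  have hsurj : ∀ (j : ι) (k : ℕ), Function.Surjective ((N.mulVar j (m₁ - k) k (sub_add_cancel _ _)).mapH 0) := by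
    intro j k
    have := hfin (m₁ - k)
    have := hfin m₁
    refine (LinearMap.injective_iff_surjective_of_finrank_eq_finrank ?_).1 (N.injective_mulVar hT j _ k _)
    refine le_antisymm (LinearMap.finrank_le_finrank_of_injective (N.injective_mulVar hT j _ k (sub_add_cancel _ _))) ?_
    rw [hm₁]
    exact hmin _
  have h1 : Subsingleton ((N.twSys m₁).H 0) := by
    refine subsingleton_of_forall_eq 0 fun x => ?_
    obtain ⟨z, rfl⟩ := Submodule.mkQ_surjective _ x
    refine (cls_zero_eq_zero_iff _ z).2 (funext fun σ => ?_)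
    obtain ⟨j, hj⟩ := exists_ne (σ 0)
    refine N.eq_zero_of_forall_dvd hN hT hj (img_const σ) (mem_img σ 0) _ fun k => ?_
    obtain ⟨w, hw⟩ := hsurj j k ((N.twSys m₁).cls 0 z)
    obtain ⟨y, rfl⟩ := Submodule.mkQ_surjective _ w
    refine ⟨(y : (N.twSys (m₁ - k)).C 1) σ, ?_⟩
    have h2 : (N.twSys m₁).cls 0 ((N.mulVar j (m₁ - k) k (sub_add_cancel _ _)).mapZ 0 y - z) = 0 := by
      rw [map_sub, sub_eq_zero]
      exact hw
    have h3 := congrFun (sub_eq_zero.1 ((cls_zero_eq_zero_iff _ _).1 h2)) σ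
    rw [← N.mulVar_app (sub_add_cancel m₁ (k : ℤ)) σ]
    exact h3.symm
  refine ⟨m₁, fun m hm => ?_⟩
  obtain ⟨k, hk⟩ := Int.le.dest hm
  exact (N.injective_mulVar hT (Classical.arbitrary ι) m k hk).subsingleton

end Groth.Agent.ProjCoh
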