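import Groth.Agent.ProjCoh.Syzygy
import Groth.Agent.ProjCoh.LowTwist

/-!
# Regularity of a module from that of a hyperplane section
-/

universe u

open CategoryTheory CategoryTheory.Limits AlgebraicGeometry TopologicalSpace Opposite
open scoped Groth.Agent.CohVanish

namespace Groth.Agent.CechCmp.Sys

variable {R : Type u} [CommRing R] {ι : Type u} [DecidableEq ι] {S G Q : Sys R ι}
  {f : Hom S G} {g : Hom G Q}

/-- Surjectivity in the middle of the long exact sequence. -/
theorem SES.surjective_mapH_left (h : SES f g) (p : ℕ) [Subsingleton (Q.H p)] :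
    Function.Surjective (f.mapH p) := by
  intro x
  obtain ⟨z, rfl⟩ := Submodule.mkQ_surjective _ x
  have hB := (Q.cls_eq_zero_iff (g.mapZ p z)).1 (Subsingleton.elim _ 0)
  change g.mapC (p + 1) (z : G.C (p + 1)) ∈ Q.B p at hB
  obtain ⟨e, he, heB⟩ : ∃ e : G.C (p + 1), g.mapC (p + 1) e = g.mapC (p + 1) z ∧ e ∈ G.B p := by
    cases p with
    | zero => exact ⟨0, by rw [map_zero]; exact ((Submodule.mem_bot R).1 hB).symm, zero_mem _⟩
    | succ q =>
      obtain ⟨w, hw⟩ := hB
      obtain ⟨w', rfl⟩ := h.surjective_mapC q w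
      exact ⟨G.d (q + 1) w', by rw [g.mapC_d, hw], ⟨w', rfl⟩⟩
  obtain ⟨c, hc⟩ := h.exact_mapC p ((z : G.C (p + 1)) - e) (by rw [map_sub (g.mapC (p + 1)), he, sub_self])
  have hde : G.d (p + 1) e = 0 := by
    cases p with
    | zero => rw [(Submodule.mem_bot R).1 heB, map_zero]
    | succ q =>
      obtain ⟨w, rfl⟩ := heB
      exact d_d _ G _
  have hcz : c ∈ S.Z p := LinearMap.mem_ker.2 (h.injective_mapC (p + 1) (by
    rw [f.mapC_d, hc, map_sub, LinearMap.mem_ker.1 z.2, hde, sub_zero, map_zero]))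
  refine ⟨S.cls p ⟨c, hcz⟩, ?_⟩
  rw [f.mapH_cls]
  change G.cls p _ = G.cls p z
  rw [← sub_eq_zero, ← map_sub, cls_eq_zero_iff]
  change f.mapC (p + 1) c - (z : G.C (p + 1)) ∈ G.B p
  rw [hc, sub_sub_cancel_left]
  exact Submodule.neg_mem _ heB

/-- Injectivity in the next degree from surjectivity. -/
theorem SES.injective_mapH_of_surjective (h : SES f g) (p : ℕ) (hs : Function.Surjective (g.mapH p)) :
    Function.Injective (f.mapH (p + 1)) := by
  refine (injective_iff_map_eq_zero _).2 fun x hx => ?_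
  obtain ⟨a, rfl⟩ := Submodule.mkQ_surjective _ x
  obtain ⟨b, hb⟩ := (G.cls_eq_zero_iff (f.mapZ (p + 1) a)).1 hx
  change G.d (p + 1) b = f.mapC (p + 2) a at hb
  have hgb : g.mapC (p + 1) b ∈ Q.Z p := LinearMap.mem_ker.2 (by rw [← g.mapC_d, hb, h.mapC_comp])
  obtain ⟨y, hy⟩ := hs (Q.cls p ⟨_, hgb⟩)
  obtain ⟨c, rfl⟩ := Submodule.mkQ_surjective _ y
  have e : Q.cls p (g.mapZ p c - ⟨_, hgb⟩) = 0 := by
    rw [map_sub, sub_eq_zero]
    exact hy
  have hB := (Q.cls_eq_zero_iff _).1 e
  change g.mapC (p + 1) (c : G.C (p + 1)) - g.mapC (p + 1) b ∈ Q.B p at hB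
  rw [← map_sub] at hB
  refine (S.cls_eq_zero_iff a).2 ?_
  obtain ⟨d, hd⟩ : ∃ d : G.C (p + 1), g.mapC (p + 1) d = g.mapC (p + 1) (b - c) ∧ G.d (p + 1) d = 0 := by
    have hB' : g.mapC (p + 1) (b - (c : G.C (p + 1))) ∈ Q.B p := by
      rw [← neg_sub, map_neg]
      exact Submodule.neg_mem _ hB
    cases p with
    | zero => exact ⟨0, by rw [map_zero]; exact ((Submodule.mem_bot R).1 hB').symm, map_zero _⟩
    | succ q =>
      obtain ⟨w, hw⟩ := hB'
      obtain ⟨w', rfl⟩ := h.surjective_mapC q w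
      exact ⟨G.d (q + 1) w', by rw [g.mapC_d, hw], d_d _ G _⟩
  obtain ⟨c', hc'⟩ := h.exact_mapC p (b - c - d) (by rw [map_sub (g.mapC (p + 1)), hd.1, sub_self])
  refine ⟨c', h.injective_mapC (p + 1) ?_⟩
  rw [f.mapC_d, hc', map_sub, map_sub, hd.2, sub_zero, LinearMap.mem_ker.1 c.2, sub_zero, hb]

/-- Surjectivity from injectivity in the next degree. -/
theorem SES.surjective_mapH_of_injective (h : SES f g) (p : ℕ) (hi : Function.Injective (f.mapH (p + 1))) :
    Function.Surjective (g.mapH p) := by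
  intro x
  obtain ⟨z, rfl⟩ := Submodule.mkQ_surjective _ x
  obtain ⟨b, hb⟩ := h.surjective_mapC p (z : Q.C (p + 1))
  obtain ⟨a, ha⟩ := h.exact_mapC (p + 1) (G.d (p + 1) b) (by
    rw [g.mapC_d, hb]; exact LinearMap.mem_ker.1 z.2)
  have haz : a ∈ S.Z (p + 1) := LinearMap.mem_ker.2 (h.injective_mapC (p + 2) (by
    rw [f.mapC_d, ha, d_d, map_zero]))
  have h0 : S.cls (p + 1) ⟨a, haz⟩ = 0 := hi (by
    rw [map_zero, f.mapH_cls, cls_eq_zero_iff]
    exact ⟨b, ha.symm⟩)
  obtain ⟨c, hc⟩ := (S.cls_eq_zero_iff ⟨a, haz⟩).1 h0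
  change S.d (p + 1) c = a at hc
  have hcyc : b - f.mapC (p + 1) c ∈ G.Z p := LinearMap.mem_ker.2 (by
    rw [map_sub, ← f.mapC_d, hc, ha, sub_self])
  refine ⟨G.cls p ⟨_, hcyc⟩, ?_⟩
  rw [g.mapH_cls]
  congr 1
  refine Subtype.ext ?_
  change g.mapC (p + 1) (b - f.mapC (p + 1) c) = z
  rw [map_sub, h.mapC_comp, hb, sub_zero]

end Groth.Agent.CechCmp.Sys

namespace Groth.Agent.ProjCoh

open Groth.Agent.CechCmp Groth.Agent.CohVanish

section LinAlg

variable {K : Type u} [Field K] {U V W : Type u} [AddCommGroup U] [Module K U] [AddCommGroup V] [Module K V]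
  [AddCommGroup W] [Module K W]

theorem injective_of_finrank_equiv (f : U →ₗ[K] W) (e : V ≃ₗ[K] U) (hW : Module.Finite K W) (hV : Module.Finite K V)
    (h : Module.finrank K W = Module.finrank K V) (hf : Function.Surjective f) : Function.Injective f :=
  haveI : Module.Finite K U := Module.Finite.equiv e
  (LinearMap.injective_iff_surjective_of_finrank_eq_finrank (e.finrank_eq.symm.trans h.symm)).2 hf

theorem finrank_eq_of_bijective (f : U →ₗ[K] W) (e : V ≃ₗ[K] U) (hi : Function.Injective f)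
    (hs : Function.Surjective f) : Module.finrank K W = Module.finrank K V :=
  (e.trans (LinearEquiv.ofBijective f ⟨hi, hs⟩)).finrank_eq.symm

end LinAlg

variable {n : ℕ} {K : Type u} [Field K]

local notation "𝒜" => CohB1.polyGrading n K

section

variable {T F G : (Proj (CohB1.polyGrading n K)).Modules} [T.IsQuasicoherent] [F.IsQuasicoherent]
  [G.IsQuasicoherent] {k : T ⟶ F} {q : F ⟶ G} {w : k ≫ q = 0}

theorem injective_mapT_of_surjective (h : (ShortComplex.mk k q w).ShortExact) (d : ℤ) {p r : ℕ} (hp : p + 1 = r)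
    (hs : Function.Surjective (mapT q d p)) : Function.Injective (mapT k d r) := by
  subst hp
  exact (sys_ses_of_shortExact h d).injective_mapH_of_surjective p hs

theorem surjective_mapT_of_injective (h : (ShortComplex.mk k q w).ShortExact) (d : ℤ) {p r : ℕ} (hp : p + 1 = r)
    (hi : Function.Injective (mapT k d r)) : Function.Surjective (mapT q d p) := by
  subst hp
  exact (sys_ses_of_shortExact h d).surjective_mapH_of_injective p hi

lemma mulVar_natural (φ : F ⟶ G) (i : Ix.{u} n) (d : ℤ) {e : ℤ} (he : d + (1 : ℕ) = e) (x : TH F d 0) :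
    ((ofModule G).mulVar i d 1 he).mapH 0 (mapT φ d 0 x) = mapT φ e 0 (((ofModule F).mulVar i d 1 he).mapH 0 x) := by
  obtain ⟨z, rfl⟩ := Submodule.mkQ_surjective _ x
  refine congrArg (((ofModule G).twSys e).cls 0) (Subtype.ext (funext fun σ => ?_))
  change ((ofModule G).mulVar i d 1 he).app (img σ) ((secHomSys φ).app (img σ) _) =
    (secHomSys φ).app (img σ) (((ofModule F).mulVar i d 1 he).app (img σ) _)
  refine ((ofModule G).mulVar_app he σ _).trans (Eq.trans ?_
    (congrArg ((secHomSys φ).app (img σ)) ((ofModule F).mulVar_app he σ _)).symm)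
  exact (secApp_linear φ _ _ _).symm

/-- Surjectivity on sections propagates to the next twist. -/
theorem surjective_mapT_step (r : ℤ)
    (h : ∀ j : ℕ, 2 ≤ j → Subsingleton (TH G (r - j) (j - 1))) (hs : Function.Surjective (mapT q (r - 1) 0)) :
    Function.Surjective (mapT q r 0) := by
  intro x
  obtain ⟨z, rfl⟩ := Submodule.mkQ_surjective _ x
  obtain ⟨w, hw⟩ := exists_sum_xi G r h z
  choose y hy using fun i => hs (((ofModule G).twSys (r - 1)).cls 0 (w i))
  have he : r - 1 + ((1 : ℕ) : ℤ) = r := by simp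
  refine ⟨∑ i, ((ofModule F).mulVar i (r - 1) 1 he).mapH 0 (y i), ?_⟩
  rw [map_sum]
  simp only [← mulVar_natural, hy]
  change ∑ i, ((ofModule G).twSys r).cls 0 (((ofModule G).mulVar i (r - 1) 1 he).mapZ 0 (w i)) = _
  rw [← map_sum]
  refine congrArg (((ofModule G).twSys r).cls 0) (Subtype.ext (funext fun σ => ?_))
  rw [Submodule.coe_sum, Finset.sum_apply]
  refine Eq.trans ?_ (hw σ).symm
  refine Finset.sum_congr rfl fun i _ => ?_
  change ((ofModule G).mulVar i (r - 1) 1 he).app (img σ) _ = _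
  rw [(ofModule G).mulVar_app he σ]
  change theta K (img σ) (rat (R := K) (mem_img σ 0) 1 i) • asSec G (img σ) _ = _
  congr 2
  have hs' : (img σ).Nonempty := ⟨σ 0, mem_img σ 0⟩
  rw [xi, dif_pos hs']
  refine Subtype.ext ?_
  rw [coe_rat, coe_rat, show pickIx (img σ) = σ 0 from
    Finset.mem_singleton.1 (by rw [← img_const σ]; exact pickIx_mem hs')]

/-- Surjectivity on sections from a twist on. -/
theorem surjective_mapT_from {m : ℤ} (hG : RegT G m) {j : ℤ} (hj : m ≤ j) (h0 : Function.Surjective (mapT q j 0)) (t : ℕ) :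
    Function.Surjective (mapT q (j + t) 0) := by
  induction t with
  | zero => rwa [Nat.cast_zero, add_zero]
  | succ t ih =>
    refine surjective_mapT_step (j + (t + 1 : ℕ)) (fun a ha => hG.propagate (a - 1) _ (by omega) (by omega)) ?_
    rwa [show j + ((t + 1 : ℕ) : ℤ) - 1 = j + t by push_cast; ring]

variable (hS : (ShortComplex.mk k q w).ShortExact) (e : ∀ (d : ℤ) (p : ℕ), TH F (d - 1) p ≃ₗ[K] TH T d p)
  (hF : Coh.IsCoh F) {m : ℤ} (hG : RegT G m)

include hS e hF hG

theorem hyperplane_vanish (i : ℕ) (j : ℤ) (hi : 2 ≤ i) (hj : m - i ≤ j) : Subsingleton (TH F j i) := by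
  obtain ⟨d₀, hd₀⟩ := exists_regT F hF
  have key : ∀ (t : ℕ) (j : ℤ), m - i ≤ j → d₀ - i ≤ j + t → Subsingleton (TH F j i) := by
    intro t
    induction t with
    | zero => exact fun j _ h => hd₀.propagate i j (by omega) (by simpa using h)
    | succ t ih =>
      intro j h1 h2
      haveI := ih (j + 1) (by omega) (by push_cast at h2; omega)
      obtain ⟨p, rfl⟩ : ∃ p, i = p + 1 := ⟨i - 1, by omega⟩
      haveI : Subsingleton (TH G (j + 1) p) := hG.propagate p (j + 1) (by omega) (by push_cast at h1; omega)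
      haveI := subsingleton_TH_succ_of_ses hS (j + 1) p
      have e' := e (j + 1) (p + 1)
      rw [add_sub_cancel_right] at e'
      exact e'.injective.subsingleton
  exact key (d₀ - i - j).toNat j hj (by omega)

theorem hyperplane_surjective (j : ℤ) (hj : m - 1 ≤ j) : Function.Surjective (mapT k j 1) := by
  haveI := hG.propagate 1 j le_rfl (by push_cast; omega)
  exact (sys_ses_of_shortExact hS j).surjective_mapH_left 1

theorem hyperplane_finrank_le (j : ℤ) (hj : m - 1 ≤ j) :
    Module.finrank K (TH F j 1) ≤ Module.finrank K (TH F (j - 1) 1) := by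
  haveI := finite_TH F hF (j - 1) 1
  haveI : Module.Finite K (TH T j 1) := Module.Finite.equiv (e j 1)
  rw [(e j 1).finrank_eq, ← LinearMap.finrank_range_add_finrank_ker (mapT k j 1),
    LinearMap.range_eq_top.2 (hyperplane_surjective hS e hF hG j hj), finrank_top]
  exact Nat.le_add_right _ _

theorem hyperplane_surjective_zero (j : ℤ) (hj : m - 1 ≤ j)
    (heq : Module.finrank K (TH F j 1) = Module.finrank K (TH F (j - 1) 1)) : Function.Surjective (mapT q j 0) :=
  surjective_mapT_of_injective hS j (zero_add 1)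
    (injective_of_finrank_equiv (U := TH T j 1) (V := TH F (j - 1) 1) (W := TH F j 1) (mapT k j 1) (e j 1)
      (finite_TH F hF j 1) (finite_TH F hF (j - 1) 1) heq (hyperplane_surjective hS e hF hG j hj))

theorem hyperplane_finrank_eq (j : ℤ) (hj : m - 1 ≤ j) (hs : Function.Surjective (mapT q j 0)) :
    Module.finrank K (TH F j 1) = Module.finrank K (TH F (j - 1) 1) :=
  finrank_eq_of_bijective (U := TH T j 1) (V := TH F (j - 1) 1) (W := TH F j 1) (mapT k j 1) (e j 1)
    (injective_mapT_of_surjective hS j (zero_add 1) hs) (hyperplane_surjective hS e hF hG j hj)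

theorem hyperplane_zero_of_eq (j : ℤ) (hj : m ≤ j)
    (heq : Module.finrank K (TH F j 1) = Module.finrank K (TH F (j - 1) 1)) :
    Module.finrank K (TH F (j - 1) 1) = 0 := by
  have hs : ∀ t : ℕ, Function.Surjective (mapT q (j + t) 0) :=
    surjective_mapT_from hG hj (hyperplane_surjective_zero hS e hF hG j (by omega) heq)
  have hstep : ∀ t : ℕ, Module.finrank K (TH F (j + t) 1) = Module.finrank K (TH F (j + t - 1) 1) := fun t =>
    hyperplane_finrank_eq hS e hF hG (j + t) (by omega) (hs t)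
  have hconst : ∀ t : ℕ, Module.finrank K (TH F (j + t - 1) 1) = Module.finrank K (TH F (j - 1) 1) := by
    intro t
    induction t with
    | zero => rw [Nat.cast_zero, add_zero]
    | succ t ih => rw [← ih, ← hstep t, show j + ((t + 1 : ℕ) : ℤ) - 1 = j + t by push_cast; ring]
  obtain ⟨d₀, hd₀⟩ := exists_regT F hF
  haveI := hd₀.propagate 1 (j + (d₀ - j).toNat - 1) le_rfl (by push_cast; omega)
  rw [← hconst (d₀ - j).toNat]
  exact Module.finrank_zero_of_subsingleton

theorem hyperplane_finrank_bound (t : ℕ) :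
    Module.finrank K (TH F (m - 1 + t) 1) ≤ Module.finrank K (TH F (m - 1) 1) - t := by
  induction t with
  | zero => rw [Nat.cast_zero, add_zero, Nat.sub_zero]
  | succ t ih =>
    have h1 := hyperplane_finrank_le hS e hF hG (m - 1 + (t + 1 : ℕ)) (by omega)
    rcases h1.lt_or_eq with h | h
    · have : m - 1 + ((t + 1 : ℕ) : ℤ) - 1 = m - 1 + t := by push_cast; ring
      rw [this] at h
      omega
    · have h2 := hyperplane_zero_of_eq hS e hF hG (m - 1 + (t + 1 : ℕ)) (by omega) h
      omega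

theorem hyperplane_vanish_one (j : ℤ) (hj : m - 1 + (Module.finrank K (TH F (m - 1) 1) : ℤ) ≤ j) :
    Subsingleton (TH F j 1) := by
  obtain ⟨t, ht⟩ : ∃ t : ℕ, j = m - 1 + t := ⟨(j - (m - 1)).toNat, by omega⟩
  subst ht
  haveI := finite_TH F hF (m - 1 + t) 1
  have := hyperplane_finrank_bound hS e hF hG t
  exact (Module.finrank_zero_iff (R := K)).1 (by omega)

end

/-- The cokernel sequence of a monomorphism. -/
theorem shortExact_cokernel {C : Type*} [Category C] [Abelian C] {T F : C} (k : T ⟶ F) [Mono k] :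
    (ShortComplex.mk k (cokernel.π k) (cokernel.condition k)).ShortExact where
  exact := ShortComplex.exact_of_g_is_cokernel _ (cokernelIsCokernel k)

/-- The twists of `F(-1)`. -/
theorem exists_shift_equiv (F : (Proj 𝒜).Modules) [F.IsQuasicoherent]
    [hT : (CohB1.tensorMod F (Twist.twist (CohB1.polyGrading n K) (-1))).IsQuasicoherent] (d : ℤ) (p : ℕ) :
    Nonempty (TH F (d - 1) p ≃ₗ[K] TH (CohB1.tensorMod F (Twist.twist (CohB1.polyGrading n K) (-1))) d p) := by
  rw [show d - 1 = -1 + d by ring]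
  exact ⟨LinearEquiv.ofBijective ((twTwHom F (-1) d hT).mapH p)
    (bijective_mapH (twTwHom F (-1) d hT) (fun s hs => twModHom_bijective F (-1) s hs) p)⟩

/-- The dimensions of the twists in Čech cohomology are those of the twisted modules. -/
theorem finrank_HH_twist (F : (Proj 𝒜).Modules) [F.IsQuasicoherent] (d : ℤ) (p : ℕ) :
    Module.finrank K (Coh.HH (CohB1.ProjSpace n K) (CohB1.tensorMod F (Twist.twistProjSpace n K d)) p) =
      Module.finrank K (TH F d p) := by
  let T : (CohB1.ProjSpace n K).Modules := CohB1.tensorMod F (Twist.twistProjSpace n K d)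
  haveI hT : T.IsQuasicoherent := isQuasicoherent_tensor_of_gen F (locFreeGen_twist d)
  obtain ⟨e⟩ := nonempty_HH_linearEquiv (A := K) (X := CohB1.ProjSpace n K) T (chartU K)
    iSup_chartU (fun s hs => isAffineOpen_chartMeet s hs) p
  exact e.finrank_eq.trans (twModH F d p).finrank_eq.symm

/-- Regularity of a module with `m`-regular quotient by `F(-1)`. -/
theorem hyperplane_regularity (F : (Proj 𝒜).Modules) (hF : Coh.IsCoh F)
    (k : CohB1.tensorMod F (Twist.twist (CohB1.polyGrading n K) (-1)) ⟶ F) [Mono k] (m : ℤ)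
    (hG : Curv2.IsMRegular K n (cokernel k) m) :
    (∀ (i : ℕ) (j : ℤ), 2 ≤ i → m - i ≤ j →
        Subsingleton (Coh.HH (CohB1.ProjSpace n K) (CohB1.tensorMod F (Twist.twistProjSpace n K j)) i)) ∧
    (∀ j : ℤ, m - 1 ≤ j →
        Module.finrank K (Coh.HH (CohB1.ProjSpace n K) (CohB1.tensorMod F (Twist.twistProjSpace n K j)) 1) ≤
          Module.finrank K (Coh.HH (CohB1.ProjSpace n K) (CohB1.tensorMod F (Twist.twistProjSpace n K (j - 1))) 1)) ∧
    (∀ j : ℤ, m - 1 + (Module.finrank K (Coh.HH (CohB1.ProjSpace n K)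
          (CohB1.tensorMod F (Twist.twistProjSpace n K (m - 1))) 1) : ℤ) ≤ j →
        Subsingleton (Coh.HH (CohB1.ProjSpace n K) (CohB1.tensorMod F (Twist.twistProjSpace n K j)) 1)) ∧
    Curv2.IsMRegular K n F (m + Module.finrank K (Coh.HH (CohB1.ProjSpace n K)
        (CohB1.tensorMod F (Twist.twistProjSpace n K (m - 1))) 1)) := by
  haveI := hF.1
  have hT : Coh.IsCoh (CohB1.tensorMod F (Twist.twist (CohB1.polyGrading n K) (-1))) :=
    isCoh_tensor_of_gen F hF (locFreeGen_twist (-1))
  haveI := hT.1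
  have hC := QCohLib.isCoh_cokernel k hT.1 hF
  haveI := hC.1
  have hS := shortExact_cokernel k
  let e := fun d p => (exists_shift_equiv F d p).some
  have hG' := (regT_iff (cokernel k) m).1 hG
  simp only [finrank_HH_twist, regT_iff]
  refine ⟨fun i j hi hj => (subsingleton_TH_iff F j i).2 (hyperplane_vanish hS e hF hG' i j hi hj),
    fun j hj => hyperplane_finrank_le hS e hF hG' j hj,
    fun j hj => (subsingleton_TH_iff F j 1).2 (hyperplane_vanish_one hS e hF hG' j hj), fun i h1 h2 => ?_⟩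
  rcases Nat.lt_or_ge i 2 with h | h
  · obtain rfl : i = 1 := by omega
    exact hyperplane_vanish_one hS e hF hG' _ (by omega)
  · exact hyperplane_vanish hS e hF hG' i _ h (by omega)

end Groth.Agent.ProjCoh
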