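import Groth.Agent.ProjCoh.TwSys

/-!
# The Koszul-type resolution of a system on projective space

For a module `P` with scalars `c i`, one of which is `1`, the tuples `(Fin q → ι) → P` form an exact
complex resolving `P`. On a system of projective space this gives an exact complex
`⋯ → N(r-2)^{ι²} → N(r-1)^{ι} → N(r) → 0`.
-/

universe u

namespace Groth.Agent.CechCmp.Sys

open Finset

variable {R : Type u} [CommRing R] {ι : Type u} [DecidableEq ι]

/-- Powers of a system. -/
noncomputable abbrev pow (S : Sys R ι) (κ : Type u) : Sys R ι where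
  obj s := ModuleCat.of R (κ → S.obj s)
  res h := LinearMap.pi fun c => S.res h ∘ₗ LinearMap.proj c
  res_refl _ x := funext fun c => S.res_refl _ (x c)
  res_res _ _ x := funext fun c => S.res_res _ _ (x c)

lemma mem_B_zero {S : Sys R ι} {c : S.C 1} : c ∈ S.B 0 ↔ c = 0 := Submodule.mem_bot R

theorem subsingleton_pow_H (S : Sys R ι) (κ : Type u) (p : ℕ) [Subsingleton (S.H p)] :
    Subsingleton ((S.pow κ).H p) := by
  refine subsingleton_of_forall_eq 0 fun x => ?_
  obtain ⟨z, rfl⟩ := Submodule.mkQ_surjective _ x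
  refine ((S.pow κ).cls_eq_zero_iff z).2 ?_
  let pr : ∀ c : κ, Hom (S.pow κ) S := fun c =>
    { app := fun s => LinearMap.proj c, nat := fun _ _ _ => rfl }
  have hc : ∀ c, (pr c).mapC (p + 1) (z : (S.pow κ).C (p + 1)) ∈ S.B p := fun c =>
    (S.cls_eq_zero_iff ((pr c).mapZ p z)).1 (Subsingleton.elim _ _)
  cases p with
  | zero =>
    exact mem_B_zero.2 (funext fun σ => funext fun c => congrFun (mem_B_zero.1 (hc c)) σ)
  | succ q =>
    choose b hb using hc
    refine ⟨fun σ c => b c σ, funext fun σ => funext fun c => ?_⟩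
    refine Eq.trans ?_ (congrFun (hb c) σ)
    exact congrFun ((pr c).mapC_d q (fun σ c => b c σ)) σ

/-- Surjectivity on global sections from a vanishing `H¹`. -/
theorem SES.surjective_mapH {S G Q : Sys R ι} {f : Hom S G} {g : Hom G Q} (h : SES f g) (p : ℕ)
    [Subsingleton (S.H (p + 1))] : Function.Surjective (g.mapH p) := fun x => by
  obtain ⟨z, rfl⟩ := Submodule.mkQ_surjective _ x
  obtain ⟨b, hb⟩ := h.surjective_mapC p (z : Q.C (p + 1))
  obtain ⟨a, ha⟩ := h.exact_mapC (p + 1) (G.d (p + 1) b) (by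
    rw [g.mapC_d, hb]; exact LinearMap.mem_ker.1 z.2)
  have haz : a ∈ S.Z (p + 1) := LinearMap.mem_ker.2 (h.injective_mapC (p + 2) (by
    rw [f.mapC_d, ha, d_d, map_zero]))
  obtain ⟨c, hc⟩ := (S.cls_eq_zero_iff ⟨a, haz⟩).1 (Subsingleton.elim _ 0)
  change S.d (p + 1) c = a at hc
  have hcyc : b - f.mapC (p + 1) c ∈ G.Z p := LinearMap.mem_ker.2 (by
    rw [map_sub, ← f.mapC_d, hc, ha, sub_self])
  refine ⟨G.cls p ⟨_, hcyc⟩, congrArg (Q.cls p) (Subtype.ext ?_)⟩
  change g.mapC (p + 1) (b - f.mapC (p + 1) c) = z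
  rw [map_sub, h.mapC_comp, hb, sub_zero]

end Groth.Agent.CechCmp.Sys

namespace Groth.Agent.ProjCoh

open Finset
open Groth.Agent.CechCmp

section LinearAlgebra

variable {A : Type u} [CommRing A] {ι : Type u} [Fintype ι] {P : Type u} [AddCommGroup P] [Module A P]

/-- The differential on tuples. -/
noncomputable def kd (c : ι → A) :
    (q : ℕ) → (((Fin (q + 1) → ι) → P) →ₗ[A] ((Fin q → ι) → P))
  | 0 => LinearMap.pi fun T => ∑ i, c i • LinearMap.proj (Fin.cons i T : Fin 1 → ι)
  | q + 1 => LinearMap.pi fun T =>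
      (∑ i, c i • LinearMap.proj (Fin.cons i T : Fin (q + 2) → ι)) -
        LinearMap.proj (Fin.tail T) ∘ₗ kd c q ∘ₗ
          LinearMap.funLeft A P fun U : Fin (q + 1) → ι => (Fin.cons (T 0) U : Fin (q + 2) → ι)

variable (c : ι → A)

lemma kd_zero (v : (Fin 1 → ι) → P) (T : Fin 0 → ι) : kd c 0 v T = ∑ i, c i • v (Fin.cons i T) := by
  simp [kd]

lemma kd_succ (q : ℕ) (v : (Fin (q + 2) → ι) → P) (a : ι) (U : Fin q → ι) :
    kd c (q + 1) v (Fin.cons a U) =
      ∑ i, c i • v (Fin.cons i (Fin.cons a U)) - kd c q (fun U' => v (Fin.cons a U')) U := by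
  simp only [kd, LinearMap.pi_apply, LinearMap.sub_apply, LinearMap.sum_apply, LinearMap.smul_apply,
    LinearMap.proj_apply, LinearMap.comp_apply, Fin.tail_cons, Fin.cons_zero]
  rfl

/-- The differential squares to zero. -/
theorem kd_kd (q : ℕ) (v : (Fin (q + 2) → ι) → P) : kd c q (kd c (q + 1) v) = 0 := by
  induction q with
  | zero =>
    funext T
    rw [kd_zero]
    simp only [kd_succ, kd_zero, smul_sub, Finset.sum_sub_distrib, Pi.zero_apply, sub_eq_zero,
      Finset.smul_sum]
    rw [Finset.sum_comm]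
    exact Finset.sum_congr rfl fun i _ => Finset.sum_congr rfl fun j _ => smul_comm _ _ _
  | succ q ih =>
    funext T
    obtain ⟨b, U, rfl⟩ : ∃ b U, T = Fin.cons b U := ⟨T 0, Fin.tail T, (Fin.cons_self_tail T).symm⟩
    rw [kd_succ]
    -- the terms of the inner differential
    have e1 : (fun U' : Fin (q + 1) → ι => kd c (q + 2) v (Fin.cons b U')) =
        (∑ i, c i • fun U' : Fin (q + 1) → ι => v (Fin.cons i (Fin.cons b U'))) -
          kd c (q + 1) (fun U'' => v (Fin.cons b U'')) := by
      funext U'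
      rw [kd_succ]
      simp only [Pi.sub_apply, Finset.sum_apply, Pi.smul_apply]
    have e2 : ∀ a, kd c (q + 2) v (Fin.cons a (Fin.cons b U)) =
        ∑ i, c i • v (Fin.cons i (Fin.cons a (Fin.cons b U))) -
          (∑ i, c i • v (Fin.cons a (Fin.cons i (Fin.cons b U))) -
            kd c q (fun U' => v (Fin.cons a (Fin.cons b U'))) U) := fun a => by
      rw [kd_succ, kd_succ]
    rw [e1, map_sub, ih, sub_zero, map_sum, Finset.sum_apply]
    simp only [e2, map_smul, Pi.smul_apply, smul_sub, Finset.sum_sub_distrib, Finset.smul_sum, Pi.zero_apply]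
    rw [Finset.sum_comm (f := fun a i => c a • c i • v (Fin.cons a (Fin.cons i (Fin.cons b U))))]
    simp only [smul_comm (c _) (c _)]
    abel

variable [DecidableEq ι] {e : ι} (he : c e = 1)

/-- The contracting homotopy. -/
noncomputable def kh (e : ι) (q : ℕ) (v : (Fin q → ι) → P) : (Fin (q + 1) → ι) → P :=
  fun T => if T 0 = e then v (Fin.tail T) else 0

include he in
theorem kd_kh_zero (v : (Fin 0 → ι) → P) : kd c 0 (kh e 0 v) = v := by
  funext T
  rw [kd_zero, Finset.sum_eq_single e]
  · simp [kh, he]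
  · intro i _ hi; simp [kh, hi]
  · simp

include he in
theorem kd_kh (q : ℕ) (v : (Fin (q + 1) → ι) → P) :
    kd c (q + 1) (kh e (q + 1) v) + kh e q (kd c q v) = v := by
  funext T
  obtain ⟨a, U, rfl⟩ : ∃ a U, T = Fin.cons a U := ⟨T 0, Fin.tail T, (Fin.cons_self_tail T).symm⟩
  rw [Pi.add_apply, kd_succ, Finset.sum_eq_single e]
  · have e1 : (fun U' : Fin (q + 1) → ι => kh e (q + 1) v (Fin.cons a U')) = if a = e then v else 0 := by
      funext U'
      split_ifs with h <;> simp [kh, h]
    rw [e1]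
    by_cases h : a = e
    · subst h
      simp [kh, he]
    · simp [kh, he, h]
  · intro i _ hi; simp [kh, hi]
  · simp

include he in
theorem kd_surjective_zero : Function.Surjective (kd (P := P) c 0) := fun v => ⟨_, kd_kh_zero c he v⟩

include he in
theorem kd_exact (q : ℕ) (v : (Fin (q + 1) → ι) → P) (hv : kd c q v = 0) :
    ∃ w, kd c (q + 1) w = v := by
  refine ⟨kh e (q + 1) v, ?_⟩
  have := kd_kh c he q v
  rw [hv, show kh (P := P) e q 0 = 0 from funext fun T => by simp [kh], add_zero] at this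
  exact this

end LinearAlgebra

variable {R : Type u} [CommRing R] {ι : Type u} [Fintype ι] [DecidableEq ι] [Nonempty ι]

open Classical in
/-- `x_i/x_{pick s}`. -/
noncomputable def xi (s : Finset ι) (i : ι) : reg R s :=
  if hs : s.Nonempty then rat (pickIx_mem hs) 1 i else 0

lemma xi_pick {s : Finset ι} (hs : s.Nonempty) : xi (R := R) s (pickIx s) = 1 := by
  rw [xi, dif_pos hs, rat_self]

/-- Multiplication by a variable raises the twist by one. -/
lemma xi_mul_cmpU {s t : Finset ι} (h : s ⊆ t) (hs : s.Nonempty) (e : ℤ) (i : ι) :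
    cmpU (R := R) (e + 1) h * incl h (xi s i) = xi t i * cmpU e h := by
  rw [cmpU_of_nonempty _ h hs, cmpU_of_nonempty _ h hs, xi, xi, dif_pos hs, dif_pos (hs.mono h), incl_rat]
  refine Subtype.ext ?_
  simp only [Subalgebra.coe_mul, coe_rat, coe_uz, AddMonoidAlgebra.single_mul_single, one_mul]
  congr 1
  simp only [Nat.cast_one]
  module

lemma kd_nat {A B : Type u} [CommRing A] [CommRing B] {P Q : Type u} [AddCommGroup P] [Module A P]
    [AddCommGroup Q] [Module B Q] (c : ι → A) (c' : ι → B) (f g : P →+ Q)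
    (h : ∀ i x, g (c i • x) = c' i • f x) :
    ∀ (q : ℕ) (v : (Fin (q + 1) → ι) → P) (T : Fin q → ι),
      g (kd c q v T) = kd c' q (fun U => f (v U)) T := by
  intro q
  induction q with
  | zero => intro v T; simp only [kd_zero, map_sum, h]
  | succ q ih =>
    intro v T
    obtain ⟨a, U, rfl⟩ : ∃ a U, T = Fin.cons a U := ⟨T 0, Fin.tail T, (Fin.cons_self_tail T).symm⟩
    rw [kd_succ, kd_succ, map_sub, map_sum, ih]
    simp only [h]

namespace LSys

variable (N : LSys R ι) (r : ℤ)

/-- The terms of the resolution. -/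
noncomputable abbrev kSys (q : ℕ) : Sys R ι := (N.twSys (r - q)).pow (Fin q → ι)

/-- The differential of the resolution on one set. -/
noncomputable def kApp (q : ℕ) (s : Finset ι) : (N.kSys r (q + 1)).obj s →ₗ[R] (N.kSys r q).obj s :=
  ((kd (P := N.toSys.obj s) (xi (R := R) s) q).restrictScalars R :)

/-- The differential of the resolution. -/
noncomputable def kHom (q : ℕ) : Sys.Hom (N.kSys r (q + 1)) (N.kSys r q) where
  app := N.kApp r q
  nat {s t} h v hs := funext fun T => by
    let f : N.toSys.obj s →+ N.toSys.obj t := ((N.twSys (r - (q + 1 : ℕ))).res h).toAddMonoidHom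
    let g : N.toSys.obj s →+ N.toSys.obj t := ((N.twSys (r - q)).res h).toAddMonoidHom
    refine (kd_nat (xi (R := R) s) (xi (R := R) t) f g (fun i x => ?_) q v T).symm
    change cmpU (R := R) (r - q) h • N.toSys.res h (xi (R := R) s i • x) =
      xi (R := R) t i • (cmpU (R := R) (r - (q + 1 : ℕ)) h • N.toSys.res h x)
    rw [N.res_smul, smul_smul, smul_smul, ← xi_mul_cmpU h hs,
      show r - (q + 1 : ℕ) + 1 = r - q from by push_cast; ring]

lemma kApp_kApp (q : ℕ) (s : Finset ι) (v : (N.kSys r (q + 2)).obj s) :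
    N.kApp r q s (N.kApp r (q + 1) s v) = 0 := kd_kd _ q v

lemma kApp_exact (q : ℕ) {s : Finset ι} (hs : s.Nonempty) (v : (N.kSys r (q + 1)).obj s)
    (hv : N.kApp r q s v = 0) : ∃ w, N.kApp r (q + 1) s w = v :=
  kd_exact _ (xi_pick hs) q v hv

lemma kApp_surjective_zero {s : Finset ι} (hs : s.Nonempty) : Function.Surjective (N.kApp r 0 s) :=
  kd_surjective_zero _ (xi_pick hs)

lemma res_mem_ker (q : ℕ) {s t : Finset ι} (h : s ⊆ t) (x : (N.kSys r (q + 1)).obj s)
    (hx : ∀ (u : Finset ι) (hu : s ⊆ u), u.Nonempty → N.kApp r q u ((N.kSys r (q + 1)).res hu x) = 0)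
    (u : Finset ι) (hu : t ⊆ u) (hune : u.Nonempty) :
    N.kApp r q u ((N.kSys r (q + 1)).res hu ((N.kSys r (q + 1)).res h x)) = 0 := by
  rw [(N.kSys r (q + 1)).res_res]
  exact hx u (h.trans hu) hune

/-- The kernels. -/
noncomputable def kerObj (q : ℕ) (s : Finset ι) : Submodule R ((N.kSys r (q + 1)).obj s) where
  carrier := {x | ∀ (u : Finset ι) (hu : s ⊆ u), u.Nonempty → N.kApp r q u ((N.kSys r (q + 1)).res hu x) = 0}
  zero_mem' := fun u hu _ => by rw [map_zero, map_zero]
  add_mem' := fun {x y} hx hy u hu hne => by rw [map_add, map_add, hx u hu hne, hy u hu hne, add_zero]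
  smul_mem' := fun a x hx u hu hne => by rw [map_smul, map_smul, hx u hu hne, smul_zero]

lemma mem_kerObj {q : ℕ} {s : Finset ι} (hs : s.Nonempty) {x} :
    x ∈ N.kerObj r q s ↔ N.kApp r q s x = 0 := by
  refine ⟨fun h => ?_, fun h u hu _ => ?_⟩
  · have := h s subset_rfl hs
    rwa [(N.kSys r (q + 1)).res_refl] at this
  · have := (N.kHom r q).nat hu x hs
    change N.kApp r q u _ = _ at this
    rw [this]
    exact (congrArg _ h).trans (map_zero _)

/-- The kernel systems. -/
noncomputable abbrev zSys (q : ℕ) : Sys R ι where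
  obj s := ModuleCat.of R (N.kerObj r q s)
  res {s t} h :=
    { toFun := fun x => ⟨(N.kSys r (q + 1)).res h x.1, N.res_mem_ker r q h x.1 x.2⟩
      map_add' := fun x y => Subtype.ext (map_add ((N.kSys r (q + 1)).res h) x.1 y.1)
      map_smul' := fun a x => Subtype.ext (map_smul ((N.kSys r (q + 1)).res h) a x.1) }
  res_refl s x := Subtype.ext ((N.kSys r (q + 1)).res_refl s x.1)
  res_res h h' x := Subtype.ext ((N.kSys r (q + 1)).res_res h h' x.1)

/-- The inclusion of a kernel. -/
noncomputable def zIncl (q : ℕ) : Sys.Hom (N.zSys r q) (N.kSys r (q + 1)) :=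
  { app := fun s => (N.kerObj r q s).subtype, nat := fun _ _ _ => rfl }

/-- The map onto a kernel. -/
noncomputable def zProj (q : ℕ) : Sys.Hom (N.kSys r (q + 2)) (N.zSys r q) where
  app s := LinearMap.codRestrict _ (N.kApp r (q + 1) s) fun v u hu hne => by
    by_cases hs : s.Nonempty
    · have e : N.kApp r (q + 1) u ((N.kSys r (q + 2)).res hu v) =
          (N.kSys r (q + 1)).res hu (N.kApp r (q + 1) s v) := (N.kHom r (q + 1)).nat hu v hs
      rw [← e, N.kApp_kApp]
    · -- a restriction out of the empty set vanishes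
      have h0 : ∀ x, (N.kSys r (q + 1)).res hu x = 0 := fun x => funext fun T => by
        change cmpU (R := R) (r - (q + 1 : ℕ)) hu • N.toSys.res hu (x T) = 0
        rw [cmpU, dif_neg hs, if_pos hne, zero_smul]
      rw [h0, map_zero]
  nat h v hs := Subtype.ext ((N.kHom r (q + 1)).nat h v hs)

theorem ses_zero : Sys.SES (N.zIncl r 0) (N.kHom r 0) where
  inj _ _ _ _ e := Subtype.ext e
  comp _ hs x := (N.mem_kerObj r hs).1 x.2
  exact _ hs y hy := ⟨⟨y, (N.mem_kerObj r hs).2 hy⟩, rfl⟩
  surj _ hs := N.kApp_surjective_zero r hs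

theorem ses_succ (q : ℕ) : Sys.SES (N.zIncl r (q + 1)) (N.zProj r q) where
  inj _ _ _ _ e := Subtype.ext e
  comp _ hs x := Subtype.ext ((N.mem_kerObj r hs).1 x.2)
  exact _ hs y hy := ⟨⟨y, (N.mem_kerObj r hs).2 (congrArg Subtype.val hy)⟩, rfl⟩
  surj _ hs x := by
    obtain ⟨w, hw⟩ := N.kApp_exact r q hs x.1 ((N.mem_kerObj r hs).1 x.2)
    exact ⟨w, Subtype.ext hw⟩

/-- Vanishing propagates from the terms of the resolution to the kernels. -/
theorem subsingleton_zSys_H (i : ℕ) :
    ∀ (m q : ℕ), Fintype.card ι ≤ i + q + m →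
      (∀ j, q + 2 ≤ j → Subsingleton ((N.twSys (r - j)).H (i + j - 2))) →
      Subsingleton ((N.zSys r q).H (i + q)) := by
  intro m
  induction m with
  | zero => exact fun q hq _ => (N.zSys r q).subsingleton_H_of_fintype_card_le (p := i + q) hq
  | succ m ih =>
    intro q hq h
    haveI : Subsingleton ((N.twSys (r - (q + 2 : ℕ))).H (i + q)) := by
      have := h (q + 2) le_rfl
      rwa [show i + (q + 2) - 2 = i + q from by omega] at this
    haveI := Sys.subsingleton_pow_H (N.twSys (r - (q + 2 : ℕ))) (Fin (q + 2) → ι) (i + q)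
    haveI : Subsingleton ((N.zSys r (q + 1)).H (i + q + 1)) :=
      ih (q + 1) (by omega) fun j hj => h j (by omega)
    exact (N.ses_succ r q).subsingleton_right (i + q)

/-- The complex computes `N(r)`: vanishing from the vanishing of the terms. -/
theorem subsingleton_H_of_koszul (i : ℕ)
    (h : ∀ j : ℕ, 1 ≤ j → Subsingleton ((N.twSys (r - j)).H (i + j - 1))) :
    Subsingleton ((N.twSys r).H i) := by
  haveI : Subsingleton ((N.twSys (r - (1 : ℕ))).H i) := by simpa using h 1 le_rfl
  haveI := Sys.subsingleton_pow_H (N.twSys (r - (1 : ℕ))) (Fin 1 → ι) i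
  haveI : Subsingleton ((N.zSys r 0).H (i + 1)) :=
    N.subsingleton_zSys_H r (i + 1) (Fintype.card ι) 0 (by omega) fun j hj => by
      rw [show i + 1 + j - 2 = i + j - 1 from by omega]; exact h j (by omega)
  haveI : Subsingleton ((N.kSys r 0).H i) := (N.ses_zero r).subsingleton_right i
  let e : Sys.Hom (N.twSys r) (N.kSys r 0) :=
    { app := fun s => LinearMap.pi fun _ => LinearMap.id
      nat := fun {s t} hst x _ => funext fun _ => by
        change _ = (N.twSys (r - (0 : ℕ))).res hst x
        rw [Nat.cast_zero, sub_zero]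
        rfl }
  refine (bijective_mapH e (fun s _ => ⟨fun a b hab => congrFun hab Fin.elim0, fun y => ⟨y Fin.elim0, ?_⟩⟩) i).1.subsingleton
  exact funext fun T => congrArg y (Subsingleton.elim _ _)

/-- `H⁰(N(r-1))^{ι} → H⁰(N(r))` is surjective when the terms further left have no cohomology. -/
theorem surjective_kHom_mapH
    (h : ∀ j : ℕ, 2 ≤ j → Subsingleton ((N.twSys (r - j)).H (j - 1))) :
    Function.Surjective ((N.kHom r 0).mapH 0) := by
  haveI : Subsingleton ((N.zSys r 0).H (0 + 1)) :=
    N.subsingleton_zSys_H r 1 (Fintype.card ι) 0 (by omega) fun j hj => by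
      rw [show 1 + j - 2 = j - 1 from by omega]; exact h j (by omega)
  exact (N.ses_zero r).surjective_mapH 0

/-- **Castelnuovo–Mumford regularity propagates.** -/
theorem regular_succ (m : ℤ) (h : ∀ i : ℕ, 1 ≤ i → Subsingleton ((N.twSys (m - i)).H i)) :
    ∀ (l : ℕ) (i : ℕ), 1 ≤ i → Subsingleton ((N.twSys (m - i + l)).H i) := by
  intro l
  induction l with
  | zero => simpa using h
  | succ l ih =>
    intro i hi
    refine N.subsingleton_H_of_koszul _ i fun j hj => ?_
    have := ih (i + j - 1) (by omega)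
    rwa [show m - ((i + j - 1 : ℕ) : ℤ) + l = m - i + (l + 1 : ℕ) - j from by omega] at this

end LSys

end Groth.Agent.ProjCoh
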