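import Groth.Agent.CechCmp.SysHom
import Mathlib.Algebra.MonoidAlgebra.Basic
import Mathlib.Algebra.Algebra.Subalgebra.Basic
import Mathlib.Algebra.BigOperators.Pi
import Mathlib.RingTheory.Polynomial.Basic
import Mathlib.RingTheory.Finiteness.Finsupp
import Mathlib.Data.Fintype.Pi
import Mathlib.Data.Int.Interval
import Mathlib.Tactic.Linarith

/-!
# Twisted Laurent systems: the Čech complexes of `O(d)` on projective space
-/

universe u

namespace Groth.Agent.ProjCoh

open Finset
open Groth.Agent.CechCmp

variable (R : Type u) [CommRing R] (ι : Type u) [Fintype ι]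

/-- Exponents of Laurent monomials. -/
abbrev Expo : Type u := ι → ℤ

/-- Laurent polynomials in the variables indexed by `ι`. -/
abbrev Laurent : Type u := AddMonoidAlgebra R (Expo ι)

variable {R ι}

/-- The exponents of degree `d` with negative entries only inside `s`. -/
def cone (d : ℤ) (s : Finset ι) : Set (Expo ι) := {a | ∑ i, a i = d ∧ ∀ i, a i < 0 → i ∈ s}

lemma cone_mono (d : ℤ) {s t : Finset ι} (h : s ⊆ t) : cone d s ⊆ cone d t :=
  fun _ ha => ⟨ha.1, fun i hi => h (ha.2 i hi)⟩

lemma zero_mem_cone (s : Finset ι) : (0 : Expo ι) ∈ cone 0 s :=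
  ⟨by simp, fun i h => absurd h (by simp)⟩

lemma add_mem_cone {d e : ℤ} {s : Finset ι} {a b : Expo ι} (ha : a ∈ cone d s) (hb : b ∈ cone e s) :
    a + b ∈ cone (d + e) s := by
  refine ⟨by rw [← ha.1, ← hb.1, ← Finset.sum_add_distrib]; simp, fun i hi => ?_⟩
  by_contra h
  have h1 : 0 ≤ a i := le_of_not_gt fun h' => h (ha.2 i h')
  have h2 : 0 ≤ b i := le_of_not_gt fun h' => h (hb.2 i h')
  simp only [Pi.add_apply] at hi
  omega

variable (R)

/-- Laurent polynomials supported in a set of exponents. -/
def supp (C : Set (Expo ι)) : Submodule R (Laurent R ι) where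
  carrier := {f | ∀ a, f.coeff a ≠ 0 → a ∈ C}
  zero_mem' := fun a h => absurd (by simp) h
  add_mem' := fun {f g} hf hg a h => by
    by_cases h1 : f.coeff a = 0
    · exact hg a (by simpa [h1] using h)
    · exact hf a h1
  smul_mem' := fun r f hf a h => hf a fun h1 => h (by simp [h1])

variable {R}

lemma mem_supp {C : Set (Expo ι)} {f : Laurent R ι} :
    f ∈ supp R C ↔ ∀ a, f.coeff a ≠ 0 → a ∈ C := Iff.rfl

lemma supp_mono {C D : Set (Expo ι)} (h : C ⊆ D) : supp R C ≤ supp R D :=
  fun _ hf a ha => h (hf a ha)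

lemma single_mem_supp {C : Set (Expo ι)} {a : Expo ι} (ha : a ∈ C) (r : R) :
    AddMonoidAlgebra.single a r ∈ supp R C := fun b hb => by
  classical
  rw [AddMonoidAlgebra.coeff_single, Finsupp.single_apply] at hb
  split_ifs at hb with h
  · exact h ▸ ha
  · exact absurd rfl hb

lemma mem_supp_iff_support {C : Set (Expo ι)} {f : Laurent R ι} :
    f ∈ supp R C ↔ ∀ a ∈ f.coeff.support, a ∈ C := by
  simp only [mem_supp, Finsupp.mem_support_iff]

lemma mul_mem_supp {C D E : Set (Expo ι)} (h : ∀ a ∈ C, ∀ b ∈ D, a + b ∈ E) {f g : Laurent R ι}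
    (hf : f ∈ supp R C) (hg : g ∈ supp R D) : f * g ∈ supp R E := by
  classical
  intro x hx
  by_contra hE
  apply hx
  rw [AddMonoidAlgebra.coeff_mul, Finsupp.sum]
  refine Finset.sum_eq_zero fun a ha => ?_
  rw [Finsupp.sum]
  refine Finset.sum_eq_zero fun b hb => if_neg ?_
  rintro rfl
  exact hE (h a (hf a (Finsupp.mem_support_iff.1 ha)) b (hg b (Finsupp.mem_support_iff.1 hb)))

lemma finite_supp [IsNoetherianRing R] {C : Set (Expo ι)} (hC : C.Finite) :
    Module.Finite R (supp R C) := by
  let f : (C → R) →ₗ[R] Laurent R ι :=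
    { toFun := fun v => ∑ a ∈ hC.toFinset.attach, AddMonoidAlgebra.single a.1 (v ⟨a.1, hC.mem_toFinset.1 a.2⟩)
      map_add' := fun v w => by rw [← Finset.sum_add_distrib]; simp
      map_smul' := fun r v => by rw [Finset.smul_sum]; simp }
  have hle : supp R C ≤ LinearMap.range f := by
    intro g hg
    refine ⟨fun a => g.coeff a.1, ?_⟩
    change ∑ a ∈ hC.toFinset.attach, AddMonoidAlgebra.single a.1 (g.coeff a.1) = g
    classical
    ext b
    rw [Finset.sum_attach hC.toFinset (fun a => AddMonoidAlgebra.single a (g.coeff a))]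
    simp only [map_sum, AddMonoidAlgebra.coeff_sum, AddMonoidAlgebra.coeff_single, Finsupp.coe_finset_sum,
      Finset.sum_apply, Finsupp.single_apply, Finset.sum_ite_eq', Set.Finite.mem_toFinset]
    by_cases hb : g.coeff b = 0
    · simp [hb]
    · simp [hg b hb]
  haveI : Finite C := hC.to_subtype
  haveI : IsNoetherian R (supp R C) := isNoetherian_of_le hle
  infer_instance

variable [DecidableEq ι]

variable (R) (ι)

/-- The twisted system `s ↦ ` Laurent polynomials of degree `d` with denominators in `s`. -/
noncomputable abbrev twist (d : ℤ) : Sys R ι where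
  obj s := ModuleCat.of R (supp (R := R) (cone (ι := ι) d s))
  res h := Submodule.inclusion (supp_mono (cone_mono d h))
  res_refl _ _ := rfl
  res_res _ _ _ := rfl

variable {R ι}

/-- A chosen index with nonnegative exponent. -/
noncomputable def first (a : Expo ι) : Option ι :=
  if h : ∃ i, 0 ≤ a i then some h.choose else none

lemma first_some {a : Expo ι} {i : ι} (h : first a = some i) : 0 ≤ a i := by
  unfold first at h
  split_ifs at h with h'
  cases h
  exact h'.choose_spec

lemma first_eq_none {a : Expo ι} (h : first a = none) : ∀ i, a i < 0 := by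
  unfold first at h
  split_ifs at h with h'
  push Not at h'
  exact h'

/-- Keeping the monomials with a given first index. -/
noncomputable def keep (o : Option ι) : Laurent R ι →ₗ[R] Laurent R ι where
  toFun f := AddMonoidAlgebra.ofCoeff (f.coeff.filter fun a => first a = o)
  map_add' f g := by ext a; by_cases h : first a = o <;> simp [h]
  map_smul' r f := by ext a; by_cases h : first a = o <;> simp [h]

lemma coeff_keep (o : Option ι) (f : Laurent R ι) (a : Expo ι) :
    (keep o f).coeff a = if first a = o then f.coeff a else 0 := by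
  by_cases h : first a = o <;> simp [keep, h]

lemma keep_mem {d : ℤ} {s : Finset ι} (i : ι) {f : Laurent R ι}
    (hf : f ∈ supp R (cone d (insert i s))) : keep (some i) f ∈ supp R (cone d s) := by
  intro a ha
  rw [coeff_keep] at ha
  split_ifs at ha with h
  · refine ⟨(hf a ha).1, fun j hj => ?_⟩
    rcases Finset.mem_insert.1 ((hf a ha).2 j hj) with rfl | h'
    · exact absurd hj (not_lt.2 (first_some h))
    · exact h'
  · exact absurd rfl ha

lemma sum_keep (f : Laurent R ι) : ∑ i, keep (some i) f + keep none f = f := by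
  ext a
  simp only [AddMonoidAlgebra.coeff_add, AddMonoidAlgebra.coeff_sum, Finsupp.add_apply,
    Finsupp.coe_finset_sum, Finset.sum_apply, coeff_keep]
  cases first a <;> simp

lemma keep_none_mem {C : Set (Expo ι)} {f : Laurent R ι} (hf : f ∈ supp R C) :
    keep none f ∈ supp R C := by
  intro a ha
  rw [coeff_keep] at ha
  split_ifs at ha
  · exact hf a ha
  · exact absurd rfl ha

/-- The projection away from the monomials with all exponents negative. -/
noncomputable def projE (d : ℤ) (s : Finset ι) :
    (twist R ι d).obj s →ₗ[R] (twist R ι d).obj s :=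
  LinearMap.id - LinearMap.codRestrict _ (keep none ∘ₗ (supp R (cone d s)).subtype)
    fun f => keep_none_mem f.2

/-- The homotopy of the twisted system. -/
noncomputable def twistHomotopy (d : ℤ) : (twist R ι d).Homotopy (projE d) where
  h s := LinearMap.codRestrict _
      (∑ i, keep (some i) ∘ₗ (supp R (cone d (insert i s))).subtype ∘ₗ LinearMap.proj i) fun y => by
    simp only [LinearMap.sum_apply, LinearMap.comp_apply, LinearMap.proj_apply]
    exact Submodule.sum_mem _ fun i _ => keep_mem i (y i).2
  nat {s t} hst y _ := by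
    refine Subtype.ext ?_
    simp only [LinearMap.codRestrict_apply, LinearMap.sum_apply, LinearMap.comp_apply,
      LinearMap.proj_apply, Submodule.coe_inclusion, Submodule.subtype_apply]
  diag s x _ := by
    refine Subtype.ext ?_
    simp only [LinearMap.codRestrict_apply, LinearMap.sum_apply, LinearMap.comp_apply,
      LinearMap.proj_apply, projE, LinearMap.sub_apply, LinearMap.id_apply]
    exact eq_sub_of_add_eq (sum_keep (x : Laurent R ι))

/-- Exponents of degree `d` with all entries negative. -/
lemma finite_allNeg (d : ℤ) : {a : Expo ι | ∑ i, a i = d ∧ ∀ i, a i < 0}.Finite := by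
  refine (Fintype.piFinset fun _ : ι => Finset.Icc d (-1)).finite_toSet.subset fun a ha => ?_
  simp only [Finset.mem_coe, Fintype.mem_piFinset, Finset.mem_Icc]
  intro i
  refine ⟨?_, by have := ha.2 i; omega⟩
  rw [← ha.1, ← Finset.add_sum_erase univ a (mem_univ i)]
  have : ∑ j ∈ univ.erase i, a j ≤ 0 := Finset.sum_nonpos fun j _ => (ha.2 j).le
  omega

lemma range_one_sub_projE_le (d : ℤ) (s : Finset ι) (x : (twist R ι d).obj s) :
    ((((LinearMap.id : (twist R ι d).obj s →ₗ[R] (twist R ι d).obj s) - projE (R := R) d s : (twist R ι d).obj s →ₗ[R] (twist R ι d).obj s) x : (twist R ι d).obj s) : Laurent R ι) ∈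
      supp R {a : Expo ι | ∑ i, a i = d ∧ ∀ i, a i < 0} := by
  have e : ((LinearMap.id : (twist R ι d).obj s →ₗ[R] (twist R ι d).obj s) - projE (R := R) d s) x =
      LinearMap.codRestrict (supp R (cone d s)) (keep none ∘ₗ (supp R (cone d s)).subtype)
        (fun f => keep_none_mem f.2) x := by
    simp [projE]
  rw [e]
  intro a ha
  simp only [LinearMap.codRestrict_apply, LinearMap.comp_apply, Submodule.subtype_apply,
    coeff_keep] at ha
  split_ifs at ha with h
  · exact ⟨(x.2 a ha).1, first_eq_none h⟩
  · exact absurd rfl ha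

theorem finite_twist_H_succ [IsNoetherianRing R] (d : ℤ) (p : ℕ) :
    Module.Finite R ((twist R ι d).H (p + 1)) := by
  refine Sys.finite_H_of_homotopy (twistHomotopy d) (fun s _ => ?_) p
  haveI := finite_supp (R := R) (finite_allNeg (ι := ι) d)
  haveI : IsNoetherian R (supp R {a : Expo ι | ∑ i, a i = d ∧ ∀ i, a i < 0}) :=
    isNoetherian_of_isNoetherianRing_of_finite R _
  refine Module.Finite.of_injective
    (LinearMap.codRestrict (supp R {a : Expo ι | ∑ i, a i = d ∧ ∀ i, a i < 0})
      ((supp R (cone d s)).subtype ∘ₗ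
      (LinearMap.range ((LinearMap.id : (twist R ι d).obj s →ₗ[R] (twist R ι d).obj s) - projE d s)).subtype) ?_) ?_
  · rintro ⟨_, x, rfl⟩
    exact range_one_sub_projE_le d s x
  · intro a b h
    refine Subtype.ext (Subtype.ext ?_)
    exact (congrArg Subtype.val h : _)

/-- In degree above `-|ι|` the higher cohomology vanishes. -/
theorem subsingleton_twist_H_succ [Nonempty ι] {d : ℤ} (hd : -(Fintype.card ι : ℤ) < d) (p : ℕ) :
    Subsingleton ((twist R ι d).H (p + 1)) := by
  have hz : ∀ s : Finset ι, projE (R := R) d s = LinearMap.id := by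
    intro s
    refine LinearMap.ext fun x => Subtype.ext ?_
    simp only [projE, LinearMap.sub_apply, LinearMap.id_apply, AddSubgroupClass.coe_sub,
      LinearMap.codRestrict_apply, LinearMap.comp_apply, Submodule.subtype_apply, sub_eq_self]
    ext a
    rw [coeff_keep]
    simp only [AddMonoidAlgebra.coeff_zero, Finsupp.coe_zero, Pi.zero_apply, ite_eq_right_iff]
    intro h
    by_contra hne
    have h1 := (x.2 a hne).1
    have h2 : ∑ i, a i ≤ ∑ _i : ι, (-1 : ℤ) :=
      Finset.sum_le_sum fun i _ => by have := first_eq_none h i; omega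
    simp only [Finset.sum_const, Finset.card_univ, smul_neg, nsmul_eq_mul, mul_one] at h2
    omega
  have hh := twistHomotopy (R := R) (ι := ι) d
  rw [show projE (R := R) (ι := ι) d = fun _ => LinearMap.id from funext hz] at hh
  exact Sys.subsingleton_H_of_homotopy hh p

/-- The exponents occurring in cocycles of degree zero. -/
def global (d : ℤ) : Set (Expo ι) :=
  {a | ∑ i, a i = d ∧ ∀ i j, a j < 0 → j = i}

lemma finite_global (d : ℤ) : (global (ι := ι) d).Finite := by
  refine (Fintype.piFinset fun _ : ι => Finset.Icc (min d 0) (max d 0)).finite_toSet.subset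
    fun a ha => ?_
  simp only [Finset.mem_coe, Fintype.mem_piFinset, Finset.mem_Icc]
  intro i
  by_cases h : ∃ j, a j < 0
  · obtain ⟨j, hj⟩ := h
    have hall : ∀ k : ι, k = j := fun k => ((ha.2 k j hj)).symm
    have : d = a i := by
      rw [← ha.1]; exact Finset.sum_eq_single i (fun k _ hk => absurd ((hall k).trans (hall i).symm) hk) (by simp)
    omega
  · push Not at h
    refine ⟨le_trans (min_le_right _ _) (h i), le_trans ?_ (le_max_left _ _)⟩
    rw [← ha.1]
    exact Finset.single_le_sum (fun k _ => h k) (mem_univ i)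

lemma twist_Z0_apply (d : ℤ) (z : (twist R ι d).Z 0) (i j : ι) :
    ((z : (twist R ι d).C 1) (fun _ => i) : Laurent R ι) = (z : (twist R ι d).C 1) (fun _ => j) := by
  have h := congrArg Subtype.val (congrFun (LinearMap.mem_ker.1 z.2) ![j, i])
  rw [Sys.d_apply, Fin.sum_univ_two] at h
  simp only [Fin.val_zero, Fin.val_one, pow_zero, pow_one, one_smul, neg_smul, Submodule.coe_add,
    Submodule.coe_neg, Submodule.coe_inclusion, Pi.zero_apply, ZeroMemClass.coe_zero] at h
  have e0 : (![j, i] : Fin 2 → ι) ∘ Fin.succAbove 0 = fun _ => i := by funext k; fin_cases k; rfl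
  have e1 : (![j, i] : Fin 2 → ι) ∘ Fin.succAbove 1 = fun _ => j := by funext k; fin_cases k; rfl
  have f0 : (((z : (twist R ι d).C 1) ((![j, i] : Fin 2 → ι) ∘ Fin.succAbove 0)) : Laurent R ι) =
      (z : (twist R ι d).C 1) (fun _ => i) := by rw [e0]
  have f1 : (((z : (twist R ι d).C 1) ((![j, i] : Fin 2 → ι) ∘ Fin.succAbove 1)) : Laurent R ι) =
      (z : (twist R ι d).C 1) (fun _ => j) := by rw [e1]
  rw [← f0, ← f1]
  exact eq_of_add_neg_eq_zero h

theorem twist_Z0_mem (d : ℤ) (z : (twist R ι d).Z 0) (i : ι) :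
    ((z : (twist R ι d).C 1) (fun _ => i) : Laurent R ι) ∈ supp R (global d) := by
  intro a ha
  refine ⟨(((z : (twist R ι d).C 1) fun _ => i).2 a ha).1, fun k j hj => ?_⟩
  rw [twist_Z0_apply d z i k] at ha
  obtain ⟨l, -, hl⟩ := Finset.mem_image.1 ((((z : (twist R ι d).C 1) fun _ => k).2 a ha).2 j hj)
  exact hl.symm

theorem finite_twist_H_zero [IsNoetherianRing R] [Nonempty ι] (d : ℤ) :
    Module.Finite R ((twist R ι d).H 0) := by
  obtain ⟨i⟩ := ‹Nonempty ι›
  haveI := finite_supp (R := R) (finite_global (ι := ι) d)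
  haveI : IsNoetherian R (supp R (global (ι := ι) d)) := isNoetherian_of_isNoetherianRing_of_finite R _
  let ev : (twist R ι d).Z 0 →ₗ[R] supp R (global (ι := ι) d) :=
    LinearMap.codRestrict _ ((supp R (cone d (img fun _ : Fin 1 => i))).subtype ∘ₗ
      (LinearMap.proj (R := R) (φ := fun σ : Fin 1 → ι => supp R (cone d (img σ))) (fun _ => i)) ∘ₗ
      ((twist R ι d).Z 0).subtype) fun z => twist_Z0_mem d z i
  haveI : Module.Finite R ((twist R ι d).Z 0) := by
    refine Module.Finite.of_injective ev fun z w h => Subtype.ext (funext fun σ => Subtype.ext ?_)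
    obtain ⟨j, rfl⟩ : ∃ j, σ = fun _ => j := ⟨σ 0, funext fun k => congrArg σ (Fin.ext (by omega))⟩
    rw [twist_Z0_apply d z j i, twist_Z0_apply d w j i]
    exact (congrArg Subtype.val h : _)
  exact Module.Finite.of_surjective _ (Submodule.mkQ_surjective _)

theorem finite_twist_H [IsNoetherianRing R] [Nonempty ι] (d : ℤ) :
    ∀ p, Module.Finite R ((twist R ι d).H p)
  | 0 => finite_twist_H_zero d
  | p + 1 => finite_twist_H_succ d p

end Groth.Agent.ProjCoh
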