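import Groth.Agent.ProjCoh.Koszul

/-!
# Middle cohomology of the twisted Laurent systems vanishes

A constant system supported on an interval `T ⊆ s ⊆ U` has no cohomology in degrees `p` with `p + 1 < |T|`.
-/

universe u

namespace Groth.Agent.ProjCoh

open Finset
open Groth.Agent.CechCmp

variable {R : Type u} [CommRing R] {ι : Type u} [DecidableEq ι] (A : Type u) [AddCommGroup A] [Module R A]

/-- Values supported on a condition. -/
noncomputable def onlyIf (c : Prop) [Decidable c] : Submodule R A := if c then ⊤ else ⊥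

lemma mem_onlyIf {c : Prop} [Decidable c] {a : A} : a ∈ onlyIf (R := R) A c ↔ (c ∨ a = 0) := by
  unfold onlyIf
  split_ifs with h <;> simp [h]

/-- Cutting off a value outside a condition. -/
noncomputable def cutTo (c : Prop) [Decidable c] : A →ₗ[R] onlyIf (R := R) A c :=
  if h : c then LinearMap.codRestrict _ LinearMap.id fun _ => (mem_onlyIf A).2 (Or.inl h) else 0

lemma coe_cutTo (c : Prop) [Decidable c] (a : A) :
    (cutTo (R := R) A c a : A) = if c then a else 0 := by
  unfold cutTo
  split_ifs <;> rfl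

/-- The constant system on the interval between `T` and `U`. -/
noncomputable abbrev intSys (T U : Finset ι) : Sys R ι where
  obj s := ModuleCat.of R (onlyIf (R := R) A (T ⊆ s ∧ s ⊆ U))
  res {s t} _ := cutTo A (T ⊆ t ∧ t ⊆ U) ∘ₗ (onlyIf (R := R) A (T ⊆ s ∧ s ⊆ U)).subtype
  res_refl s x := Subtype.ext (by
    simp only [LinearMap.comp_apply, coe_cutTo, Submodule.subtype_apply]
    rcases (mem_onlyIf A).1 x.2 with h | h
    · rw [if_pos h]
    · simp [h])
  res_res {s t v} h h' x := Subtype.ext (by
    simp only [LinearMap.comp_apply, coe_cutTo, Submodule.subtype_apply]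
    rcases (mem_onlyIf A).1 x.2 with hs | hs
    · by_cases hv : T ⊆ v ∧ v ⊆ U
      · rw [if_pos hv, if_pos hv, if_pos ⟨hs.1.trans h, h'.trans hv.2⟩]
      · rw [if_neg hv, if_neg hv]
    · simp [hs])

/-- Comparison between intervals. -/
noncomputable def intHom (T U T' U' : Finset ι)
    (h : ∀ s t : Finset ι, s ⊆ t → (T ⊆ s ∧ s ⊆ U) → (T' ⊆ t ∧ t ⊆ U') →
      (T ⊆ t ∧ t ⊆ U) ∧ (T' ⊆ s ∧ s ⊆ U')) :
    Sys.Hom (intSys (R := R) A T U) (intSys (R := R) A T' U') where
  app s := cutTo A (T' ⊆ s ∧ s ⊆ U') ∘ₗ (onlyIf (R := R) A (T ⊆ s ∧ s ⊆ U)).subtype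
  nat {s t} hst x _ := Subtype.ext (by
    simp only [LinearMap.comp_apply, coe_cutTo, Submodule.subtype_apply]
    rcases (mem_onlyIf A).1 x.2 with hs | hs
    · by_cases ht : T' ⊆ t ∧ t ⊆ U'
      · rw [if_pos ht, if_pos ht, if_pos (h s t hst hs ht).1, if_pos (h s t hst hs ht).2]
      · rw [if_neg ht, if_neg ht]
    · simp [hs])

/-- The cone homotopy when `U` has an index outside `T`. -/
noncomputable def coneHomotopy (T U : Finset ι) (i : ι) (hiU : i ∈ U) (hiT : i ∉ T) :
    (intSys (R := R) A T U).Homotopy fun _ => LinearMap.id where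
  h s := cutTo A (T ⊆ s ∧ s ⊆ U) ∘ₗ (onlyIf (R := R) A (T ⊆ insert i s ∧ insert i s ⊆ U)).subtype ∘ₗ LinearMap.proj i
  nat {s t} hst y _ := Subtype.ext (by
    simp only [LinearMap.comp_apply, coe_cutTo, Submodule.subtype_apply, LinearMap.proj_apply]
    rcases (mem_onlyIf A).1 (y i).2 with hy | hy
    · by_cases ht : T ⊆ t ∧ t ⊆ U
      · rw [if_pos ht, if_pos ht, if_pos ⟨ht.1.trans (Finset.subset_insert i t), Finset.insert_subset hiU ht.2⟩,
          if_pos ⟨fun x hx => (Finset.mem_insert.1 (hy.1 hx)).resolve_left fun e => hiT (e ▸ hx),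
            (Finset.subset_insert i s).trans hy.2⟩]
      · rw [if_neg ht, if_neg ht]
    · simp [hy])
  diag s x _ := Subtype.ext (by
    simp only [LinearMap.comp_apply, coe_cutTo, Submodule.subtype_apply, LinearMap.proj_apply, LinearMap.id_apply]
    rcases (mem_onlyIf A).1 x.2 with h | h
    · rw [if_pos h, if_pos ⟨h.1.trans (Finset.subset_insert i s), Finset.insert_subset hiU h.2⟩]
    · simp [h])

/-- An empty interval gives a system without cohomology. -/
theorem subsingleton_intSys_H_of_not_subset {T U : Finset ι} (h : ¬ T ⊆ U) (p : ℕ) :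
    Subsingleton ((intSys (R := R) A T U).H p) := by
  refine subsingleton_of_forall_eq 0 fun x => ?_
  obtain ⟨z, rfl⟩ := Submodule.mkQ_surjective _ x
  have : z = 0 := Subtype.ext (funext fun σ => Subtype.ext
    (((mem_onlyIf (R := R) A).1 (z.1 σ).2).resolve_left fun h' => h (h'.1.trans h'.2)))
  rw [this, map_zero]

variable [Fintype ι]

/-- **Vanishing below the size of the lower bound.** -/
theorem subsingleton_intSys_H :
    ∀ (m : ℕ) (T U : Finset ι) (p : ℕ), T.card = m → p + 1 < m →
      Subsingleton ((intSys (R := R) A T U).H p) := by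
  intro m
  induction m with
  | zero => intro T U p _ hp; omega
  | succ m ih =>
    intro T U p hT hp
    cases p with
    | zero =>
      refine subsingleton_of_forall_eq 0 fun x => ?_
      obtain ⟨z, rfl⟩ := Submodule.mkQ_surjective _ x
      refine ((intSys (R := R) A T U).cls_eq_zero_iff z).2 (Sys.mem_B_zero.2 (funext fun σ => Subtype.ext ?_))
      rcases (mem_onlyIf (R := R) A).1 (z.1 σ).2 with h | h
      · have h1 := Finset.card_le_card h.1
        have h2 : (img σ).card ≤ 1 := (Finset.card_image_le).trans (by simp)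
        omega
      · exact h
    | succ q =>
      obtain ⟨i, hi⟩ : T.Nonempty := Finset.card_pos.1 (by omega)
      have hcard : (T.erase i).card = m := by rw [Finset.card_erase_of_mem hi, hT]; omega
      let f : Sys.Hom (intSys (R := R) A T U) (intSys (R := R) A (T.erase i) U) :=
        intHom A T U (T.erase i) U fun s t hst h1 h2 =>
          ⟨⟨h1.1.trans hst, h2.2⟩, (Finset.erase_subset i T).trans h1.1, h1.2⟩
      let g : Sys.Hom (intSys (R := R) A (T.erase i) U) (intSys (R := R) A (T.erase i) (U.erase i)) :=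
        intHom A (T.erase i) U (T.erase i) (U.erase i) fun s t hst h1 h2 =>
          ⟨⟨h2.1, h2.2.trans (Finset.erase_subset i U)⟩, h1.1, hst.trans h2.2⟩
      have key : ∀ s : Finset ι, (T.erase i ⊆ s ∧ s ⊆ U) → ¬ (T.erase i ⊆ s ∧ s ⊆ U.erase i) →
          (T ⊆ s ∧ s ⊆ U) := by
        intro s h1 h2
        refine ⟨fun x hx => ?_, h1.2⟩
        by_cases hxi : x = i
        · subst hxi
          by_contra hxs
          exact h2 ⟨h1.1, fun y hy => Finset.mem_erase.2 ⟨fun e => hxs (e ▸ hy), h1.2 hy⟩⟩
        · exact h1.1 (Finset.mem_erase.2 ⟨hxi, hx⟩)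
      have hTs : ∀ s : Finset ι, (T ⊆ s ∧ s ⊆ U) →
          (T.erase i ⊆ s ∧ s ⊆ U) ∧ ¬ (T.erase i ⊆ s ∧ s ⊆ U.erase i) := fun s h =>
        ⟨⟨(Finset.erase_subset i T).trans h.1, h.2⟩, fun h' => (Finset.mem_erase.1 (h'.2 (h.1 hi))).1 rfl⟩
      have hses : Sys.SES f g :=
        { inj := fun s _ a b e => Subtype.ext (by
            have e' := congrArg Subtype.val e
            simp only [f, intHom, LinearMap.comp_apply, coe_cutTo, Submodule.subtype_apply] at e'
            by_cases h : T ⊆ s ∧ s ⊆ U
            · rwa [if_pos (hTs s h).1, if_pos (hTs s h).1] at e'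
            · rw [((mem_onlyIf A).1 a.2).resolve_left h, ((mem_onlyIf A).1 b.2).resolve_left h])
          comp := fun s _ x => Subtype.ext (by
            simp only [f, g, intHom, LinearMap.comp_apply, coe_cutTo, Submodule.subtype_apply, ZeroMemClass.coe_zero]
            rcases (mem_onlyIf A).1 x.2 with h | h
            · rw [if_neg (hTs s h).2]
            · simp [h])
          exact := fun s _ y hy => by
            have hy' := congrArg Subtype.val hy
            simp only [g, intHom, LinearMap.comp_apply, coe_cutTo, Submodule.subtype_apply, ZeroMemClass.coe_zero] at hy'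
            refine ⟨⟨y.1, (mem_onlyIf A).2 ?_⟩, Subtype.ext ?_⟩
            · rcases (mem_onlyIf A).1 y.2 with h | h
              · by_cases h2 : T.erase i ⊆ s ∧ s ⊆ U.erase i
                · rw [if_pos h2] at hy'; exact Or.inr hy'
                · exact Or.inl (key s h h2)
              · exact Or.inr h
            · simp only [f, intHom, LinearMap.comp_apply, coe_cutTo, Submodule.subtype_apply]
              rcases (mem_onlyIf A).1 y.2 with h | h
              · rw [if_pos h]
              · simp [h]
          surj := fun s _ y => by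
            refine ⟨⟨y.1, (mem_onlyIf A).2 ?_⟩, Subtype.ext ?_⟩
            · rcases (mem_onlyIf A).1 y.2 with h | h
              · exact Or.inl ⟨h.1, h.2.trans (Finset.erase_subset i U)⟩
              · exact Or.inr h
            · simp only [g, intHom, LinearMap.comp_apply, coe_cutTo, Submodule.subtype_apply]
              rcases (mem_onlyIf A).1 y.2 with h | h
              · rw [if_pos h]
              · simp [h] }
      by_cases hTU : T ⊆ U
      · haveI := ih (T.erase i) (U.erase i) q hcard (by omega)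
        haveI := Sys.subsingleton_H_of_homotopy
          (coneHomotopy (R := R) A (T.erase i) U i (hTU hi) (Finset.notMem_erase i T)) q
        exact hses.subsingleton_left q
      · exact subsingleton_intSys_H_of_not_subset A hTU (q + 1)

variable (R ι) in
/-- Laurent polynomials of degree `d` in which every exponent is negative. -/
def allNeg (d : ℤ) : Submodule R (Laurent R ι) := supp R {a : Expo ι | ∑ i, a i = d ∧ ∀ i, a i < 0}

lemma keep_none_mem_allNeg {d : ℤ} {s : Finset ι} {f : Laurent R ι} (hf : f ∈ supp R (cone d s)) :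
    keep none f ∈ allNeg R ι d := by
  intro a ha
  rw [coeff_keep] at ha
  split_ifs at ha with h
  · exact ⟨(hf a ha).1, first_eq_none h⟩
  · exact absurd rfl ha

lemma keep_none_eq_zero {d : ℤ} {s : Finset ι} {f : Laurent R ι} (hf : f ∈ supp R (cone d s))
    (hs : ¬ ((univ : Finset ι) ⊆ s ∧ s ⊆ univ)) : keep none f = 0 := by
  ext a
  rw [coeff_keep, AddMonoidAlgebra.coeff_zero]
  split_ifs with h
  · by_contra hne
    exact hs ⟨fun i _ => (hf a hne).2 i (first_eq_none h i), subset_univ _⟩
  · rfl

/-- The all-negative part. -/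
noncomputable def keepE (d : ℤ) (s : Finset ι) : supp R (cone d s) →ₗ[R] allNeg R ι d :=
  LinearMap.codRestrict _ (keep none ∘ₗ (supp R (cone d s)).subtype) fun f => keep_none_mem_allNeg f.2

lemma coe_keepE (d : ℤ) (s : Finset ι) (f : supp R (cone d s)) :
    (keepE d s f : Laurent R ι) = keep none (f : Laurent R ι) := rfl

/-- The map onto the all-negative part. -/
noncomputable def toTop (d : ℤ) :
    Sys.Hom (twist R ι d) (intSys (R := R) (allNeg R ι d) (univ : Finset ι) univ) where
  app s := cutTo (allNeg R ι d) ((univ : Finset ι) ⊆ s ∧ s ⊆ univ) ∘ₗ keepE d s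
  nat {s t} hst x _ := Subtype.ext (by
    simp only [LinearMap.comp_apply, coe_cutTo, Submodule.subtype_apply]
    by_cases ht : (univ : Finset ι) ⊆ t ∧ t ⊆ univ
    · rw [if_pos ht, if_pos ht]
      by_cases hs : (univ : Finset ι) ⊆ s ∧ s ⊆ univ
      · rw [if_pos hs]; rfl
      · rw [if_neg hs]
        exact Subtype.ext (keep_none_eq_zero x.2 hs)
    · rw [if_neg ht, if_neg ht])

/-- All-negative Laurent polynomials as elements of the twisted system. -/
noncomputable def fromTopApp (d : ℤ) (s : Finset ι) :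
    onlyIf (R := R) (allNeg R ι d) ((univ : Finset ι) ⊆ s ∧ s ⊆ univ) →ₗ[R] supp R (cone d s) :=
  LinearMap.codRestrict _
    ((allNeg R ι d).subtype ∘ₗ (onlyIf (R := R) (allNeg R ι d) ((univ : Finset ι) ⊆ s ∧ s ⊆ univ)).subtype) fun x => by
    change ((x.1 : allNeg R ι d) : Laurent R ι) ∈ supp R (cone d s)
    rcases (mem_onlyIf (R := R) (allNeg R ι d)).1 x.2 with h | h
    · exact supp_mono (C := {a : Expo ι | ∑ i, a i = d ∧ ∀ i, a i < 0})
        (D := cone d s) (fun a ha => ⟨ha.1, fun i _ => h.1 (mem_univ i)⟩) x.1.2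
    · rw [h]; exact zero_mem _

lemma coe_fromTopApp (d : ℤ) (s : Finset ι)
    (x : onlyIf (R := R) (allNeg R ι d) ((univ : Finset ι) ⊆ s ∧ s ⊆ univ)) :
    (fromTopApp d s x : Laurent R ι) = ((x.1 : allNeg R ι d) : Laurent R ι) := rfl

/-- The inclusion of the all-negative part. -/
noncomputable def fromTop (d : ℤ) :
    Sys.Hom (intSys (R := R) (allNeg R ι d) (univ : Finset ι) univ) (twist R ι d) where
  app := fromTopApp d
  nat {s t} hst x _ := Subtype.ext (by
    simp only [Submodule.coe_inclusion, coe_fromTopApp, LinearMap.comp_apply, coe_cutTo, Submodule.subtype_apply]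
    rcases (mem_onlyIf (R := R) (allNeg R ι d)).1 x.2 with h | h
    · rw [if_pos ⟨h.1.trans hst, subset_univ _⟩]
    · simp [h])

/-- A cocycle whose all-negative part is a coboundary is a coboundary. -/
lemma twist_mem_B_of_toTop (d : ℤ) (p : ℕ) (z : (twist R ι d).Z (p + 1))
    (b : (intSys (R := R) (allNeg R ι d) (univ : Finset ι) univ).C (p + 1))
    (hb : (intSys (R := R) (allNeg R ι d) (univ : Finset ι) univ).d (p + 1) b = ((toTop d).mapZ (p + 1) z).1) :
    (z : (twist R ι d).C (p + 2)) ∈ (twist R ι d).B (p + 1) := by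
  refine ⟨(twistHomotopy d).op (p + 1) z + (fromTop d).mapC (p + 1) b, ?_⟩
  rw [map_add, ← (fromTop d).mapC_d, hb]
  funext σ
  have h := (twistHomotopy (R := R) d).d_op_add p z σ
  rw [LinearMap.mem_ker.1 z.2, map_zero, Pi.zero_apply, add_zero] at h
  rw [Pi.add_apply, h, Sys.Hom.mapC_apply]
  refine Subtype.ext ?_
  change (projE d (img σ) (z.1 σ) : Laurent R ι) +
    (((cutTo (R := R) (allNeg R ι d) ((univ : Finset ι) ⊆ img σ ∧ img σ ⊆ univ)
      (keepE d (img σ) (z.1 σ))).1 : allNeg R ι d) : Laurent R ι) = (z.1 σ : Laurent R ι)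
  rw [coe_cutTo]
  simp only [projE, LinearMap.sub_apply, LinearMap.id_apply, AddSubgroupClass.coe_sub,
    LinearMap.codRestrict_apply, LinearMap.comp_apply, Submodule.subtype_apply]
  split_ifs with hs
  · exact sub_add_cancel _ _
  · rw [ZeroMemClass.coe_zero, add_zero, sub_eq_self]
    exact keep_none_eq_zero (z.1 σ).2 hs

variable [Nonempty ι]

/-- **The middle cohomology of `O(d)` vanishes.** -/
theorem subsingleton_twist_H_middle (d : ℤ) (p : ℕ) (hp : p + 2 < Fintype.card ι) :
    Subsingleton ((twist R ι d).H (p + 1)) := by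
  haveI : Subsingleton ((intSys (R := R) (allNeg R ι d) (univ : Finset ι) univ).H (p + 1)) :=
    subsingleton_intSys_H (allNeg R ι d) _ univ univ (p + 1) rfl (by simpa using hp)
  refine subsingleton_of_forall_eq 0 fun c => ?_
  obtain ⟨z, rfl⟩ := Submodule.mkQ_surjective _ c
  refine ((twist R ι d).cls_eq_zero_iff z).2 ?_
  obtain ⟨b, hb⟩ := ((intSys (R := R) (allNeg R ι d) (univ : Finset ι) univ).cls_eq_zero_iff
    ((toTop d).mapZ (p + 1) z)).1 (Subsingleton.elim _ _)
  exact twist_mem_B_of_toTop d p z b hb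

end Groth.Agent.ProjCoh
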