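import Groth.Agent.ProjCoh.Koszul
import Groth.Agent.ProjCoh.Serre

/-!
# Castelnuovo–Mumford regularity on projective space
-/

universe u

open CategoryTheory AlgebraicGeometry TopologicalSpace Opposite
open scoped Groth.Agent.CohVanish

namespace Groth.Agent.ProjCoh

open Groth.Agent.CechCmp Groth.Agent.CohVanish

variable {n : ℕ} {R : Type u} [CommRing R]

local notation "𝒜" => CohB1.polyGrading n R

theorem subsingleton_twist_iff (M : (Proj (CohB1.polyGrading n R)).Modules) [M.IsQuasicoherent] (d : ℤ) (p : ℕ) :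
    Subsingleton (Coh.HH (CohB1.ProjSpace n R) (CohB1.tensorMod M (Twist.twistProjSpace n R d)) p) ↔
      Subsingleton (((ofModule M).twSys d).H p) := by
  obtain ⟨e⟩ := nonempty_HH_twist_equiv M d p
  exact e.toEquiv.subsingleton_congr

/-- Regularity propagates: vanishing of `H^i(F(m - i))` for `i ≥ 1` gives that of `H^i(F(r))`, `r ≥ m - i`. -/
theorem regular_propagates (M : (CohB1.ProjSpace n R).Modules) (hM : M.IsQuasicoherent) (m : ℤ)
    (h : ∀ i : ℕ, 1 ≤ i → i ≤ n →
      Subsingleton (Coh.HH (CohB1.ProjSpace n R) (CohB1.tensorMod M (Twist.twistProjSpace n R (m - i))) i))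
    (i : ℕ) (r : ℤ) (hi : 1 ≤ i) (hr : m - i ≤ r) :
    Subsingleton (Coh.HH (CohB1.ProjSpace n R) (CohB1.tensorMod M (Twist.twistProjSpace n R r)) i) := by
  let M' : (Proj (CohB1.polyGrading n R)).Modules := M
  haveI : M'.IsQuasicoherent := hM
  have h' : ∀ i : ℕ, 1 ≤ i → Subsingleton (((ofModule M').twSys (m - i)).H i) := fun i hi => by
    by_cases hin : i ≤ n
    · exact (subsingleton_twist_iff M' _ i).1 (h i hi hin)
    · exact ((ofModule M').twSys (m - i)).subsingleton_H_of_fintype_card_le (p := i) (by simp; omega)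
  obtain ⟨l, rfl⟩ : ∃ l : ℕ, r = m - i + l := ⟨(r - (m - i)).toNat, by omega⟩
  exact (subsingleton_twist_iff M' _ i).2 ((ofModule M').regular_succ m h' l i hi)

end Groth.Agent.ProjCoh
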