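import Groth.Agent.ProjCoh.GlobalSections

/-!
# Twists of twists; zero-regularity of `F(m)` for an `m`-regular `F`
-/

universe u

open CategoryTheory AlgebraicGeometry TopologicalSpace Opposite
open scoped Groth.Agent.CohVanish

namespace Groth.Agent.ProjCoh

open Groth.Agent.CechCmp Groth.Agent.CohVanish

variable {n : ℕ} {R : Type u} [CommRing R]

lemma cmpU_add {ι : Type u} [Fintype ι] [DecidableEq ι] [Nonempty ι] (d e : ℤ) {s t : Finset ι}
    (h : s ⊆ t) (hs : s.Nonempty) : cmpU (R := R) d h * cmpU e h = cmpU (d + e) h := by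
  rw [cmpU_of_nonempty _ h hs, cmpU_of_nonempty _ h hs, cmpU_of_nonempty _ h hs]
  refine Subtype.ext ?_
  simp only [Subalgebra.coe_mul, coe_uz, AddMonoidAlgebra.single_mul_single, one_mul]
  congr 1
  module

local notation "𝒜" => CohB1.polyGrading n R

variable (M : (Proj (CohB1.polyGrading n R)).Modules) [M.IsQuasicoherent]

/-- The `e`-th twist of `M(m)` is the `(m + e)`-th twist of `M`. -/
noncomputable def twTwHom (m e : ℤ)
    (hT : (CohB1.tensorMod M (Twist.twist 𝒜 m)).IsQuasicoherent) :
    Sys.Hom ((ofModule M).twSys (m + e))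
      (@ofModule n R _ (CohB1.tensorMod M (Twist.twist 𝒜 m)) hT |>.twSys e) where
  app s := twAppAll M m s
  nat {s t} h x hs := by
    let N' := @ofModule n R _ (CohB1.tensorMod M (Twist.twist 𝒜 m)) hT
    change twAppAll M m t (cmpU (R := R) (m + e) h • (ofModule M).toSys.res h x) =
      cmpU (R := R) e h • N'.toSys.res h (twAppAll M m s x)
    have h1 : twAppAll M m t (cmpU (R := R) m h • (ofModule M).toSys.res h x) =
        N'.toSys.res h (twAppAll M m s x) := (twModHom M m).nat h x hs
    rw [← h1, add_comm m e, ← cmpU_add e m h hs, mul_smul]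
    refine (twAppAll_apply M m (hs.mono h) _).trans ?_
    refine Eq.trans ?_ (congrArg (fun v => theta R t (cmpU (R := R) e h) • asSec (CohB1.tensorMod M (Twist.twist 𝒜 m)) t v) (twAppAll_apply M m (hs.mono h) _)).symm
    exact tmul_smul_left M _ _ _ _ _

theorem zeroRegular_twist (m : ℤ)
    (h : ∀ i : ℕ, 1 ≤ i → i ≤ n →
      Subsingleton (Coh.HH (CohB1.ProjSpace n R) (CohB1.tensorMod M (Twist.twistProjSpace n R (m - i))) i)) :
    @ZeroRegular n R _ (CohB1.tensorMod M (Twist.twist 𝒜 m))
      (isQuasicoherent_tensor_of_gen M (locFreeGen_twist m)) := by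
  intro i e hi he
  haveI : Subsingleton (((ofModule M).twSys (m + e)).H i) :=
    (subsingleton_twist_iff M _ i).1 (regular_propagates M ‹_› m h i (m + e) hi (by omega))
  exact (bijective_mapH (twTwHom M m e (isQuasicoherent_tensor_of_gen M (locFreeGen_twist m)))
    (fun s hs => twModHom_bijective M m s hs) i).2.subsingleton

end Groth.Agent.ProjCoh
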