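import Groth.Agent.ProjCoh.Coherent
import Groth.Agent.CohVanish.Sections

/-!
# The structure sheaf of projective space
-/

universe u

open CategoryTheory AlgebraicGeometry TopologicalSpace Opposite
open scoped Groth.Agent.CohVanish

namespace Groth.Agent.ProjCoh

open Groth.Agent.CechCmp Groth.Agent.CohVanish

/-- A map bijective on nonempty sets transports vanishing of cohomology. -/
theorem subsingleton_H_of_bijective {R : Type u} [CommRing R] {ι : Type u} [DecidableEq ι]
    {S T : Sys R ι} (f : Sys.Hom S T) (hf : ∀ s : Finset ι, s.Nonempty → Function.Bijective (f.app s))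
    (p : ℕ) [Subsingleton (S.H p)] : Subsingleton (T.H p) := by
  refine subsingleton_of_forall_eq 0 fun x => ?_
  obtain ⟨z, rfl⟩ := Submodule.mkQ_surjective _ x
  choose c hc using fun σ : Fin (p + 1) → ι => (hf _ ⟨_, mem_img σ 0⟩).2 ((z : T.C (p + 1)) σ)
  have hc' : f.mapC (p + 1) c = z := funext hc
  have hcz : c ∈ S.Z p := by
    refine LinearMap.mem_ker.2 (funext fun σ => (hf _ ⟨_, mem_img σ 0⟩).1 ?_)
    rw [← Sys.Hom.mapC_apply, f.mapC_d, hc', LinearMap.mem_ker.1 z.2]
    exact (map_zero _).symm
  have h := (S.cls_eq_zero_iff ⟨c, hcz⟩).1 (Subsingleton.elim _ 0)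
  refine (T.cls_eq_zero_iff z).2 ?_
  rw [← hc']
  exact f.mapB p _ h

variable {n : ℕ} {R : Type u} [CommRing R]

local notation "𝒜" => CohB1.polyGrading n R

/-- Higher cohomology of the structure sheaf vanishes. -/
theorem subsingleton_HH_structure (q : ℕ) (hq : 0 < q) :
    Subsingleton (Coh.HH (CohB1.ProjSpace n R) (Coh.structureModule (CohB1.ProjSpace n R)) q) := by
  obtain ⟨p, rfl⟩ : ∃ p, q = p + 1 := ⟨q - 1, by omega⟩
  haveI : (Coh.structureModule (Proj 𝒜)).IsQuasicoherent := isQuasicoherent_oMod _
  haveI := subsingleton_twist_H_succ (R := R) (ι := Ix.{u} n) (d := 0) (by simp; omega) p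
  haveI := subsingleton_H_of_bijective (oHom (R := R) (n := n)) oHom_bijective (p + 1)
  exact subsingleton_HH (Coh.toGlobal (tS n R)) (Coh.structureModule (Proj 𝒜)) (chartU R)
    iSup_chartU (fun s hs => isAffineOpen_chartMeet s hs) (p + 1)

/-- Vanishing above the dimension. -/
theorem subsingleton_HH_of_lt (M : (CohB1.ProjSpace n R).Modules) [M.IsQuasicoherent] (i : ℕ)
    (hi : n < i) : Subsingleton (Coh.HH (CohB1.ProjSpace n R) M i) := by
  obtain ⟨p, rfl⟩ : ∃ p, i = p + 1 := ⟨i - 1, by omega⟩
  haveI : Subsingleton ((secSys (n := n) (R := R) M).H (p + 1)) :=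
    Sys.subsingleton_H_of_fintype_card_le _ (by simp; omega)
  let M' : (Proj 𝒜).Modules := M
  haveI : M'.IsQuasicoherent := ‹M.IsQuasicoherent›
  exact subsingleton_HH (Coh.toGlobal (tS n R)) (X := Proj 𝒜) M' (chartU R)
    iSup_chartU (fun s hs => isAffineOpen_chartMeet s hs) (p + 1)

lemma theta_injective {s : Finset (Ix.{u} n)} (hs : s.Nonempty) :
    Function.Injective (theta R s) := (theta_bijective s hs).1

/-- Global functions are constants. -/
theorem bijective_toGlobal : Function.Bijective (Coh.toGlobal (tS n R)) := by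
  have hres : ∀ (r : R) (s : Finset (Ix.{u} n)), (Proj 𝒜).presheaf.map (homOfLE (le_top (a := chartMeet R s))).op
      (Coh.toGlobal (tS n R) r) = theta R s (algebraMap R _ r) := fun r s => theta_algebraMap s r
  let i₀ : Ix.{u} n := ⟨0⟩
  constructor
  · intro r r' h
    have h1 := congrArg ((Proj 𝒜).presheaf.map (homOfLE (le_top (a := chartMeet R {i₀}))).op) h
    rw [hres, hres] at h1
    have h2 := congrArg (fun f : reg R ({i₀} : Finset (Ix.{u} n)) => (f : Laurent R (Ix.{u} n)).coeff 0)
      (theta_injective (Finset.singleton_nonempty i₀) h1)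
    simpa [algebraMap_laurent] using h2
  · intro g
    choose f hf using fun i : Ix.{u} n => (theta_bijective ({i} : Finset (Ix.{u} n))
      (Finset.singleton_nonempty i)).2
        ((Proj 𝒜).presheaf.map (homOfLE (le_top (a := chartMeet R {i}))).op g)
    have hagree : ∀ i j, (f i : Laurent R (Ix.{u} n)) = f j := by
      intro i j
      have hi : chartMeet R {i, j} ≤ chartMeet R {i} := RSh.meetOpen_anti (chartU R) (by simp)
      have hj : chartMeet R {i, j} ≤ chartMeet R {j} := RSh.meetOpen_anti (chartU R) (by simp)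
      have e1 := congrArg ((Proj 𝒜).presheaf.map (homOfLE hi).op) (hf i)
      have e2 := congrArg ((Proj 𝒜).presheaf.map (homOfLE hj).op) (hf j)
      rw [theta_res (s := ({i} : Finset (Ix.{u} n))) (t := {i, j}) (by simp)] at e1
      rw [theta_res (s := ({j} : Finset (Ix.{u} n))) (t := {i, j}) (by simp)] at e2
      have e3 := e1.trans ((map_map_eq _ _ _ g).trans ((map_map_eq _ _ (homOfLE le_top).op g).symm.trans e2.symm))
      exact congrArg Subtype.val (theta_injective (Finset.insert_nonempty i {j}) e3)
    refine ⟨(f i₀ : Laurent R (Ix.{u} n)).coeff 0, ?_⟩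
    have hconst : ∀ i, algebraMap R (reg R ({i} : Finset (Ix.{u} n))) ((f i₀ : Laurent R (Ix.{u} n)).coeff 0) = f i := by
      intro i
      refine Subtype.ext ?_
      rw [hagree i i₀]
      change algebraMap R (Laurent R (Ix.{u} n)) _ = _
      rw [algebraMap_laurent]
      ext a
      rw [AddMonoidAlgebra.coeff_single, Finsupp.single_apply]
      split_ifs with h
      · rw [h]
      · by_contra hne
        apply h
        have hsum := ((f i₀).2 a (Ne.symm hne)).1
        have hnn : ∀ k, 0 ≤ a k := by
          intro k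
          by_contra hk
          have hall : ∀ l, k = l := fun l => by
            have hl := (f l).2 a (by rw [hagree l i₀]; exact Ne.symm hne)
            simpa using hl.2 k (not_le.1 hk)
          rw [Finset.sum_eq_single k (fun l _ hl => absurd (hall l).symm hl) (by simp)] at hsum
          omega
        funext k
        exact ((Finset.sum_eq_zero_iff_of_nonneg fun l _ => hnn l).1 hsum k (Finset.mem_univ k)).symm
    refine TopCat.Sheaf.eq_of_locally_eq' (Proj 𝒜).sheaf (fun i : Ix.{u} n => chartMeet R {i}) ⊤
      (fun i => homOfLE le_top) ?_ _ _ fun i => ?_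
    · rw [← iSup_chartU (R := R) (n := n)]
      exact iSup_mono fun i => le_iInf₂ fun j hj => (Finset.mem_singleton.1 hj) ▸ le_rfl
    · refine (hres _ {i}).trans ?_
      rw [hconst, hf]
      rfl

theorem isIso_appTop : IsIso (CohB1.ProjSpace.toSpec n R).appTop := by
  rw [ConcreteCategory.isIso_iff_bijective]
  have h : Function.Bijective
      ((Scheme.ΓSpecIso (CommRingCat.of R)).inv ≫ (tS n R).appTop) := bijective_toGlobal
  have h1 := ConcreteCategory.bijective_of_isIso (Scheme.ΓSpecIso (CommRingCat.of R)).inv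
  exact (Function.Bijective.of_comp_iff _ h1).1 h

end Groth.Agent.ProjCoh
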