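import Groth.Agent.ProjCoh.Horrocks
import Groth.Agent.ProjCoh.LocFreeLow
import Groth.Agent.ProjTwist.Invertible
import Groth.Agent.ProjCoh.Structure

/-!
# Rank and degrees of a splitting into twisting sheaves
-/

universe u

open CategoryTheory CategoryTheory.Limits AlgebraicGeometry TopologicalSpace Opposite
open scoped Groth.Agent.CohVanish

namespace Groth.Agent.ProjCoh

open Groth.Agent.CechCmp Groth.Agent.CohVanish

variable {n : ℕ} {K : Type u} [Field K]

local notation "𝒜" => CohB1.polyGrading n K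

/-- A decomposition of a module into free rank one pieces. -/
theorem nonempty_linearEquiv_of_decomp {A : Type u} [CommRing A] {N : Type u} [AddCommGroup N] [Module A N] {r : ℕ}
    {P : Fin r → Type u} [∀ l, AddCommGroup (P l)] [∀ l, Module A (P l)] (i : ∀ l, P l →ₗ[A] N)
    (p : ∀ l, N →ₗ[A] P l) (g : ∀ l, A ≃ₗ[A] P l) (h1 : ∀ l x, p l (i l x) = x)
    (h2 : ∀ l m, l ≠ m → ∀ x, p m (i l x) = 0) (h3 : ∀ x, ∑ l, i l (p l x) = x) :
    Nonempty ((Fin r → A) ≃ₗ[A] N) :=
  ⟨LinearEquiv.ofLinearMap (∑ l, i l ∘ₗ (g l).toLinearMap ∘ₗ LinearMap.proj l)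
    (LinearMap.pi fun l => (g l).symm.toLinearMap ∘ₗ p l)
    (LinearMap.ext fun x => by simp [h3])
    (LinearMap.ext fun c => funext fun l => by
      simp only [LinearMap.comp_apply, LinearMap.pi_apply, LinearMap.sum_apply, map_sum, LinearMap.id_apply]
      rw [Finset.sum_eq_single l (fun m _ hm => by
          change (g l).symm (p l (i m (g m (c m)))) = 0
          rw [h2 m l hm, map_zero]) (fun h => absurd (Finset.mem_univ l) h)]
      change (g l).symm (p l (i l (g l (c l)))) = c l
      rw [h1, LinearEquiv.symm_apply_apply])⟩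

/-- A morphism on sections as a linear map. -/
noncomputable def appLin {X : Scheme.{u}} {M N : X.Modules} (φ : M ⟶ N) (V : X.Opens) : Γ(M, V) →ₗ[Γ(X, V)] Γ(N, V) where
  toFun := φ.app V
  map_add' := map_add _
  map_smul' t x := Scheme.Modules.Hom.app_smul φ t x

lemma appLin_apply {X : Scheme.{u}} {M N : X.Modules} (φ : M ⟶ N) (V : X.Opens) (x : Γ(M, V)) :
    appLin φ V x = φ.app V x := rfl

/-- Sections of a split module over an open inside a chart form a free module on the summands. -/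
theorem Splitting.nonempty_linearEquiv {E : (Proj 𝒜).Modules} {r : ℕ} {a : Fin r → ℤ} (S : Splitting E r a)
    (j : Ix.{u} n) {V : (Proj 𝒜).Opens} (hV : V ≤ chartMeet K ({j} : Finset (Ix.{u} n))) :
    Nonempty ((Fin r → Γ(Proj 𝒜, V)) ≃ₗ[Γ(Proj 𝒜, V)] Γ(E, V)) := by
  exact nonempty_linearEquiv_of_decomp (P := fun l => Γ(Twist.twist (CohB1.polyGrading n K) (a l), V))
    (fun l => appLin (S.inc l) V) (fun l => appLin (S.proj l) V)
    (fun l => genLin (isFreeGen_genAt (R := K) (a l) j) hV)
    (fun l x => by rw [appLin_apply, appLin_apply, ← LocFreeAnn.app_comp, S.inc_proj, LocFreeAnn.app_id])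
    (fun l m h x => by rw [appLin_apply, appLin_apply, ← LocFreeAnn.app_comp, S.inc_proj_ne l m h]; rfl)
    (fun x => by
      simp only [appLin_apply, ← LocFreeAnn.app_comp]
      rw [← LocFreeAnn.app_sum, S.total, LocFreeAnn.app_id])

/-- The number of summands is the rank. -/
theorem Splitting.eq_rank {E : (Proj 𝒜).Modules} {r r' : ℕ} {a : Fin r' → ℤ} (S : Splitting E r' a)
    (hE : FlatMod.IsFinLocFreeOfRank r E) : r' = r := by
  obtain ⟨y⟩ := (inferInstance : Nonempty (Proj 𝒜))
  obtain ⟨W, hyW, ⟨e⟩⟩ := hE y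
  obtain ⟨b, hb⟩ := LocFreeAnn.exists_basis e
  obtain ⟨j, hj⟩ := Opens.mem_iSup.1
    (show y ∈ ⨆ j : Ix.{u} n, chartMeet K ({j} : Finset (Ix.{u} n)) by
      rw [iSup_chartMeet_singleton]; exact Opens.mem_top y)
  let V := W ⊓ chartMeet K ({j} : Finset (Ix.{u} n))
  haveI : Nonempty (V : (Proj 𝒜).Opens) := ⟨⟨y, hyW, hj⟩⟩
  obtain ⟨e₁⟩ := S.nonempty_linearEquiv j (inf_le_right : V ≤ _)
  let Φ : (Fin r → Γ(Proj 𝒜, V)) →ₗ[Γ(Proj 𝒜, V)] Γ(E, V) :=
    Fintype.linearCombination Γ(Proj 𝒜, V) fun i => E.presheaf.map (homOfLE (inf_le_left : V ≤ W)).op (b i)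
  have hΦ : Function.Bijective Φ := by
    have e2 : ⇑Φ = fun c => ∑ i, c i • E.presheaf.map (homOfLE (inf_le_left : V ≤ W)).op (b i) := funext fun c => by
      simp [Φ, Fintype.linearCombination_apply]
    rw [e2]
    exact hb V inf_le_left
  have h := (e₁.trans (LinearEquiv.ofBijective Φ hΦ).symm).finrank_eq
  rwa [Module.finrank_fin_fun, Module.finrank_fin_fun] at h

/-- The dimensions of the sections of the twists of a split module. -/
theorem Splitting.finrank_TH {E : (Proj 𝒜).Modules} [E.IsQuasicoherent] {r : ℕ} {a : Fin r → ℤ}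
    (S : Splitting E r a) (m : ℤ) :
    Module.finrank K (TH E m 0) = ∑ j, Module.finrank K (TH (Twist.twist (CohB1.polyGrading n K) (a j)) m 0) := by
  haveI := fun j => finite_TH (Twist.twist (CohB1.polyGrading n K) (a j)) (isCoh_twist_self _) m 0
  let e : TH E m 0 ≃ₗ[K] ∀ j, TH (Twist.twist (CohB1.polyGrading n K) (a j)) m 0 :=
    { toFun := fun x j => mapT (S.proj j) m 0 x
      invFun := fun y => ∑ j, mapT (S.inc j) m 0 (y j)
      map_add' := fun x y => funext fun j => map_add _ x y
      map_smul' := fun c x => funext fun j => map_smul _ c x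
      left_inv := fun x => by
        simp only [← mapT_comp]
        rw [← mapT_sum, S.total, mapT_id]
      right_inv := fun y => funext fun l => by
        dsimp only
        rw [map_sum, Finset.sum_eq_single l]
        · rw [← mapT_comp, S.inc_proj, mapT_id]
        · intro j _ hj
          rw [← mapT_comp, S.inc_proj_ne j l hj, mapT_zero]
        · exact fun h => absurd (Finset.mem_univ l) h }
  haveI : ∀ j, Module.Free K (TH (Twist.twist (CohB1.polyGrading n K) (a j)) m 0) := fun j =>
    Module.Free.of_divisionRing K _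
  rw [e.finrank_eq, Module.finrank_pi_fintype]

/-- The degrees of a splitting, in decreasing order, are unique. -/
theorem Splitting.eq_of_antitone (hn : 1 ≤ n) {E : (Proj 𝒜).Modules} [E.IsQuasicoherent] {r : ℕ} {a b : Fin r → ℤ}
    (S : Splitting E r a) (T : Splitting E r b) (ha : Antitone a) (hb : Antitone b) : a = b := by
  let g : ℤ → ℤ → ℕ := fun d m => Module.finrank K (TH (Twist.twist (CohB1.polyGrading n K) d) m 0)
  have hzero : ∀ d m, d + m < 0 → g d m = 0 := fun d m h => by
    haveI := subsingleton_tw_twist_zero (R := K) d m h hn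
    exact Module.finrank_zero_of_subsingleton
  have hpos : ∀ d m, 0 ≤ d + m → 0 < g d m := fun d m h => by
    haveI := nontrivial_TH_twist_zero (n := n) (R := K) d m h
    haveI := finite_TH (Twist.twist (CohB1.polyGrading n K) d) (isCoh_twist_self _) m 0
    exact Module.finrank_pos
  have hsum : ∀ m, ∑ j, g (a j) m = ∑ j, g (b j) m := fun m =>
    (S.finrank_TH m).symm.trans (T.finrank_TH m)
  by_contra hne
  have hex : ∃ k : ℕ, ∃ hk : k < r, a ⟨k, hk⟩ ≠ b ⟨k, hk⟩ := by
    by_contra h
    push Not at h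
    exact hne (funext fun j => h j.1 j.2)
  obtain ⟨hk, hkne⟩ := Nat.find_spec hex
  let j : Fin r := ⟨Nat.find hex, hk⟩
  have hlt : ∀ i : Fin r, i < j → a i = b i := fun i hi => by
    by_contra h
    exact Nat.find_min hex hi ⟨i.2, h⟩
  have key : ∀ c d : Fin r → ℤ, Antitone d → (∀ i : Fin r, i < j → c i = d i) → d j < c j →
      ∑ i, g (d i) (-c j) < ∑ i, g (c i) (-c j) := by
    intro c d hd hcd hlt'
    refine Finset.sum_lt_sum (fun i _ => ?_) ⟨j, Finset.mem_univ j, ?_⟩
    · rcases lt_or_ge i j with h | h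
      · rw [hcd i h]
      · rw [hzero _ _ (by have := hd h; omega)]
        exact Nat.zero_le _
    · rw [hzero _ _ (by omega)]
      exact hpos _ _ (by omega)
  rcases lt_or_gt_of_ne (hkne : a j ≠ b j) with h | h
  · exact (key b a ha (fun i hi => (hlt i hi).symm) h).ne (hsum _)
  · exact (key a b hb hlt h).ne (hsum _).symm

/-- Reindexing a splitting. -/
theorem Splitting.reindex {E : (Proj 𝒜).Modules} {r : ℕ} {a : Fin r → ℤ} (S : Splitting E r a)
    (σ : Equiv.Perm (Fin r)) : Nonempty (Splitting E r (a ∘ σ)) :=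
  ⟨⟨fun j => S.inc (σ j), fun j => S.proj (σ j), fun j => S.inc_proj (σ j),
    fun j l h => S.inc_proj_ne _ _ fun e => h (σ.injective e),
    (Equiv.sum_comp σ fun j => S.proj j ≫ S.inc j).trans S.total⟩⟩

/-- A finite locally free module of rank `r` without middle cohomology is a sum of `r` twisting sheaves. -/
theorem exists_splitting_of_isFinLocFreeOfRank (hn : 1 ≤ n) (E : (Proj 𝒜).Modules) [E.IsQuasicoherent] {r : ℕ}
    (hE : FlatMod.IsFinLocFreeOfRank r E) (hmid : MiddleVanish E) :
    ∃ a : Fin r → ℤ, Nonempty (Splitting E r a) := by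
  have hfree : FlatMod.IsFinLocFree E := fun x => let ⟨U, h⟩ := hE x; ⟨U, r, h⟩
  obtain ⟨r', a, ⟨S⟩⟩ := exists_splitting hn E (DCohPerf.isCoh_finLocFree hfree)
    (exists_low_of_isFinLocFree hn E hfree) hmid
  obtain rfl := S.eq_rank hE
  exact ⟨a, ⟨S⟩⟩

/-- Projective space of dimension zero over a field is one point. -/
theorem chartMeet_eq_top_of_eq_zero (hn : n = 0) (j : Ix.{u} n) : chartMeet K ({j} : Finset (Ix.{u} n)) = ⊤ := by
  subst hn
  rw [← iSup_chartMeet_singleton (n := 0) (R := K)]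
  haveI : Unique (Ix.{u} 0) := ⟨⟨ULift.up 0⟩, fun i => ULift.ext _ _ (Subsingleton.elim (α := Fin 1) _ _)⟩
  exact le_antisymm (le_iSup_of_le j le_rfl) (iSup_le fun i => by rw [Subsingleton.elim i j])

theorem subsingleton_proj_zero : Subsingleton (Proj (CohB1.polyGrading 0 K)) := by
  let X := Proj (CohB1.polyGrading 0 K)
  have haff : IsAffineOpen (⊤ : X.Opens) := by
    rw [← chartMeet_eq_top_of_eq_zero (K := K) (n := 0) rfl (ULift.up 0)]
    exact isAffineOpen_chartMeet _ (Finset.singleton_nonempty _)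
  haveI : IsAffine (⊤ : X.Opens).toScheme := haff
  haveI : IsAffine X := IsAffine.of_isIso X.topIso.inv
  have hfield : IsField Γ(X, ⊤) := by
    obtain ⟨h1, h2⟩ := bijective_toGlobal (n := 0) (R := K)
    exact MulEquiv.isField (Field.toIsField K) (RingEquiv.ofBijective _ ⟨h1, h2⟩).symm.toMulEquiv
  letI := hfield.toField
  exact X.isoSpec.hom.homeomorph.toEquiv.subsingleton_congr.2
    (inferInstanceAs (Subsingleton (PrimeSpectrum Γ(X, ⊤))))

/-- On projective space of dimension zero locally free modules are free. -/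
theorem exists_iso_twist_zero (r : ℕ) (E : (Proj (CohB1.polyGrading 0 K)).Modules)
    (hE : FlatMod.IsFinLocFreeOfRank r E) :
    Nonempty (E ≅ ∐ fun _ : Fin r => Twist.twist (CohB1.polyGrading 0 K) 0) := by
  let X := Proj (CohB1.polyGrading 0 K)
  haveI := subsingleton_proj_zero (K := K)
  obtain ⟨y⟩ := (inferInstance : Nonempty X)
  obtain ⟨W, hyW, ⟨e⟩⟩ := hE y
  obtain ⟨b, hb⟩ := LocFreeAnn.exists_basis e
  have hW : ∀ U : X.Opens, U ≤ W := fun U z _ => Subsingleton.elim y z ▸ hyW
  let φ : FlatMod.freeMod X r ⟶ E := Sigma.desc fun i =>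
    ProjTwist.globalHom E (E.presheaf.map (homOfLE (hW ⊤)).op (b i))
  have hgen : ∀ i, φ.app ⊤ (LocFreeAnn.gen X r i) = E.presheaf.map (homOfLE (hW ⊤)).op (b i) := fun i => by
    change (Sigma.ι (fun _ : Fin r => Coh.structureModule X) i ≫ φ).app ⊤ (1 : Γ(X, ⊤)) = _
    rw [Sigma.ι_desc]
    refine ((ProjTwist.globalHom_app E _ ⊤ (1 : Γ(X, ⊤))).trans (one_smul _ _)).trans ?_
    exact QCohLib.map_map E _ _ _
  haveI : IsIso φ := by
    rw [Scheme.Modules.Hom.isIso_iff_isIso_app]
    intro U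
    rw [ConcreteCategory.isIso_iff_bijective, LocFreeAnn.free_app_bijective_iff]
    convert hb U (hW U) using 4 with c i
    rw [hgen, QCohLib.map_map]
  obtain ⟨t⟩ := ProjTwist.nonempty_structureModule_iso_twist_zero (CohB1.polyGrading 0 K)
  exact ⟨(asIso φ).symm ≪≫ Sigma.mapIso fun _ => t⟩

end Groth.Agent.ProjCoh
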