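import Groth.Agent.ProjCoh.Syzygy
import Groth.Agent.ProjCoh.SplittingRank
import Mathlib.Algebra.Homology.Augment

/-!
# Finite resolutions of coherent modules by sums of twisting sheaves
-/

universe u

open CategoryTheory CategoryTheory.Limits AlgebraicGeometry TopologicalSpace Opposite
open scoped Groth.Agent.CohVanish ZeroObject

attribute [local instance] Abelian.hasFiniteBiproducts

namespace Groth.Agent.ProjCoh

open Groth.Agent.CechCmp Groth.Agent.CohVanish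

section Generic

variable {C : Type*} [Category C] [Abelian C]

/-- `E` has a resolution of length at most `L` by decomposed objects. -/
def HasRes (O : ℤ → C) (E : C) (L : ℕ) : Prop :=
  ∃ (R : ChainComplex C ℕ) (π : R.X 0 ⟶ E) (w : R.d 1 0 ≫ π = 0),
    (∀ i, L < i → IsZero (R.X i)) ∧ (∀ i, ∃ (r : ℕ) (a : Fin r → ℤ), Nonempty (Decomp O (R.X i) r a)) ∧
      (∀ i, 1 ≤ i → IsZero (R.homology i)) ∧ Epi π ∧ (ShortComplex.mk (R.d 1 0) π w).Exact

variable {O : ℤ → C}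

theorem HasRes.mono {E : C} {L L' : ℕ} (h : HasRes O E L) (hL : L ≤ L') : HasRes O E L' := by
  obtain ⟨R, π, w, h1, h2⟩ := h
  exact ⟨R, π, w, fun i hi => h1 i (lt_of_le_of_lt hL hi), h2⟩

theorem hasRes_of_decomp {E : C} {r : ℕ} {a : Fin r → ℤ} (S : Decomp O E r a) : HasRes O E 0 := by
  let X : ℕ → C := fun i => match i with
    | 0 => E
    | _ + 1 => 0
  let R : ChainComplex C ℕ := ChainComplex.of X (fun _ => 0) (fun _ => zero_comp)
  refine ⟨R, 𝟙 E, ?_, fun i hi => ?_, fun i => ?_, fun i hi => ?_, inferInstance, ?_⟩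
  · exact (Category.comp_id _).trans (ChainComplex.of_d X (fun _ => 0) 0)
  · obtain ⟨k, rfl⟩ : ∃ k, i = k + 1 := ⟨i - 1, by omega⟩
    exact isZero_zero C
  · match i with
    | 0 => exact ⟨r, a, ⟨S⟩⟩
    | k + 1 => exact ⟨0, Fin.elim0, Decomp.nonempty_zero ((isZero_zero C).eq_of_src _ _)⟩
  · obtain ⟨k, rfl⟩ : ∃ k, i = k + 1 := ⟨i - 1, by omega⟩
    exact (HomologicalComplex.exactAt_iff_isZero_homology _ _).1
      (ShortComplex.exact_of_isZero_X₂ _ (isZero_zero C))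
  · refine (ShortComplex.exact_iff_mono _ ?_).2 (inferInstanceAs (Mono (𝟙 E)))
    exact ChainComplex.of_d X (fun _ => 0) 0

theorem hasRes_cons {N P E : C} {k : N ⟶ P} {φ : P ⟶ E} {w : k ≫ φ = 0}
    (hS : (ShortComplex.mk k φ w).ShortExact) {r : ℕ} {a : Fin r → ℤ} (S : Decomp O P r a) {L : ℕ}
    (h : HasRes O N L) : HasRes O E (L + 1) := by
  obtain ⟨R, π, wR, hzero, hdec, hhom, hepi, hex⟩ := h
  haveI : Mono k := hS.mono_f
  haveI : Epi φ := hS.epi_g
  let R' := R.augment (π ≫ k) (by rw [← Category.assoc, wR, zero_comp])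
  refine ⟨R', φ, ?_, fun i hi => ?_, fun i => ?_, fun i hi => ?_, hS.epi_g, ?_⟩
  · exact (Category.assoc π k φ).trans ((congrArg (fun χ => π ≫ χ) w).trans comp_zero)
  · obtain ⟨j, rfl⟩ : ∃ j, i = j + 1 := ⟨i - 1, by omega⟩
    exact hzero j (by omega)
  · match i with
    | 0 => exact ⟨r, a, ⟨S⟩⟩
    | j + 1 => exact hdec j
  · obtain ⟨j, rfl⟩ : ∃ j, i = j + 1 := ⟨i - 1, by omega⟩
    rw [← HomologicalComplex.exactAt_iff_isZero_homology,
      HomologicalComplex.exactAt_iff' _ (j + 2) (j + 1) j (by simp) (by simp)]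
    match j with
    | 0 =>
      let f : ShortComplex.mk (R.d 1 0) π wR ⟶ R'.sc' 2 1 0 :=
        { τ₁ := 𝟙 (R.X 1), τ₂ := 𝟙 (R.X 0), τ₃ := k
          comm₁₂ := (Category.id_comp _).trans (Category.comp_id _).symm
          comm₂₃ := Category.id_comp _ }
      haveI : Epi f.τ₁ := inferInstanceAs (Epi (𝟙 (R.X 1)))
      haveI : IsIso f.τ₂ := inferInstanceAs (IsIso (𝟙 (R.X 0)))
      haveI : Mono f.τ₃ := inferInstanceAs (Mono k)
      exact (ShortComplex.exact_iff_of_epi_of_isIso_of_mono f).1 hex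
    | j + 1 =>
      have h1 := (HomologicalComplex.exactAt_iff_isZero_homology R (j + 1)).2 (hhom (j + 1) (by omega))
      rw [HomologicalComplex.exactAt_iff' _ (j + 2) (j + 1) j (by simp) (by simp)] at h1
      exact h1
  · let f : ShortComplex.mk (π ≫ k) φ (by rw [Category.assoc, w, comp_zero]) ⟶ ShortComplex.mk k φ w :=
      { τ₁ := π, τ₂ := 𝟙 P, τ₃ := 𝟙 E
        comm₁₂ := (Category.comp_id _).symm
        comm₂₃ := (Category.id_comp _).trans (Category.comp_id _).symm }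
    haveI : Epi f.τ₁ := hepi
    haveI : IsIso f.τ₂ := inferInstanceAs (IsIso (𝟙 P))
    haveI : Mono f.τ₃ := inferInstanceAs (Mono (𝟙 E))
    exact (ShortComplex.exact_iff_of_epi_of_isIso_of_mono f).2 hS.exact

/-- A decomposed source combining a decomposed cover with further morphisms. -/
theorem exists_decomp_desc_add {P₁ E : C} {r₁ : ℕ} {b₁ : Fin r₁ → ℤ} (S₁ : Decomp O P₁ r₁ b₁) (φ₁ : P₁ ⟶ E)
    {κ : Type} [Finite κ] (a : κ → ℤ) (f : ∀ c, O (a c) ⟶ E) :
    ∃ (r : ℕ) (b : Fin r → ℤ) (P : C) (φ : P ⟶ E), Nonempty (Decomp O P r b) ∧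
      (∀ c, ∃ i : O (a c) ⟶ P, i ≫ φ = f c) ∧ ∃ j : P₁ ⟶ P, j ≫ φ = φ₁ := by
  obtain ⟨r, b, P, φ, hS, -, hφ⟩ := exists_decomp_desc (O := O) (κ := Fin r₁ ⊕ κ) (Sum.elim b₁ a)
    (fun c => match c with
      | Sum.inl l => S₁.inc l ≫ φ₁
      | Sum.inr c => f c)
  have hi' : ∀ l, ∃ i : O (b₁ l) ⟶ P, i ≫ φ = S₁.inc l ≫ φ₁ := fun l => hφ (Sum.inl l)
  choose i hi using hi'
  refine ⟨r, b, P, φ, hS, fun c => hφ (Sum.inr c), ∑ l, S₁.proj l ≫ i l, ?_⟩
  rw [Preadditive.sum_comp]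
  refine (Finset.sum_congr rfl fun l _ => ?_).trans ((Preadditive.sum_comp _ (fun l => S₁.proj l ≫ S₁.inc l) φ₁).symm.trans
    (by rw [S₁.total, Category.id_comp]))
  rw [Category.assoc, Category.assoc]
  exact congrArg (fun χ => S₁.proj l ≫ χ) (hi l)

end Generic

variable {n : ℕ} {K : Type u} [Field K]

local notation "𝒜" => CohB1.polyGrading n K

local notation "𝒪" => fun d : ℤ => Twist.twist (CohB1.polyGrading n K) d

/-- The conditions propagated along a resolution. -/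
structure ResData (N : (Proj (CohB1.polyGrading n K)).Modules) [N.IsQuasicoherent] (j : ℕ) : Prop where
  coh : Coh.IsCoh N
  low : ∃ m₀ : ℤ, ∀ m, m ≤ m₀ → Subsingleton (TH N m 0)
  van : ∀ (m : ℤ) (i : ℕ), 1 ≤ i → i ≤ j → i < n → Subsingleton (TH N m i)

/-- The kernel of a cover by twisting sheaves which is surjective on sections in all degrees. -/
theorem resData_succ (hn : 1 ≤ n) {N P E : (Proj 𝒜).Modules} [N.IsQuasicoherent] [P.IsQuasicoherent]
    [E.IsQuasicoherent] {k : N ⟶ P} {φ : P ⟶ E} {w : k ≫ φ = 0} (hS : (ShortComplex.mk k φ w).ShortExact)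
    {r : ℕ} {b : Fin r → ℤ} (S : Splitting P r b) (hN : Coh.IsCoh N) {j : ℕ} (hE : ResData E j)
    (hs : ∀ d, Function.Surjective (mapT φ d 0)) : ResData N (j + 1) := by
  obtain ⟨⟨m₀, h0⟩, hmid⟩ := Splitting.conditions hn S
  refine ⟨hN, ⟨m₀, fun m hm => ?_⟩, fun m i h1 h2 h3 => ?_⟩
  · haveI := h0 m hm
    exact subsingleton_TH_zero_of_ses hS m
  · obtain ⟨q, rfl⟩ : ∃ q, i = q + 1 := ⟨i - 1, by omega⟩
    haveI := hmid m (q + 1) (by omega) h3
    rcases Nat.eq_zero_or_pos q with hq | hq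
    · subst hq
      exact subsingleton_TH_succ_of_surjective hS m 0 (hs m)
    · haveI := hE.van m q hq (by omega) (by omega)
      exact subsingleton_TH_succ_of_ses hS m q

/-- A cover by copies of `O(-m)` of an `m`-regular module, surjective on sections in all degrees from `m`. -/
theorem exists_cover_surjective_ge (hn : 1 ≤ n) (E : (Proj 𝒜).Modules) [E.IsQuasicoherent] (hE : Coh.IsCoh E) {m : ℤ}
    (h : RegT E m) :
    ∃ (r : ℕ) (b : Fin r → ℤ) (P : (Proj 𝒜).Modules) (φ : P ⟶ E) (_ : Splitting P r b) (hP : P.IsQuasicoherent),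
      Epi φ ∧ ∀ d, m ≤ d → Function.Surjective (mapT φ d 0) := by
  obtain ⟨κ, _, a, f, ha, hf⟩ := exists_epi_of_regT E hE h
  obtain ⟨r, b, P, φ, ⟨S⟩, hb, hφ⟩ := exists_decomp_desc (O := 𝒪) a f
  have hP : Coh.IsCoh P := Splitting.isCoh S
  haveI := hP.1
  obtain ⟨hepi, hsurj⟩ := hf P inferInstance φ hφ
  obtain ⟨N, k, w, hN, hS⟩ := exists_kernel_ses φ hP hE
  haveI := hN.1
  have hbm : ∀ l, b l = -m := fun l => by obtain ⟨c, hc⟩ := hb l; rw [← hc, ha]
  have hreg := regT_kernel hS S hbm h hsurj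
  refine ⟨r, b, P, φ, S, inferInstance, hepi, fun d hd => ?_⟩
  haveI := hreg.propagate 1 d le_rfl (by push_cast; omega)
  exact (sys_ses_of_shortExact hS d).surjective_mapH 0

/-- Surjectivity on sections through a factorisation. -/
theorem surjective_mapT_of_factor {Q P E : (Proj 𝒜).Modules} [Q.IsQuasicoherent] [P.IsQuasicoherent] [E.IsQuasicoherent]
    (i : Q ⟶ P) (φ : P ⟶ E) (ψ : Q ⟶ E) (h : i ≫ φ = ψ) (d : ℤ) (p : ℕ) (hs : Function.Surjective (mapT ψ d p)) :
    Function.Surjective (mapT φ d p) := fun x => by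
  obtain ⟨y, hy⟩ := hs x
  exact ⟨mapT i d p y, by rw [← mapT_comp, h, hy]⟩

/-- Surjectivity in the low, high and intermediate degrees. -/
theorem surjective_of_three_ranges {Q P E : (Proj 𝒜).Modules} [Q.IsQuasicoherent] [P.IsQuasicoherent]
    [E.IsQuasicoherent] (φ : P ⟶ E) (ψ : Q ⟶ E) (i : Q ⟶ P) (h : i ≫ φ = ψ) {m₀ m : ℤ}
    (h0 : ∀ d, d ≤ m₀ → Subsingleton (TH E d 0)) (h1 : ∀ d, m ≤ d → Function.Surjective (mapT ψ d 0))
    (h2 : ∀ d ∈ Finset.Icc (m₀ + 1) (m - 1), Function.Surjective (mapT φ d 0)) (d : ℤ) :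
    Function.Surjective (mapT φ d 0) := by
  rcases le_or_gt d m₀ with hd | hd
  · haveI := h0 d hd
    exact fun x => ⟨0, Subsingleton.elim _ _⟩
  rcases le_or_gt m d with hd' | hd'
  · exact surjective_mapT_of_factor i φ ψ h d 0 (h1 d hd')
  · exact h2 d (Finset.mem_Icc.2 ⟨by omega, by omega⟩)

/-- A cover surjective on sections in all degrees. -/
theorem exists_cover_all (hn : 1 ≤ n) (E : (Proj 𝒜).Modules) [E.IsQuasicoherent] {j : ℕ} (hE : ResData E j) :
    ∃ (r : ℕ) (b : Fin r → ℤ) (P : (Proj 𝒜).Modules) (φ : P ⟶ E) (_ : Splitting P r b) (_ : P.IsQuasicoherent),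
      Epi φ ∧ ∀ d, Function.Surjective (mapT φ d 0) := by
  obtain ⟨m₀, h0⟩ := hE.low
  obtain ⟨m, hm⟩ := exists_regT E hE.coh
  obtain ⟨r₁, b₁, P₁, φ₁, S₁, hP₁, hepi₁, hsurj₁⟩ := exists_cover_surjective_ge hn E hE.coh hm
  obtain ⟨κ, _, a, f, -, hf⟩ := exists_cover_degrees E hE.coh (Finset.Icc (m₀ + 1) (m - 1))
  obtain ⟨r, b, P, φ, ⟨S⟩, hφ, i₁, hi₁⟩ := exists_decomp_desc_add (O := 𝒪) S₁ φ₁ a f
  haveI := (Splitting.isCoh S).1
  exact ⟨r, b, P, φ, S, inferInstance, epi_of_epi_fac hi₁,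
    surjective_of_three_ranges φ φ₁ i₁ hi₁ h0 hsurj₁ (hf P inferInstance φ hφ)⟩

/-- One step of the resolution. -/
theorem exists_resData_step (hn : 1 ≤ n) (E : (Proj 𝒜).Modules) [E.IsQuasicoherent] {j : ℕ} (hE : ResData E j) :
    ∃ (N P : (Proj 𝒜).Modules) (k : N ⟶ P) (φ : P ⟶ E) (w : k ≫ φ = 0) (r : ℕ) (b : Fin r → ℤ) (_ : N.IsQuasicoherent),
      (ShortComplex.mk k φ w).ShortExact ∧ Nonempty (Splitting P r b) ∧ ResData N (j + 1) := by
  obtain ⟨r, b, P, φ, S, hPq, hepi, hs⟩ := exists_cover_all hn E hE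
  obtain ⟨N, k, w, hN, hS⟩ := exists_kernel_ses φ (Splitting.isCoh S) hE.coh
  haveI := hN.1
  exact ⟨N, P, k, φ, w, r, b, inferInstance, hS, ⟨S⟩, resData_succ hn hS S hN hE hs⟩

theorem hasRes_of_resData (hn : 1 ≤ n) : ∀ (t j : ℕ) (E : (Proj 𝒜).Modules) [E.IsQuasicoherent],
    ResData E j → n ≤ j + 1 + t → HasRes (𝒪) E t
  | 0, j, E, _, hE, h => by
    obtain ⟨r, a, ⟨S⟩⟩ := exists_splitting hn E hE.coh hE.low fun m i h1 h2 => hE.van m i h1 (by omega) h2
    exact hasRes_of_decomp S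
  | t + 1, j, E, _, hE, h => by
    obtain ⟨N, P, k, φ, w, r, b, _, hS, ⟨S⟩, hN⟩ := exists_resData_step hn E hE
    exact hasRes_cons hS S (hasRes_of_resData hn t (j + 1) N hN (by omega))

/-- Coherent modules on projective space of dimension zero split. -/
theorem exists_splitting_zero (E : (Proj (CohB1.polyGrading 0 K)).Modules) (hE : Coh.IsCoh E) :
    ∃ (r : ℕ) (a : Fin r → ℤ), Nonempty (Splitting E r a) := by
  let X := Proj (CohB1.polyGrading 0 K)
  haveI := subsingleton_proj_zero (K := K)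
  haveI := hE.1
  have hj := chartMeet_eq_top_of_eq_zero (K := K) (n := 0) rfl (ULift.up 0)
  have haff : IsAffineOpen (⊤ : X.Opens) := by
    rw [← hj]
    exact isAffineOpen_chartMeet _ (Finset.singleton_nonempty _)
  haveI := QCohLib.finite_sections E hE.2 haff
  obtain ⟨h1, h2⟩ := bijective_toGlobal (n := 0) (R := K)
  letI := (MulEquiv.isField (Field.toIsField K) (RingEquiv.ofBijective _ ⟨h1, h2⟩).symm.toMulEquiv : IsField Γ(X, ⊤)).toField
  let b := Module.finBasis Γ(X, ⊤) Γ(E, ⊤)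
  let φ : FlatMod.freeMod X _ ⟶ E := Sigma.desc fun i => ProjTwist.globalHom E (b i)
  have hgen : ∀ i, φ.app ⊤ (LocFreeAnn.gen X _ i) = b i := fun i => by
    change (Sigma.ι (fun _ : Fin (Module.finrank Γ(X, ⊤) Γ(E, ⊤)) => Coh.structureModule X) i ≫ φ).app ⊤ (1 : Γ(X, ⊤)) = _
    rw [Sigma.ι_desc]
    refine ((ProjTwist.globalHom_app E _ ⊤ (1 : Γ(X, ⊤))).trans (one_smul _ _)).trans ?_
    exact QCohLib.map_self E _ (b i)
  haveI : IsIso φ := by
    rw [Scheme.Modules.Hom.isIso_iff_isIso_app]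
    intro U
    rw [ConcreteCategory.isIso_iff_bijective]
    rcases Set.eq_empty_or_nonempty (U : Set X) with hU | ⟨y, hy⟩
    · have hempty : ∀ (M : X.Modules), Subsingleton Γ(M, U) := fun M => ⟨fun s t =>
        TopCat.Sheaf.eq_of_locally_eq' ⟨M.presheaf, M.isSheaf⟩ (fun e : Empty => (e.elim : X.Opens)) U
          (fun e => e.elim) (fun z hz => absurd hz (Set.eq_empty_iff_forall_notMem.1 hU z)) s t (fun e => e.elim)⟩
      haveI := hempty E
      haveI := hempty (FlatMod.freeMod X (Module.finrank Γ(X, ⊤) Γ(E, ⊤)))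
      exact ⟨fun _ _ _ => Subsingleton.elim _ _, fun x => ⟨0, Subsingleton.elim _ _⟩⟩
    · obtain rfl : U = ⊤ := by
        ext z
        exact ⟨fun _ => trivial, fun _ => Subsingleton.elim y z ▸ hy⟩
      rw [LocFreeAnn.free_app_bijective_iff]
      convert b.equivFun.symm.bijective using 2 with c
      rw [Module.Basis.equivFun_symm_apply]
      exact Finset.sum_congr rfl fun i _ => by rw [hgen i, QCohLib.map_self]
  obtain ⟨t⟩ := ProjTwist.nonempty_structureModule_iso_twist_zero (CohB1.polyGrading 0 K)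
  exact ⟨_, fun _ => 0, Splitting.exists_of_iso ((asIso φ).symm ≪≫ Sigma.mapIso fun _ => t)⟩

/-- **Hilbert's syzygy theorem**: resolutions of length `n` by sums of twisting sheaves. -/
theorem hasRes_of_isCoh (E : (Proj 𝒜).Modules) (hE : Coh.IsCoh E) : HasRes (𝒪) E n := by
  haveI := hE.1
  rcases Nat.eq_zero_or_pos n with hn | hn
  · subst hn
    obtain ⟨r, a, ⟨S⟩⟩ := exists_splitting_zero E hE
    exact hasRes_of_decomp S
  obtain ⟨q, r, g, hg⟩ := exists_epi_twist E hE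
  obtain ⟨r', b, P, φ, ⟨S⟩, -, hφ⟩ := exists_decomp_desc (O := 𝒪) (fun _ : Fin r => -(q : ℤ)) g
  have hP : Coh.IsCoh P := Splitting.isCoh S
  haveI := hP.1
  choose i hi using hφ
  haveI : Epi φ := by
    have e : biproduct.desc i ≫ φ = biproduct.desc g := by
      refine biproduct.hom_ext' _ _ fun c => ?_
      rw [biproduct.ι_desc_assoc, biproduct.ι_desc]
      exact hi c
    haveI : Epi (biproduct.desc i ≫ φ) := e ▸ hg
    exact epi_of_epi (biproduct.desc i) φ
  obtain ⟨N, k, w, hN, hS⟩ := exists_kernel_ses φ hP hE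
  haveI := hN.1
  obtain ⟨⟨m₀, h0⟩, -⟩ := Splitting.conditions hn S
  have hdata : ResData N 0 := ⟨hN, ⟨m₀, fun m hm => haveI := h0 m hm; subsingleton_TH_zero_of_ses hS m⟩,
    fun m i h1 h2 => absurd h2 (by omega)⟩
  have hr := hasRes_cons hS S (hasRes_of_resData hn (n - 1) 0 N hdata (by omega))
  exact hr.mono (by omega)

end Groth.Agent.ProjCoh
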