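import Groth.Agent.ProjCoh.SesLemmas

/-!
# Epimorphisms from sums of twisting sheaves; regularity of their kernels
-/

universe u

open CategoryTheory CategoryTheory.Limits AlgebraicGeometry TopologicalSpace Opposite
open scoped Groth.Agent.CohVanish

attribute [local instance] Abelian.hasFiniteBiproducts

namespace Groth.Agent.ProjCoh

open Groth.Agent.CechCmp Groth.Agent.CohVanish

section Generic

variable {C : Type*} [Category C] [Abelian C] {O : ℤ → C}

/-- A family of morphisms from members of `O` as a morphism from a decomposed object. -/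
theorem exists_decomp_desc {κ : Type} [Finite κ] (a : κ → ℤ) {E : C} (f : ∀ c, O (a c) ⟶ E) :
    ∃ (r : ℕ) (b : Fin r → ℤ) (P : C) (φ : P ⟶ E), Nonempty (Decomp O P r b) ∧ (∀ l, ∃ c, a c = b l) ∧
      ∀ c, ∃ i : O (a c) ⟶ P, i ≫ φ = f c := by
  classical
  obtain ⟨r, ⟨e⟩⟩ := Finite.exists_equiv_fin κ
  let b : Fin r → ℤ := fun l => a (e.symm l)
  refine ⟨r, b, ⨁ fun l => O (b l), biproduct.desc fun l => f (e.symm l),
    ⟨⟨biproduct.ι _, biproduct.π _, fun j => biproduct.ι_π_self _ j, fun j l h => biproduct.ι_π_ne _ h,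
      biproduct.total⟩⟩, fun l => ⟨_, rfl⟩, fun c => ?_⟩
  obtain ⟨l, rfl⟩ : ∃ l, e.symm l = c := ⟨e c, e.symm_apply_apply c⟩
  exact ⟨biproduct.ι (fun l => O (b l)) l, biproduct.ι_desc _ _⟩

/-- A property closed under sums holds for decomposed objects. -/
theorem Decomp.prop_of_closed (Q : C → Prop) (hiso : ∀ {M N : C}, (M ≅ N) → Q M → Q N)
    (hprod : ∀ {M N : C}, Q M → Q N → Q (M ⊞ N)) (hker : ∀ {M : C}, Q M → Q (kernel (𝟙 M)))
    (hO : ∀ d, Q (O d)) : ∀ {r : ℕ} {P : C} {a : Fin r → ℤ}, Decomp O P r a → Q P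
  | 0, P, a, S => by
    have h0 : (𝟙 P : P ⟶ P) = 0 := by rw [← S.total]; exact Finset.sum_empty
    exact hiso ((isZero_kernel_of_mono (𝟙 (O 0))).iso ((IsZero.iff_id_eq_zero P).2 h0)) (hker (hO 0))
  | r + 1, P, a, S => by
    let T := ⨁ fun j : Fin r => O (a j.succ)
    have hT : Q T := Decomp.prop_of_closed Q hiso hprod hker hO (r := r) (a := fun j => a j.succ)
      ⟨biproduct.ι _, biproduct.π _, fun j => biproduct.ι_π_self _ j, fun j l h => biproduct.ι_π_ne _ h,
        biproduct.total⟩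
    refine hiso ?_ (hprod (hO (a 0)) hT)
    exact
      { hom := biprod.desc (S.inc 0) (biproduct.desc fun j => S.inc j.succ)
        inv := biprod.lift (S.proj 0) (biproduct.lift fun j => S.proj j.succ)
        hom_inv_id := by
          refine biprod.hom_ext' _ _ ?_ (biproduct.hom_ext' _ _ fun j => ?_)
          · refine biprod.hom_ext _ _ ?_ (biproduct.hom_ext _ _ fun j => ?_)
            · simp [S.inc_proj]
            · simp [S.inc_proj_ne 0 j.succ (Fin.succ_ne_zero j).symm]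
          · refine biprod.hom_ext _ _ ?_ (biproduct.hom_ext _ _ fun l => ?_)
            · simp [S.inc_proj_ne j.succ 0 (Fin.succ_ne_zero j)]
            · rcases eq_or_ne j l with rfl | h
              · simp [S.inc_proj]
              · simp [T, S.inc_proj_ne j.succ l.succ (fun e => h (Fin.succ_injective _ e)), biproduct.ι_π_ne _ h]
        inv_hom_id := by rw [biprod.lift_desc, biproduct.lift_desc, ← Fin.sum_univ_succ fun j => S.proj j ≫ S.inc j, S.total] }

/-- The kernel sequence of an epimorphism. -/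
theorem shortExact_kernel {P E : C} (φ : P ⟶ E) [Epi φ] :
    (ShortComplex.mk (kernel.ι φ) φ (kernel.condition φ)).ShortExact where
  exact := ShortComplex.exact_of_f_is_kernel _ (kernelIsKernel φ)

end Generic

variable {n : ℕ} {K : Type u} [Field K]

local notation "𝒜" => CohB1.polyGrading n K

/-- Sums of twisting sheaves are coherent. -/
theorem Splitting.isCoh {r : ℕ} {P : (Proj 𝒜).Modules} {a : Fin r → ℤ} (S : Splitting P r a) : Coh.IsCoh P :=
  Decomp.prop_of_closed Coh.IsCoh (fun e h => QCohLib.isCoh_of_iso e h)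
    (fun h1 h2 => QCohLib.isCoh_biprod h1 h2)
    (fun h => QCohLib.isCoh_kernel _ h h.1) isCoh_twist_self S

/-- A short exact kernel sequence with its coherent kernel. -/
theorem exists_kernel_ses {P E : (Proj 𝒜).Modules} (φ : P ⟶ E) [Epi φ] (hP : Coh.IsCoh P) (hE : Coh.IsCoh E) :
    ∃ (N : (Proj 𝒜).Modules) (k : N ⟶ P) (w : k ≫ φ = 0), Coh.IsCoh N ∧ (ShortComplex.mk k φ w).ShortExact :=
  ⟨kernel φ, kernel.ι φ, kernel.condition φ, QCohLib.isCoh_kernel φ hP hE.1, shortExact_kernel φ⟩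

section SES

variable {N P E : (Proj (CohB1.polyGrading n K)).Modules} [N.IsQuasicoherent] [P.IsQuasicoherent] [E.IsQuasicoherent]
  {k : N ⟶ P} {φ : P ⟶ E} {w : k ≫ φ = 0}

theorem sys_ses_of_shortExact (h : (ShortComplex.mk k φ w).ShortExact) (d : ℤ) :
    Sys.SES (twSecHom k d) (twSecHom φ d) :=
  @ses_twSecHom n K _ (ShortComplex.mk k φ w) h ‹N.IsQuasicoherent› ‹P.IsQuasicoherent› ‹E.IsQuasicoherent› d

/-- Sections of twists of submodules. -/
theorem subsingleton_TH_zero_of_ses (h : (ShortComplex.mk k φ w).ShortExact) (d : ℤ) [Subsingleton (TH P d 0)] :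
    Subsingleton (TH N d 0) :=
  (sys_ses_of_shortExact h d).injective_mapH_zero.subsingleton

theorem subsingleton_TH_succ_of_surjective (h : (ShortComplex.mk k φ w).ShortExact) (d : ℤ) (p : ℕ)
    (hs : Function.Surjective (mapT φ d p)) [Subsingleton (TH P d (p + 1))] : Subsingleton (TH N d (p + 1)) :=
  (sys_ses_of_shortExact h d).subsingleton_left_of_surjective p hs

theorem subsingleton_TH_succ_of_ses (h : (ShortComplex.mk k φ w).ShortExact) (d : ℤ) (p : ℕ)
    [Subsingleton (TH E d p)] [Subsingleton (TH P d (p + 1))] : Subsingleton (TH N d (p + 1)) :=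
  (sys_ses_of_shortExact h d).subsingleton_left p

theorem subsingleton_TH_right_of_ses (h : (ShortComplex.mk k φ w).ShortExact) (d : ℤ) (p : ℕ)
    [Subsingleton (TH P d p)] [Subsingleton (TH N d (p + 1))] : Subsingleton (TH E d p) :=
  (sys_ses_of_shortExact h d).subsingleton_right p

end SES

/-- `E` is `m`-regular, in the cohomology of twists. -/
def RegT (E : (Proj (CohB1.polyGrading n K)).Modules) [E.IsQuasicoherent] (m : ℤ) : Prop :=
  ∀ i : ℕ, 1 ≤ i → i ≤ n → Subsingleton (TH E (m - i) i)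

theorem regT_iff (E : (Proj 𝒜).Modules) [E.IsQuasicoherent] (m : ℤ) :
    Curv2.IsMRegular K n E m ↔ RegT E m :=
  forall_congr' fun i => forall_congr' fun _ => forall_congr' fun _ => subsingleton_TH_iff E (m - i) i

theorem RegT.propagate {E : (Proj 𝒜).Modules} [E.IsQuasicoherent] {m : ℤ} (h : RegT E m) (i : ℕ) (r : ℤ)
    (hi : 1 ≤ i) (hr : m - i ≤ r) : Subsingleton (TH E r i) :=
  (subsingleton_TH_iff E r i).1 (regular_propagates E ‹_› m
    (fun j h1 h2 => (subsingleton_TH_iff E (m - j) j).2 (h j h1 h2)) i r hi hr)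

theorem RegT.mono {E : (Proj 𝒜).Modules} [E.IsQuasicoherent] {m m' : ℤ} (h : RegT E m) (hm : m ≤ m') : RegT E m' :=
  fun i h1 _ => h.propagate i (m' - i) h1 (by omega)

theorem exists_regT (E : (Proj 𝒜).Modules) [E.IsQuasicoherent] (hE : Coh.IsCoh E) : ∃ m : ℤ, RegT E m := by
  obtain ⟨d₀, hd₀⟩ := (ofModule E).exists_vanishing (Fintype.card (Ix.{u} n)) (ofModule_fg E hE.2)
  refine ⟨d₀ + n, fun i h1 h2 => ?_⟩
  obtain ⟨q, rfl⟩ : ∃ q, i = q + 1 := ⟨i - 1, by omega⟩
  exact hd₀ _ (by push_cast; omega) q (by simp)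

/-- Morphisms from sums of twists reaching given degrees. -/
theorem exists_cover_degrees (E : (Proj 𝒜).Modules) [E.IsQuasicoherent] (hE : Coh.IsCoh E) (D : Finset ℤ) :
    ∃ (κ : Type) (_ : Finite κ) (a : κ → ℤ) (f : ∀ c, Twist.twist (CohB1.polyGrading n K) (a c) ⟶ E),
      (∀ c, -a c ∈ D) ∧ ∀ (P : (Proj 𝒜).Modules) (_ : P.IsQuasicoherent) (φ : P ⟶ E),
        (∀ c, ∃ i : Twist.twist (CohB1.polyGrading n K) (a c) ⟶ P, i ≫ φ = f c) →
          ∀ d ∈ D, Function.Surjective (mapT φ d 0) := by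
  haveI : ∀ d : ℤ, Module.Finite K (TH E d 0) := fun d => finite_TH E hE d 0
  choose r b hb using fun d : ℤ => Submodule.fg_iff_exists_fin_generating_family.1
    (Module.Finite.fg_top (R := K) (M := TH E d 0))
  choose f e hfe using fun (d : ℤ) (c : Fin (r d)) => exists_hom_of_class E d (b d c)
  refine ⟨Σ d : D, Fin (r d.1), inferInstance, fun c => -c.1.1, fun c => f c.1.1 c.2,
    fun c => (neg_neg c.1.1).symm ▸ c.1.2, fun P _ φ hφ d hd => ?_⟩
  rw [← LinearMap.range_eq_top, eq_top_iff, ← hb d, Submodule.span_le]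
  rintro _ ⟨c, rfl⟩
  obtain ⟨i, hi⟩ := hφ ⟨⟨d, hd⟩, c⟩
  exact ⟨mapT i d 0 (e d c), by rw [← mapT_comp, hi]; exact hfe d c⟩

/-- An `m`-regular module is covered by copies of `O(-m)`, surjectively on the sections in degree `m`. -/
theorem exists_epi_of_regT (E : (Proj 𝒜).Modules) [E.IsQuasicoherent] (hE : Coh.IsCoh E) {m : ℤ} (h : RegT E m) :
    ∃ (κ : Type) (_ : Finite κ) (a : κ → ℤ) (f : ∀ c, Twist.twist (CohB1.polyGrading n K) (a c) ⟶ E),
      (∀ c, a c = -m) ∧ ∀ (P : (Proj 𝒜).Modules) (_ : P.IsQuasicoherent) (φ : P ⟶ E),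
        (∀ c, ∃ i : Twist.twist (CohB1.polyGrading n K) (a c) ⟶ P, i ≫ φ = f c) →
          Epi φ ∧ Function.Surjective (mapT φ m 0) := by
  obtain ⟨s, -, hs⟩ := exists_homs_span E m h
  haveI := fun j : Ix.{u} n => QCohLib.finite_sections E hE.2
    (isAffineOpen_chartMeet ({j} : Finset (Ix.{u} n)) (Finset.singleton_nonempty j))
  have hfin : ∀ j : Ix.{u} n, ∃ t : Finset Γ(CohB1.tensorMod E (Twist.twist (CohB1.polyGrading n K) m), ⊤),
      Submodule.span Γ(Proj 𝒜, chartMeet K ({j} : Finset (Ix.{u} n)))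
        ((fun g => (s g).app (chartMeet K ({j} : Finset (Ix.{u} n))) (genAt (-m) j)) '' (t : Set _)) = ⊤ := fun j => by
    classical
    obtain ⟨u, hu, hu'⟩ := Submodule.fg_span_iff_fg_span_finset_subset _ |>.1
      ((hs j).symm ▸ (Module.Finite.fg_top : (⊤ : Submodule Γ(Proj 𝒜, chartMeet K ({j} : Finset (Ix.{u} n))) _).FG))
    choose g hg using fun x : u => hu x.2
    refine ⟨Finset.univ.image g, ?_⟩
    refine eq_top_iff.2 ((hs j).symm.le.trans (hu'.le.trans (Submodule.span_mono fun x hx => ?_)))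
    exact ⟨g ⟨x, hx⟩, by simp, hg ⟨x, hx⟩⟩
  choose t ht using hfin
  obtain ⟨κ, hκ, a, f, ha, hf⟩ := exists_cover_degrees E hE {m}
  have ha' : ∀ c, a c = -m := fun c => by
    have := Finset.mem_singleton.1 (ha c); omega
  let e := Fintype.equivFin (Σ j : Ix.{u} n, t j)
  refine ⟨κ ⊕ Fin (Fintype.card (Σ j : Ix.{u} n, t j)), inferInstance, Sum.elim a fun _ => -m,
    fun c => Sum.rec (motive := fun c => Twist.twist (CohB1.polyGrading n K) (Sum.elim a (fun _ => -m) c) ⟶ E)
      f (fun l => s (e.symm l).2.1) c,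
    fun c => by cases c with
      | inl c => exact ha' c
      | inr l => rfl, fun P _ φ hφ => ⟨?_, hf P ‹_› φ (fun c => hφ (Sum.inl c)) m (Finset.mem_singleton_self m)⟩⟩
  refine Preadditive.epi_of_cancel_zero _ fun {T} ψ hψ => hom_eq_zero_of_chart ψ fun j x => ?_
  have hx : x ∈ Submodule.span Γ(Proj 𝒜, chartMeet K ({j} : Finset (Ix.{u} n)))
      ((fun g => (s g).app (chartMeet K ({j} : Finset (Ix.{u} n))) (genAt (-m) j)) '' (t j : Set _)) := by
    rw [ht j]; exact Submodule.mem_top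
  induction hx using Submodule.span_induction with
  | mem y hy =>
    obtain ⟨g, hg, rfl⟩ := hy
    obtain ⟨i, hi⟩ := hφ (Sum.inr (e ⟨j, g, hg⟩))
    have h0 : (s g) ≫ ψ = 0 := by
      have hi' : i ≫ φ = s g := by
        refine hi.trans ?_
        show s (e.symm (e ⟨j, g, hg⟩)).2.1 = s g
        rw [e.symm_apply_apply]
      exact (congrArg (fun χ => χ ≫ ψ) hi').symm.trans ((Category.assoc _ _ _).trans
        ((congrArg (fun χ => i ≫ χ) hψ).trans comp_zero))
    have := congrArg (fun χ : _ ⟶ T => χ.app (chartMeet K ({j} : Finset (Ix.{u} n))) (genAt (-m) j)) h0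
    exact this
  | zero => exact map_zero _
  | add y z _ _ hy hz => rw [map_add, hy, hz, add_zero]
  | smul r y _ hy => rw [Scheme.Modules.Hom.app_smul, hy, smul_zero]

/-- The twists of a sum of copies of `O(-m)` have no cohomology in the degrees of regularity. -/
theorem subsingleton_TH_const {P : (Proj 𝒜).Modules} [P.IsQuasicoherent] {r : ℕ} {b : Fin r → ℤ}
    (S : Splitting P r b) (m : ℤ) (hb : ∀ l, b l = -m) (e : ℤ) (i : ℕ) (h1 : 1 ≤ i) (h2 : i ≤ n)
    (he : -(n : ℤ) ≤ e - m) : Subsingleton (TH P e i) :=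
  S.subsingleton_TH e i fun l => by
    rcases h2.lt_or_eq with h | h
    · exact subsingleton_tw_twist_middle (b l) e h1 h
    · exact subsingleton_tw_twist_pos (b l) e (by rw [hb]; omega) h1

/-- The kernel of a cover by copies of `O(-m)`, surjective on sections in degree `m`, is `(m+1)`-regular. -/
theorem regT_kernel {N P E : (Proj 𝒜).Modules} [N.IsQuasicoherent] [P.IsQuasicoherent] [E.IsQuasicoherent]
    {k : N ⟶ P} {φ : P ⟶ E} {w : k ≫ φ = 0} (h : (ShortComplex.mk k φ w).ShortExact) {r : ℕ} {b : Fin r → ℤ}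
    (S : Splitting P r b) {m : ℤ} (hb : ∀ l, b l = -m) (hE : RegT E m) (hs : Function.Surjective (mapT φ m 0)) :
    RegT N (m + 1) := by
  intro i h1 h2
  obtain ⟨q, rfl⟩ : ∃ q, i = q + 1 := ⟨i - 1, by omega⟩
  have e : m + 1 - ((q + 1 : ℕ) : ℤ) = m - q := by push_cast; ring
  rw [e]
  haveI := subsingleton_TH_const S m hb (m - q) (q + 1) h1 h2 (by omega)
  rcases Nat.eq_zero_or_pos q with hq | hq
  · subst hq
    refine subsingleton_TH_succ_of_surjective h _ 0 ?_
    have hm : m - ((0 : ℕ) : ℤ) = m := by simp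
    rw [hm]; exact hs
  · haveI := hE q hq (by omega)
    exact subsingleton_TH_succ_of_ses h _ q

/-- A module covered by copies of `O(-m)` with `(m+1)`-regular kernel is `m`-regular. -/
theorem regT_of_kernel {N P E : (Proj 𝒜).Modules} [N.IsQuasicoherent] [P.IsQuasicoherent] [E.IsQuasicoherent]
    {k : N ⟶ P} {φ : P ⟶ E} {w : k ≫ φ = 0} (h : (ShortComplex.mk k φ w).ShortExact) {r : ℕ} {b : Fin r → ℤ}
    (S : Splitting P r b) {m : ℤ} (hb : ∀ l, b l = -m) (hN : RegT N (m + 1)) : RegT E m := by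
  intro i h1 h2
  haveI := subsingleton_TH_const S m hb (m - i) i h1 h2 (by omega)
  haveI : Subsingleton (TH N (m - i) (i + 1)) := by
    rcases h2.lt_or_eq with h3 | h3
    · exact hN.propagate (i + 1) (m - i) (by omega) (by push_cast; omega)
    · exact Sys.subsingleton_H_of_fintype_card_le _ (p := i + 1) (by simp; omega)
  exact subsingleton_TH_right_of_ses h _ i

/-- Regularity of the kernel of a cover, for `Curv2.IsMRegular`. -/
theorem isMRegular_kernel {N P E : (Proj 𝒜).Modules} (hN : Coh.IsCoh N) (hP : Coh.IsCoh P) (hE : Coh.IsCoh E)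
    {k : N ⟶ P} {φ : P ⟶ E} {w : k ≫ φ = 0} (h : (ShortComplex.mk k φ w).ShortExact) {r : ℕ} {b : Fin r → ℤ}
    (S : Splitting P r b) {m : ℤ} (hb : ∀ l, b l = -m) (hm : Curv2.IsMRegular K n E m)
    (hs : haveI := hP.1; haveI := hE.1; Function.Surjective (mapT φ m 0)) :
    Curv2.IsMRegular K n N (m + 1) := by
  haveI := hN.1
  haveI := hP.1
  haveI := hE.1
  exact (regT_iff N (m + 1)).2 (regT_kernel h S hb ((regT_iff E m).1 hm) hs)

/-- Regularity from that of the kernel of a cover, for `Curv2.IsMRegular`. -/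
theorem isMRegular_of_kernel {N P E : (Proj 𝒜).Modules} (hN : Coh.IsCoh N) (hP : Coh.IsCoh P) (hE : Coh.IsCoh E)
    {k : N ⟶ P} {φ : P ⟶ E} {w : k ≫ φ = 0} (h : (ShortComplex.mk k φ w).ShortExact) {r : ℕ} {b : Fin r → ℤ}
    (S : Splitting P r b) {m : ℤ} (hb : ∀ l, b l = -m) (hm : Curv2.IsMRegular K n N (m + 1)) :
    Curv2.IsMRegular K n E m := by
  haveI := hN.1
  haveI := hP.1
  haveI := hE.1
  exact (regT_iff E m).2 (regT_of_kernel h S hb ((regT_iff N (m + 1)).1 hm))

/-- Precomposing with a split epimorphism keeps surjectivity. -/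
theorem surjective_mapT_of_comp {Q P E : (Proj 𝒜).Modules} [Q.IsQuasicoherent] [P.IsQuasicoherent] [E.IsQuasicoherent]
    (i : Q ⟶ P) (j : P ⟶ Q) (h : j ≫ i = 𝟙 P) (φ : P ⟶ E) (d : ℤ) (p : ℕ) (hs : Function.Surjective (mapT φ d p)) :
    Function.Surjective (mapT (i ≫ φ) d p) := fun x => by
  obtain ⟨y, hy⟩ := hs x
  refine ⟨mapT j d p y, ?_⟩
  rw [← mapT_comp, ← Category.assoc, h, Category.id_comp, hy]

/-- Regular modules are exactly those with linear one-step covers. -/
theorem regT_iff_exists_cover (E : (Proj 𝒜).Modules) (hE : Coh.IsCoh E) (m : ℤ) :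
    Curv2.IsMRegular K n E m ↔ ∃ (b : ℕ) (φ : (∐ fun _ : Fin b => Twist.twist (CohB1.polyGrading n K) (-m)) ⟶ E),
      Epi φ ∧ Curv2.IsMRegular K n (kernel φ) (m + 1) := by
  haveI := hE.1
  constructor
  · intro h
    obtain ⟨κ, _, a, f, ha, hf⟩ := exists_epi_of_regT E hE ((regT_iff E m).1 h)
    obtain ⟨r, b, P, φ, ⟨S⟩, hb, hφ⟩ := exists_decomp_desc (O := fun d => Twist.twist (CohB1.polyGrading n K) d) a f
    obtain rfl : b = fun _ => -m := funext fun l => by obtain ⟨c, hc⟩ := hb l; rw [← hc, ha]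
    haveI := (Splitting.isCoh S).1
    obtain ⟨hepi, hsurj⟩ := hf P inferInstance φ hφ
    obtain ⟨e⟩ := Decomp.nonempty_iso S
    haveI : Epi (e.inv ≫ φ) := epi_comp _ _
    refine ⟨r, e.inv ≫ φ, inferInstance, ?_⟩
    have hQ : Coh.IsCoh (∐ fun _ : Fin r => Twist.twist (CohB1.polyGrading n K) (-m)) :=
      QCohLib.isCoh_of_iso e (Splitting.isCoh S)
    obtain ⟨T⟩ := Splitting.exists_of_iso (n := n) (K := K) (a := fun _ : Fin r => -m) (Iso.refl _)
    haveI := hQ.1
    have hs : Function.Surjective (mapT (e.inv ≫ φ) m 0) := surjective_mapT_of_comp e.inv e.hom e.hom_inv_id φ m 0 hsurj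
    exact isMRegular_kernel (QCohLib.isCoh_kernel (e.inv ≫ φ) hQ hE.1) hQ hE (shortExact_kernel (e.inv ≫ φ)) T
      (fun _ => rfl) h hs
  · rintro ⟨b, φ, hφ, h⟩
    obtain ⟨T⟩ := Splitting.exists_of_iso (n := n) (K := K) (a := fun _ : Fin b => -m) (Iso.refl _)
    exact isMRegular_of_kernel (QCohLib.isCoh_kernel φ (Splitting.isCoh T) hE.1) (Splitting.isCoh T) hE
      (shortExact_kernel φ) T (fun _ => rfl) h

end Groth.Agent.ProjCoh
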