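import Groth.Agent.ProjCoh.Middle
import Mathlib.LinearAlgebra.Matrix.Determinant.Basic
import Mathlib.GroupTheory.Perm.Sign

/-!
# The top cohomology of `O(d)`

For `n + 1` indices the top cohomology of the constant system supported on the full set is the coefficient
module, by evaluation at an enumeration of the indices; hence `H^n(O(d))` is free on the monomials of degree
`d` in which all exponents are negative.
-/

universe u

namespace Groth.Agent.ProjCoh

open Finset
open Groth.Agent.CechCmp

variable {R : Type u} [CommRing R] {ι : Type u} [Fintype ι] [DecidableEq ι] {n : ℕ} (e : Fin (n + 1) ≃ ι)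
  (A : Type u) [AddCommGroup A] [Module R A]

lemma not_full_of_not_injective (e : Fin (n + 1) ≃ ι) {σ : Fin (n + 1) → ι} (h : ¬ Function.Injective σ) :
    ¬ ((univ : Finset ι) ⊆ img σ ∧ img σ ⊆ univ) := fun hc => h <| by
  have hs : Function.Surjective σ := fun i => by
    obtain ⟨k, -, hk⟩ := Finset.mem_image.1 (hc.1 (mem_univ i))
    exact ⟨k, hk⟩
  exact ((Fintype.bijective_iff_surjective_and_card σ).2 ⟨hs, Fintype.card_congr e⟩).1

lemma top_value_eq_zero (e : Fin (n + 1) ≃ ι) {σ : Fin n → ι}
    (x : onlyIf (R := R) A ((univ : Finset ι) ⊆ img σ ∧ img σ ⊆ univ)) : x = 0 := by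
  refine Subtype.ext (((mem_onlyIf A).1 x.2).resolve_left fun h => ?_)
  have h1 := Finset.card_le_card h.1
  have h2 : (img σ).card ≤ n := Finset.card_image_le.trans (by simp)
  rw [Finset.card_univ, ← Fintype.card_congr e, Fintype.card_fin] at h1
  omega

/-- There are no coboundaries in the top degree. -/
lemma eq_zero_of_mem_B (e : Fin (n + 1) ≃ ι) {c : (intSys (R := R) A (univ : Finset ι) univ).C (n + 1)}
    (hc : c ∈ (intSys (R := R) A (univ : Finset ι) univ).B n) : c = 0 := by
  cases n with
  | zero => exact Sys.mem_B_zero.1 hc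
  | succ m =>
    obtain ⟨b, rfl⟩ := hc
    rw [show b = 0 from funext fun σ => top_value_eq_zero A e (b σ), map_zero]

/-- Evaluation at an enumeration. -/
noncomputable def topEv : (intSys (R := R) A (univ : Finset ι) univ).H n →ₗ[R] A :=
  Submodule.liftQ _
    ((onlyIf (R := R) A _).subtype ∘ₗ LinearMap.proj (R := R)
      (φ := fun σ : Fin (n + 1) → ι => onlyIf (R := R) A ((univ : Finset ι) ⊆ img σ ∧ img σ ⊆ univ)) (⇑e) ∘ₗ
        ((intSys (R := R) A (univ : Finset ι) univ).Z n).subtype)
    fun z hz => LinearMap.mem_ker.2 (by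
      change (z.1 ⇑e).1 = 0
      exact congrArg Subtype.val (congrFun (eq_zero_of_mem_B A e (Submodule.mem_comap.1 hz)) ⇑e))

lemma topEv_cls (z : (intSys (R := R) A (univ : Finset ι) univ).Z n) :
    topEv e A ((intSys (R := R) A (univ : Finset ι) univ).cls n z) = (z.1 ⇑e).1 := rfl

include e in
/-- A cocycle vanishing at a permutation vanishes at the neighbouring ones. -/
lemma apply_swap_eq_zero (z : (intSys (R := R) A (univ : Finset ι) univ).Z n) (σ : Fin (n + 1) → ι)
    (i : Fin n) (h : z.1 σ = 0) : z.1 (σ ∘ Equiv.swap i.castSucc i.succ) = 0 := by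
  let ρ : Fin (n + 2) → ι := Fin.insertNth i.castSucc.castSucc (σ i.succ) σ
  have h0 : ρ ∘ (i.castSucc.castSucc).succAbove = σ := funext fun k => Fin.insertNth_apply_succAbove _ _ _ _
  have hval : ∀ k : Fin (n + 1), (k : ℕ) < i → ρ k.castSucc = σ k := fun k hk => by
    rw [← congrFun h0 k, Function.comp_apply, Fin.succAbove_of_castSucc_lt _ _ (by simp [Fin.lt_def]; omega)]
  have hval' : ∀ k : Fin (n + 1), (i : ℕ) ≤ k → ρ k.succ = σ k := fun k hk => by
    rw [← congrFun h0 k, Function.comp_apply, Fin.succAbove_of_le_castSucc _ _ (by simp [Fin.le_def]; omega)]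
  have hat : ρ i.castSucc.castSucc = σ i.succ := Fin.insertNth_apply_same _ _ _
  have h2 : ρ ∘ (i.succ.succ).succAbove = σ ∘ Equiv.swap i.castSucc i.succ := by
    funext k
    simp only [Function.comp_apply]
    rcases lt_trichotomy (k : ℕ) (i : ℕ) with hk | hk | hk
    · rw [Fin.succAbove_of_castSucc_lt _ _ (by simp [Fin.lt_def]; omega), hval k hk,
        Equiv.swap_apply_of_ne_of_ne (by simp [Fin.ext_iff]; omega) (by simp [Fin.ext_iff]; omega)]
    · obtain rfl : k = i.castSucc := Fin.ext hk
      rw [Fin.succAbove_of_castSucc_lt _ _ (by simp [Fin.lt_def]), hat, Equiv.swap_apply_left]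
    · by_cases hk1 : k = i.succ
      · subst hk1
        rw [Fin.succAbove_of_castSucc_lt _ _ (by simp [Fin.lt_def]), Fin.castSucc_succ, hval' i.castSucc (by simp),
          Equiv.swap_apply_right]
      · have : (i : ℕ) + 1 < k := by
          rcases Nat.lt_or_ge ((i : ℕ) + 1) k with h' | h'
          · exact h'
          · exact absurd (Fin.ext (by simp; omega)) hk1
        rw [Fin.succAbove_of_le_castSucc _ _ (by simp [Fin.le_def]; omega), hval' k (by omega),
          Equiv.swap_apply_of_ne_of_ne (by simp [Fin.ext_iff]; omega) hk1]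
  have hd := congrFun (LinearMap.mem_ker.1 z.2) ρ
  rw [Sys.d_apply] at hd
  have hne : i.castSucc.castSucc ≠ i.succ.succ := fun h' => by
    have := congrArg Fin.val h'
    simp at this
    omega
  rw [Finset.sum_eq_add _ _ hne] at hd
  · rw [(intSys (R := R) A (univ : Finset ι) univ).res_congr z.1 h0 _ (h0 ▸ img_comp_subset ρ _), h, map_zero,
      smul_zero, zero_add, Pi.zero_apply,
      (intSys (R := R) A (univ : Finset ι) univ).res_congr z.1 h2 _ (h2 ▸ img_comp_subset ρ _)] at hd
    rw [IsUnit.smul_eq_zero (isUnit_one.neg.pow _)] at hd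
    refine Subtype.ext ?_
    have hv := congrArg Subtype.val hd
    simp only [LinearMap.comp_apply, coe_cutTo, Submodule.subtype_apply, ZeroMemClass.coe_zero] at hv
    rcases (mem_onlyIf (R := R) A).1 (z.1 (σ ∘ Equiv.swap i.castSucc i.succ)).2 with hc | hc
    · rwa [if_pos ⟨hc.1.trans (h2 ▸ img_comp_subset ρ _), subset_univ _⟩] at hv
    · exact hc
  · rintro k - ⟨hk1, hk2⟩
    have hdup : ρ i.castSucc.castSucc = ρ i.succ.succ := by rw [hat, hval' i.succ (by simp)]
    obtain ⟨a, ha⟩ := Fin.exists_succAbove_eq (Ne.symm hk1)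
    obtain ⟨b, hb⟩ := Fin.exists_succAbove_eq (Ne.symm hk2)
    have hninj : ¬ Function.Injective (ρ ∘ k.succAbove) := fun hi => hne (by
      rw [← ha, ← hb, hi (show (ρ ∘ k.succAbove) a = (ρ ∘ k.succAbove) b by simp [ha, hb, hdup])])
    have hz : z.1 (ρ ∘ k.succAbove) = 0 := Subtype.ext
      (((mem_onlyIf (R := R) A).1 (z.1 (ρ ∘ k.succAbove)).2).resolve_left
        (not_full_of_not_injective e hninj))
    rw [hz, map_zero, smul_zero]
  · exact fun h' => absurd (mem_univ _) h'
  · exact fun h' => absurd (mem_univ _) h'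

/-- The alternating cocycle with a given value. -/
noncomputable def topCochain (a : A) : (intSys (R := R) A (univ : Finset ι) univ).C (n + 1) := fun σ =>
  cutTo A _ ((Matrix.det (Matrix.of fun k l => if σ k = e l then (1 : R) else 0)) • a)

omit [Fintype ι] in
lemma det_eq_zero_of_not_injective {σ : Fin (n + 1) → ι} (h : ¬ Function.Injective σ) :
    Matrix.det (Matrix.of fun k l => if σ k = e l then (1 : R) else 0) = 0 := by
  obtain ⟨a, b, hab, hne⟩ := Function.not_injective_iff.1 h
  exact Matrix.det_zero_of_row_eq hne (funext fun l => by simp [hab])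

lemma topCochain_val (a : A) (σ : Fin (n + 1) → ι) :
    (topCochain (R := R) e A a σ).1 = Matrix.det (Matrix.of fun k l => if σ k = e l then (1 : R) else 0) • a := by
  simp only [topCochain, coe_cutTo]
  split_ifs with h
  · rfl
  · rw [det_eq_zero_of_not_injective e fun hi => h ⟨fun i _ => ?_, subset_univ _⟩, zero_smul]
    obtain ⟨k, rfl⟩ := ((Fintype.bijective_iff_injective_and_card σ).2 ⟨hi, Fintype.card_congr e⟩).2 i
    exact mem_img σ k

lemma topCochain_mem_Z (a : A) : topCochain (R := R) e A a ∈ (intSys (R := R) A (univ : Finset ι) univ).Z n := by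
  refine LinearMap.mem_ker.2 (funext fun ρ => Subtype.ext ?_)
  rw [Sys.d_apply]
  simp only [AddSubmonoidClass.coe_finsetSum, SetLike.val_smul, LinearMap.comp_apply, coe_cutTo,
    Submodule.subtype_apply, Pi.zero_apply, ZeroMemClass.coe_zero]
  by_cases hρ : (univ : Finset ι) ⊆ img ρ ∧ img ρ ⊆ univ
  swap
  · exact Finset.sum_eq_zero fun k _ => by rw [if_neg hρ, smul_zero]
  simp only [if_pos hρ, topCochain_val, smul_smul, ← Finset.sum_smul]
  let M : Matrix (Fin (n + 2)) (Fin (n + 2)) R :=
    Matrix.of fun k => Fin.cons 1 fun l => if ρ k = e l then (1 : R) else 0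
  have hM : M.det = 0 := by
    let c : Fin (n + 2) → R := Fin.cons 1 fun _ => -1
    have h1 : (M.updateCol 0 fun k => ∑ l, c l • M k l).det = 0 := by
      refine Matrix.det_eq_zero_of_column_eq_zero 0 fun k => ?_
      obtain ⟨l₀, hl₀⟩ := e.surjective (ρ k)
      rw [Matrix.updateCol_self, Fin.sum_univ_succ]
      simp [M, c, ← hl₀]
    rwa [Matrix.det_updateCol_sum, show c 0 = 1 from Fin.cons_zero _ _, one_smul] at h1
  rw [Matrix.det_succ_column_zero] at hM
  have e2 : ∑ k : Fin (n + 2), (-1 : R) ^ (k : ℕ) *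
      Matrix.det (Matrix.of fun k' l => if (ρ ∘ k.succAbove) k' = e l then (1 : R) else 0) = 0 := by
    refine Eq.trans (Finset.sum_congr rfl fun k _ => ?_) hM
    simp only [M, Matrix.of_apply, Fin.cons_zero, mul_one]
    rfl
  rw [e2, zero_smul]

/-- **The top cohomology of the constant system on the full set.** -/
theorem topEv_bijective : Function.Bijective (topEv (R := R) e A) := by
  refine ⟨(injective_iff_map_eq_zero _).2 fun x hx => ?_, fun a => ?_⟩
  · obtain ⟨z, rfl⟩ := Submodule.mkQ_surjective _ x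
    have he : z.1 ⇑e = 0 := Subtype.ext hx
    have key : ∀ π : Equiv.Perm (Fin (n + 1)), z.1 (⇑e ∘ ⇑π) = 0 := fun π => by
      have hπ : π ∈ Submonoid.closure (Set.range fun i : Fin n => Equiv.swap i.castSucc i.succ) := by
        rw [Equiv.Perm.mclosure_swap_castSucc_succ]; exact Submonoid.mem_top π
      induction hπ using Submonoid.closure_induction_right with
      | one => exact he
      | mul_right π _ τ hτ ih =>
        obtain ⟨i, rfl⟩ := hτ
        exact apply_swap_eq_zero e A z (⇑e ∘ ⇑π) i ih
    refine ((intSys (R := R) A (univ : Finset ι) univ).cls_eq_zero_iff z).2 ?_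
    rw [show z.1 = 0 from funext fun σ => ?_]
    · exact zero_mem _
    by_cases hσ : Function.Injective σ
    · have hb := (Fintype.bijective_iff_injective_and_card σ).2 ⟨hσ, Fintype.card_congr e⟩
      rw [show σ = ⇑e ∘ ⇑((Equiv.ofBijective σ hb).trans e.symm) from funext fun k => by simp]
      exact key _
    · exact Subtype.ext (((mem_onlyIf (R := R) A).1 (z.1 σ).2).resolve_left (not_full_of_not_injective e hσ))
  · refine ⟨Submodule.Quotient.mk ⟨_, topCochain_mem_Z e A a⟩, ?_⟩
    refine (topEv_cls e A ⟨_, topCochain_mem_Z e A a⟩).trans ?_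
    rw [topCochain_val]
    have : Matrix.of (fun k l => if e k = e l then (1 : R) else 0) = 1 := by
      ext k l; simp [Matrix.one_apply]
    rw [this, Matrix.det_one, one_smul]

variable [Nonempty ι]

/-- The all-negative part of a top class. -/
noncomputable def topNeg (d : ℤ) : (twist R ι d).H n →ₗ[R] allNeg R ι d :=
  topEv e (allNeg R ι d) ∘ₗ (toTop d).mapH n

omit [Nonempty ι] in
lemma toTop_fromTop_app (d : ℤ) (s : Finset ι)
    (x : onlyIf (R := R) (allNeg R ι d) ((univ : Finset ι) ⊆ s ∧ s ⊆ univ)) :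
    (toTop (R := R) d).app s ((fromTop d).app s x) = x := by
  refine Subtype.ext ?_
  change (cutTo (R := R) (allNeg R ι d) ((univ : Finset ι) ⊆ s ∧ s ⊆ univ) (keepE d s (fromTopApp d s x))).1 = x.1
  rw [coe_cutTo]
  have hk : keepE d s (fromTopApp d s x) = x.1 := Subtype.ext (by
    rw [coe_keepE, coe_fromTopApp]
    ext a
    rw [coeff_keep]
    split_ifs with h
    · rfl
    · by_contra hne
      have ha := x.1.2 a (Ne.symm hne)
      obtain ⟨i, hi⟩ := Option.ne_none_iff_exists'.1 h
      have := first_some hi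
      have := ha.2 i
      omega)
  rw [hk]
  rcases (mem_onlyIf (R := R) (allNeg R ι d)).1 x.2 with h | h
  · rw [if_pos h]
  · simp [h]

include e in
omit [Nonempty ι] in
/-- The all-negative part is bijective on top cohomology. -/
theorem toTop_mapH_bijective (d : ℤ) (p : ℕ) (hp : n = p + 1) :
    Function.Bijective ((toTop (R := R) (ι := ι) d).mapH (p + 1)) := by
  subst hp
  refine ⟨(injective_iff_map_eq_zero _).2 fun x hx => ?_, fun y => ?_⟩
  · obtain ⟨z, rfl⟩ := Submodule.mkQ_surjective _ x
    obtain ⟨b, hb⟩ := ((intSys (R := R) (allNeg R ι d) (univ : Finset ι) univ).cls_eq_zero_iff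
      ((toTop d).mapZ (p + 1) z)).1 hx
    exact ((twist R ι d).cls_eq_zero_iff z).2 (twist_mem_B_of_toTop d p z b hb)
  · obtain ⟨w, rfl⟩ := Submodule.mkQ_surjective _ y
    refine ⟨(fromTop d).mapH (p + 1) (Submodule.Quotient.mk w), congrArg Submodule.Quotient.mk (Subtype.ext ?_)⟩
    exact funext fun σ => toTop_fromTop_app d (img σ) (w.1 σ)

omit [Nonempty ι] in
/-- **`H^n(O(d))` is the module of all-negative monomials**, for `n ≥ 1`. -/
theorem topNeg_bijective (hn : 1 ≤ n) (d : ℤ) : Function.Bijective (topNeg (R := R) e d) := by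
  obtain ⟨p, rfl⟩ : ∃ p, n = p + 1 := ⟨n - 1, by omega⟩
  have h1 := topEv_bijective (R := R) e (allNeg R ι d)
  have h2 := toTop_mapH_bijective (R := R) e d p rfl
  rw [topNeg, LinearMap.coe_comp]
  exact h1.comp h2

end Groth.Agent.ProjCoh
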