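import Groth.Agent.ProjCoh.Middle
import Groth.Agent.ProjCoh.RegularTwist
import Groth.Agent.ProjTwist.QCoh

/-!
# The cohomology of `O(a)` and its twists on projective space
-/

universe u

open CategoryTheory AlgebraicGeometry TopologicalSpace Opposite
open scoped Groth.Agent.CohVanish

namespace Groth.Agent.ProjCoh

open Groth.Agent.CechCmp Groth.Agent.CohVanish

section Laurent

variable {R : Type u} [CommRing R] {ι : Type u} [Fintype ι] [DecidableEq ι] [Nonempty ι]

lemma mul_mem_reg {b : ℤ} {s : Finset ι} {j : ι} (hj : j ∈ s) {f : Laurent R ι}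
    (hf : f ∈ supp R (cone b s)) :
    f * AddMonoidAlgebra.single ((-b) • ev j) 1 ∈ reg R s := by
  have := mul_ev_mem_cone (d := -b) hj hf
  rwa [add_neg_cancel] at this

/-- Degree `b` Laurent polynomials as regular functions times `x_j^b`. -/
noncomputable def divMono (b : ℤ) {s : Finset ι} {j : ι} (hj : j ∈ s) :
    supp R (cone b s) →ₗ[R] reg R s where
  toFun f := ⟨(f : Laurent R ι) * AddMonoidAlgebra.single ((-b) • ev j) 1, mul_mem_reg hj f.2⟩
  map_add' f g := Subtype.ext (add_mul _ _ _)
  map_smul' r f := Subtype.ext (smul_mul_assoc _ _ _)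

lemma coe_divMono (b : ℤ) {s : Finset ι} {j : ι} (hj : j ∈ s) (f : supp R (cone b s)) :
    (divMono b hj f : Laurent R ι) = (f : Laurent R ι) * AddMonoidAlgebra.single ((-b) • ev j) 1 := rfl

lemma divMono_bijective (b : ℤ) {s : Finset ι} {j : ι} (hj : j ∈ s) :
    Function.Bijective (divMono (R := R) b hj) := by
  have e : ∀ f : Laurent R ι, f * AddMonoidAlgebra.single ((-b) • ev j) 1 * AddMonoidAlgebra.single (b • ev j) 1 = f :=
    fun f => by rw [mul_assoc, AddMonoidAlgebra.single_mul_single, one_mul, ← add_smul, neg_add_cancel,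
      zero_smul, ← AddMonoidAlgebra.one_def, mul_one]
  refine ⟨fun f g h => Subtype.ext ?_, fun g => ⟨⟨(g : Laurent R ι) * AddMonoidAlgebra.single (b • ev j) 1, ?_⟩, Subtype.ext ?_⟩⟩
  · have h' := congrArg (fun z : reg R s => (z : Laurent R ι) * AddMonoidAlgebra.single (b • ev j) 1) h
    simpa only [coe_divMono, e] using h'
  · have := mul_ev_mem_cone (d := b) hj (mem_reg.1 g.2)
    rwa [zero_add] at this
  · rw [coe_divMono, mul_assoc, AddMonoidAlgebra.single_mul_single, one_mul, ← add_smul, add_neg_cancel,
      zero_smul, ← AddMonoidAlgebra.one_def, mul_one]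

/-- No global Laurent polynomials in negative degree, with two variables at least. -/
theorem subsingleton_twist_H_zero {d : ℤ} (hd : d < 0) (hcard : 2 ≤ Fintype.card ι) :
    Subsingleton ((twist R ι d).H 0) := by
  refine subsingleton_of_forall_eq 0 fun x => ?_
  obtain ⟨z, rfl⟩ := Submodule.mkQ_surjective _ x
  have hglobal : ∀ a, a ∉ global (ι := ι) d := fun a ha => by
    have hnn : ∀ k, 0 ≤ a k := fun k => by
      by_contra hk
      push Not at hk
      obtain ⟨k', hk'⟩ := Fintype.exists_ne_of_one_lt_card (by omega) k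
      exact hk' ((ha.2 k' k hk)).symm
    have := ha.1 ▸ Finset.sum_nonneg (s := Finset.univ) fun k _ => hnn k
    omega
  refine ((twist R ι d).cls_eq_zero_iff z).2 (Sys.mem_B_zero.2 (funext fun σ => Subtype.ext ?_))
  obtain ⟨i, rfl⟩ : ∃ i, σ = fun _ => i := ⟨σ 0, funext fun k => congrArg σ (Fin.ext (by omega))⟩
  ext a
  by_contra hne
  exact hglobal a (twist_Z0_mem d z i a (by simpa using hne))

end Laurent

variable {n : ℕ} {R : Type u} [CommRing R]

local notation "𝒜" => CohB1.polyGrading n R

instance isQuasicoherent_twist_self (a : ℤ) :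
    (Twist.twist (CohB1.polyGrading n R) a).IsQuasicoherent := by
  rw [ProjTwist.twist_eq_tilde]
  exact ProjTwist.isQuasicoherent_tilde _ _ a

variable (a d : ℤ)

/-- Degree `a + d` Laurent polynomials as sections of the `d`-th twist of `O(a)`. -/
noncomputable def pApp (s : Finset (Ix.{u} n)) :
    supp R (cone (ι := Ix.{u} n) (a + d) s) →ₗ[R] (secSys (Twist.twist (CohB1.polyGrading n R) a)).obj s :=
  open Classical in
  if hs : s.Nonempty then
    { toFun := fun f => theta R s (divMono (a + d) (pickIx_mem hs) f) • gen (pickIx_mem hs) a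
      map_add' := fun f g => by rw [map_add, map_add]; exact add_smul (M := Γ(Twist.twist (CohB1.polyGrading n R) a, chartMeet R s)) _ _ _
      map_smul' := fun r f => by
        refine Eq.trans ?_ (secSys_smul_base (Twist.twist (CohB1.polyGrading n R) a) s r _).symm
        rw [map_smul, Algebra.smul_def, map_mul]
        exact mul_smul (β := Γ(Twist.twist (CohB1.polyGrading n R) a, chartMeet R s)) _ _ _ }
  else 0

lemma pApp_apply {s : Finset (Ix.{u} n)} (hs : s.Nonempty) (f : supp R (cone (ι := Ix.{u} n) (a + d) s)) :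
    pApp a d s f = theta R s (divMono (a + d) (pickIx_mem hs) f) • gen (pickIx_mem hs) a := by
  unfold pApp
  rw [dif_pos hs]
  rfl

/-- The twisted Laurent system maps to the `d`-th twist of `O(a)`. -/
noncomputable def pHom :
    Sys.Hom (twist R (Ix.{u} n) (a + d)) ((ofModule (Twist.twist (CohB1.polyGrading n R) a)).twSys d) where
  app := pApp a d
  nat {s t} h f hs := by
    let L := Twist.twist (CohB1.polyGrading n R) a
    refine (pApp_apply a d (hs.mono h) _).trans ?_
    change _ = theta R t (cmpU d h) •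
      L.presheaf.map (homOfLE (RSh.meetOpen_anti (chartU R) h)).op (pApp a d s f : (secSys L).obj s)
    rw [pApp_apply a d hs f]
    refine Eq.trans ?_ (congrArg (fun v => theta R t (cmpU d h) • v) (secRes_smul L h _ _)).symm
    rw [gen_res h (pickIx_mem hs) a, ← theta_uz_smul_gen (h (pickIx_mem hs)) (pickIx_mem (hs.mono h)) a,
      smul_smul, smul_smul, ← map_mul, ← map_mul, cmpU_of_nonempty d h hs]
    congr 2
    refine Subtype.ext ?_
    simp only [Subalgebra.coe_mul, coe_incl, coe_divMono, coe_uz, Submodule.coe_inclusion]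
    rw [mul_left_comm, mul_assoc]
    congr 1
    simp only [AddMonoidAlgebra.single_mul_single, one_mul]
    congr 1
    module

lemma pHom_bijective (s : Finset (Ix.{u} n)) (hs : s.Nonempty) :
    Function.Bijective ((pHom (R := R) a d).app s) := by
  have e : ⇑((pHom (R := R) a d).app s) = fun f =>
      theta R s (divMono (a + d) (pickIx_mem hs) f) • gen (pickIx_mem hs) a := funext (pApp_apply a d hs)
  rw [e]
  exact (isFreeGen_gen (pickIx_mem hs) a (chartMeet R s) le_rfl).comp
    ((theta_bijective s hs).comp (divMono_bijective (a + d) (pickIx_mem hs)))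

theorem subsingleton_tw_twist_middle {i : ℕ} (h0 : 0 < i) (hi : i < n) :
    Subsingleton (((ofModule (Twist.twist (CohB1.polyGrading n R) a)).twSys d).H i) := by
  obtain ⟨p, rfl⟩ : ∃ p, i = p + 1 := ⟨i - 1, by omega⟩
  haveI := subsingleton_twist_H_middle (R := R) (ι := Ix.{u} n) (a + d) p (by simp; omega)
  exact (bijective_mapH (pHom a d) (pHom_bijective a d) (p + 1)).2.subsingleton

theorem subsingleton_tw_twist_pos (hd : -((n : ℤ) + 1) < a + d) {i : ℕ} (h0 : 0 < i) :
    Subsingleton (((ofModule (Twist.twist (CohB1.polyGrading n R) a)).twSys d).H i) := by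
  obtain ⟨p, rfl⟩ : ∃ p, i = p + 1 := ⟨i - 1, by omega⟩
  haveI := subsingleton_twist_H_succ (R := R) (ι := Ix.{u} n) (d := a + d) (by simpa using hd) p
  exact (bijective_mapH (pHom a d) (pHom_bijective a d) (p + 1)).2.subsingleton

theorem subsingleton_tw_twist_zero (hd : a + d < 0) (hn : 1 ≤ n) :
    Subsingleton (((ofModule (Twist.twist (CohB1.polyGrading n R) a)).twSys d).H 0) := by
  haveI := subsingleton_twist_H_zero (R := R) (ι := Ix.{u} n) hd (by simp; omega)
  exact (bijective_mapH (pHom a d) (pHom_bijective a d) 0).2.subsingleton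

end Groth.Agent.ProjCoh
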