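import Groth.Agent.ProjCoh.TwSys
import Groth.Agent.ProjCoh.Coherent
import Groth.Agent.ProjCoh.TensorSections
import Groth.Agent.ProjTwist.Basic
import Groth.Prelude.Def_Twist2

/-!
# Sections of `M(d)` on the charts of projective space; Serre's vanishing theorem
-/

universe u

open CategoryTheory AlgebraicGeometry TopologicalSpace Opposite
open scoped Groth.Agent.CohVanish

namespace Groth.Agent.ProjCoh

open Groth.Agent.CechCmp Groth.Agent.CohVanish

variable {n : ℕ} {R : Type u} [CommRing R]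

local notation "𝒜" => CohB1.polyGrading n R
local notation "Xv" i => (MvPolynomial.X (ULift.down i) : MvPolynomial (Fin (n + 1)) R)

lemma X_pow_mem (i : Ix.{u} n) (k : ℕ) : (Xv i) ^ k ∈ 𝒜 k := by
  have := (MvPolynomial.isHomogeneous_X R i.down).pow k
  rwa [one_mul] at this

lemma X_notMem {s : Finset (Ix.{u} n)} {j : Ix.{u} n} (hj : j ∈ s) {y : ProjectiveSpectrum 𝒜}
    (hy : y ∈ chartMeet R s) : (Xv j) ∉ y.asHomogeneousIdeal :=
  (iInf₂_le (f := fun i (_ : i ∈ s) => chartU R i) j hj) hy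

lemma X_pow_notMem {s : Finset (Ix.{u} n)} {j : Ix.{u} n} (hj : j ∈ s) {y : ProjectiveSpectrum 𝒜}
    (hy : y ∈ chartMeet R s) (k : ℕ) : (Xv j) ^ k ∉ y.asHomogeneousIdeal :=
  fun h => X_notMem hj hy (y.isPrime.mem_of_pow_mem k h)

/-- The value of a regular function. -/
noncomputable def valAt {U : (Proj 𝒜).Opens} (c : Γ(Proj 𝒜, U)) (y : ProjectiveSpectrum 𝒜) (hy : y ∈ U) :
    Twist.Loc 𝒜 y :=
  ((show @Twist.O _ _ _ _ _ 𝒜 _ (op U) from c).1 ⟨y, hy⟩).val

lemma valAt_mul {U : (Proj 𝒜).Opens} (c c' : Γ(Proj 𝒜, U)) (y : ProjectiveSpectrum 𝒜) (hy : y ∈ U) :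
    valAt (c * c') y hy = valAt c y hy * valAt c' y hy :=
  HomogeneousLocalization.val_mul _ _

lemma valAt_secHom {s : Finset (Ix.{u} n)} (k : ℕ) (a : MvPolynomial (Fin (n + 1)) R)
    (ha : a ∈ 𝒜 (k • s.card)) (y : ProjectiveSpectrum 𝒜) (hy : y ∈ chartMeet R s)
    (hx : (xs (R := R) s) ^ k ∉ y.asHomogeneousIdeal) :
    valAt (secHom s (HomogeneousLocalization.Away.mk 𝒜 (xs_mem s) k a ha)) y hy =
      Localization.mk a ⟨(xs s) ^ k, hx⟩ := by
  unfold valAt secHom
  change (((ProjectiveSpectrum.Proj.awayToSection 𝒜 (xs s)).1 (HomogeneousLocalization.Away.mk 𝒜 (xs_mem s) k a ha)).val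
    ⟨y, (chartMeet_eq (R := R) s).le hy⟩).val = _
  rw [ProjectiveSpectrum.Proj.awayToSection_apply, HomogeneousLocalization.Away.val_mk,
    Localization.mk_eq_mk', Localization.mk_eq_mk', IsLocalization.map_mk']
  rfl

lemma valAt_rat {t : Finset (Ix.{u} n)} {i l : Ix.{u} n} (hl : l ∈ t) (k : ℕ)
    (y : ProjectiveSpectrum 𝒜) (hy : y ∈ chartMeet R t) :
    valAt (theta R t (rat hl k i)) y hy = Localization.mk ((Xv i) ^ k) ⟨(Xv l) ^ k, X_pow_notMem hl hy k⟩ := by
  classical
  have hsplit : (xs (R := R) t) = (Xv l) * xs (t.erase l) := (Finset.mul_prod_erase t _ hl).symm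
  have hmem : (Xv i) ^ k * (xs (t.erase l)) ^ k ∈ 𝒜 (k • t.card) := by
    have h1 := SetLike.pow_mem_graded k (xs_mem (R := R) (t.erase l))
    have h2 := SetLike.mul_mem_graded (X_pow_mem (R := R) i k) h1
    have he : k + k • (t.erase l).card = k • t.card := by
      rw [Finset.card_erase_of_mem hl, smul_eq_mul, smul_eq_mul]
      have : 0 < t.card := Finset.card_pos.2 ⟨l, hl⟩
      calc k + k * (t.card - 1) = k * (t.card - 1 + 1) := by ring
        _ = k * t.card := by rw [Nat.sub_add_cancel this]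
    exact he ▸ h2
  have hz : psiR R t (HomogeneousLocalization.Away.mk 𝒜 (xs_mem t) k _ hmem) = rat hl k i := by
    refine Subtype.ext ?_
    change psi R t _ = _
    rw [psi_mk, map_mul, map_pow, map_pow, toL_xs, coe_rat]
    simp only [toL, MvPolynomial.coe_eval₂Hom, MvPolynomial.eval₂_X, lv, AddMonoidAlgebra.single_pow, one_pow,
      AddMonoidAlgebra.single_mul_single, one_mul]
    congr 1
    funext v
    by_cases hv : v = l
    · subst hv
      rcases i with ⟨i⟩
      simp [es, ev, Pi.single_apply, hl]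
      ring
    · simp [es, ev, Pi.single_apply, Finset.mem_erase, hv]
  have hx : (xs (R := R) t) ^ k ∉ y.asHomogeneousIdeal := fun h =>
    (((chartMeet_eq (R := R) t).le hy) : xs (R := R) t ∉ y.asHomogeneousIdeal) (y.isPrime.mem_of_pow_mem k h)
  rw [← hz, theta_psiR, valAt_secHom k _ hmem y hy hx, Localization.mk_eq_mk_iff, Localization.r_iff_exists]
  exact ⟨1, by simp only [Submonoid.coe_one, one_mul, hsplit, mul_pow]; ring⟩

/-- The generator `x_j^d` of `O(d)` where `x_j` does not vanish. -/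
noncomputable def gen {s : Finset (Ix.{u} n)} {j : Ix.{u} n} (hj : j ∈ s) (d : ℤ) :
    Γ(Twist.twist 𝒜 d, chartMeet R s) :=
  ProjTwist.fracSect (chartMeet R s) (i := d.toNat) (j := (-d).toNat)
    ⟨(Xv j) ^ d.toNat, X_pow_mem j _⟩ ⟨(Xv j) ^ (-d).toNat, X_pow_mem j _⟩
    (fun y => X_pow_notMem hj y.2 _) (by omega)

theorem isFreeGen_gen {s : Finset (Ix.{u} n)} {j : Ix.{u} n} (hj : j ∈ s) (d : ℤ) :
    IsFreeGen (Twist.twist 𝒜 d) (gen (R := R) hj d) := fun _ hV =>
  ProjTwist.bijective_smul_fracSect (⟨(Xv j) ^ d.toNat, X_pow_mem j _⟩ : 𝒜 d.toNat)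
    ⟨(Xv j) ^ (-d).toNat, X_pow_mem j _⟩ (fun y => X_pow_notMem hj (hV y.2) _)
    (fun y => X_pow_notMem hj (hV y.2) _) (by omega)

theorem theta_uz_smul_gen {t : Finset (Ix.{u} n)} {i l : Ix.{u} n} (hi : i ∈ t) (hl : l ∈ t) (d : ℤ) :
    theta R t (uz hi hl d) • gen (R := R) hl d = gen hi d := by
  refine ProjTwist.sectN_ext fun y => ?_
  refine (ProjTwist.smulT_val (U := chartMeet R t) (theta R t (uz hi hl d)) (gen hl d) y).trans ?_
  change valAt (theta R t (uz hi hl d)) y.1 y.2 * Localization.mk _ _ = Localization.mk _ _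
  rw [uz_eq_rat_mul_rat hi hl (a := d.toNat) (b := (-d).toNat) (by omega), map_mul]
  erw [valAt_mul, valAt_rat hl _ y.1 y.2, valAt_rat hi _ y.1 y.2]
  rw [Localization.mk_mul, Localization.mk_mul,
    Localization.mk_eq_mk_iff, Localization.r_iff_exists]
  exact ⟨1, by simp only [Submonoid.coe_one, one_mul, Submonoid.coe_mul]; ring⟩

lemma gen_res {s t : Finset (Ix.{u} n)} (h : s ⊆ t) {j : Ix.{u} n} (hj : j ∈ s) (d : ℤ) :
    (Twist.twist 𝒜 d).presheaf.map (homOfLE (RSh.meetOpen_anti (chartU R) h)).op (gen (R := R) hj d) =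
      gen (h hj) d := rfl

variable (M : (Proj (CohB1.polyGrading n R)).Modules) [M.IsQuasicoherent] (d : ℤ)

/-- Tensoring with the chosen generator. -/
noncomputable def twApp {s : Finset (Ix.{u} n)} (hs : s.Nonempty) :
    (secSys M).obj s →ₗ[R] (secSys (CohB1.tensorMod M (Twist.twist 𝒜 d))).obj s where
  toFun x := SecTwist.tmul M (Twist.twist 𝒜 d) (chartMeet R s) (asSec M s x) (gen (pickIx_mem hs) d)
  map_add' x y := tmul_add_left M _ _ _ _ _
  map_smul' r x := by
    refine Eq.trans ?_ (secSys_smul_base (CohB1.tensorMod M (Twist.twist 𝒜 d)) s r _).symm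
    exact (congrArg (fun z => SecTwist.tmul M (Twist.twist 𝒜 d) (chartMeet R s) z (gen (pickIx_mem hs) d))
      (secSys_smul_base M s r x)).trans (tmul_smul_left M _ _ _ _ _)

open Classical in
/-- Tensoring with the chosen generator, on every set. -/
noncomputable def twAppAll (s : Finset (Ix.{u} n)) :
    (secSys M).obj s →ₗ[R] (secSys (CohB1.tensorMod M (Twist.twist 𝒜 d))).obj s :=
  if hs : s.Nonempty then twApp M d hs else 0

lemma twAppAll_apply {s : Finset (Ix.{u} n)} (hs : s.Nonempty) (x : (secSys M).obj s) :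
    twAppAll M d s x = SecTwist.tmul M (Twist.twist 𝒜 d) (chartMeet R s) (asSec M s x) (gen (pickIx_mem hs) d) := by
  rw [twAppAll, dif_pos hs]
  rfl

/-- The twisted system of `M` maps to the system of `M(d)`. -/
noncomputable def twModHom :
    Sys.Hom ((ofModule M).twSys d) (secSys (CohB1.tensorMod M (Twist.twist 𝒜 d))) where
  app s := twAppAll M d s
  nat {s t} h x hs := by
    have hle : chartMeet R t ≤ chartMeet R s := RSh.meetOpen_anti (chartU R) h
    refine (twAppAll_apply M d (hs.mono h) _).trans (Eq.trans ?_ (congrArg _ (twAppAll_apply M d hs x)).symm)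
    change SecTwist.tmul M (Twist.twist 𝒜 d) (chartMeet R t)
        (theta R t (cmpU d h) • M.presheaf.map (homOfLE hle).op (asSec M s x)) (gen (pickIx_mem (hs.mono h)) d) =
      (CohB1.tensorMod M (Twist.twist 𝒜 d)).presheaf.map (homOfLE hle).op
        (SecTwist.tmul M (Twist.twist 𝒜 d) (chartMeet R s) (asSec M s x) (gen (pickIx_mem hs) d))
    rw [← tmul_smul_right, cmpU_of_nonempty d h hs, theta_uz_smul_gen, map_tmul_gen,
      gen_res h (pickIx_mem hs) d]

lemma twModHom_bijective (s : Finset (Ix.{u} n)) (hs : s.Nonempty) :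
    Function.Bijective ((twModHom M d).app s) := by
  have e : ⇑((twModHom M d).app s) = fun x => SecTwist.tmul M (Twist.twist 𝒜 d) (chartMeet R s)
      (asSec M s x) (gen (pickIx_mem hs) d) := funext fun x => twAppAll_apply M d hs x
  rw [e]
  exact tmul_gen_bijective M (isFreeGen_gen (pickIx_mem hs) d) (le_refl (chartMeet R s))

end Groth.Agent.ProjCoh
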